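import Cfsg.Agent.Lib.Helper54.Conj

set_option autoImplicit false

namespace Cfsg.Agent.Lib.Helper54

open Cfsg
open scoped commutatorElement Pointwise

variable {G : Type*} [Group G] {p : ℕ}

theorem relIndex_sup_right_of_le_normalizer {H N : Subgroup G}
    (h : H ≤ Subgroup.normalizer (N : Set G)) : N.relIndex (H ⊔ N) = N.relIndex H := by
  letI := Subgroup.normal_subgroupOf_of_le_normalizer h
  letI := Subgroup.normal_subgroupOf_sup_of_le_normalizer h
  exact Nat.card_congr (QuotientGroup.quotientInfEquivProdNormalizerQuotient H N h).toEquiv.symm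

theorem card_mul_relIndex {A B : Subgroup G} (h : A ≤ B) :
    Nat.card ↥A * A.relIndex B = Nat.card ↥B := by
  have := Subgroup.relIndex_mul_relIndex (⊥ : Subgroup G) A B bot_le h
  simpa [Subgroup.relIndex_bot_left] using this

/-- `|N : T ∩ N| = |TN : T|` when `T` normalises `N` (finite group). -/
theorem relIndex_eq_relIndex_sup_of_le_normalizer [Finite G] {T N : Subgroup G}
    (h : T ≤ Subgroup.normalizer (N : Set G)) : T.relIndex N = T.relIndex (T ⊔ N) := by
  have h1 : Nat.card ↥N * N.relIndex (T ⊔ N) = Nat.card ↥(T ⊔ N : Subgroup G) :=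
    card_mul_relIndex le_sup_right
  have h2 : Nat.card ↥T * T.relIndex (T ⊔ N) = Nat.card ↥(T ⊔ N : Subgroup G) :=
    card_mul_relIndex le_sup_left
  have h3 : Nat.card ↥(T ⊓ N : Subgroup G) * (T ⊓ N).relIndex T = Nat.card ↥T :=
    card_mul_relIndex inf_le_left
  have h4 : Nat.card ↥(T ⊓ N : Subgroup G) * (T ⊓ N).relIndex N = Nat.card ↥N :=
    card_mul_relIndex inf_le_right
  rw [Subgroup.inf_relIndex_left] at h3
  rw [Subgroup.inf_relIndex_right] at h4
  rw [relIndex_sup_right_of_le_normalizer h] at h1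
  have hpos : 0 < Nat.card ↥(T ⊓ N : Subgroup G) := Nat.card_pos
  have hr : 0 < N.relIndex T := by
    rcases Nat.eq_zero_or_pos (N.relIndex T) with h0 | h0
    · rw [h0, mul_zero] at h3
      exact absurd h3.symm (Nat.card_pos (α := ↥T)).ne'
    · exact h0
  -- |T∩N| * r * x = |T∩N| * y * r
  have h5 : Nat.card ↥(T ⊓ N : Subgroup G) * N.relIndex T * T.relIndex (T ⊔ N)
      = Nat.card ↥(T ⊓ N : Subgroup G) * T.relIndex N * N.relIndex T := by
    rw [h3, h4, h2, h1]
  have h6 : Nat.card ↥(T ⊓ N : Subgroup G) * N.relIndex T * T.relIndex (T ⊔ N)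
      = Nat.card ↥(T ⊓ N : Subgroup G) * N.relIndex T * T.relIndex N := by
    rw [h5]; ring
  exact (Nat.eq_of_mul_eq_mul_left (Nat.mul_pos hpos hr) h6).symm

/-- If a Sylow `p`-subgroup `T` normalises `N`, then `T ∩ N` is a Sylow `p`-subgroup of `N`. -/
theorem exists_sylow_eq_subgroupOf [Finite G] [Fact p.Prime] (T : Sylow p G) (N : Subgroup G)
    (h : (T : Subgroup G) ≤ Subgroup.normalizer (N : Set G)) :
    ∃ P : Sylow p ↥N, (P : Subgroup ↥N) = (T : Subgroup G).subgroupOf N := by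
  have h1 : IsPGroup p ↥((T : Subgroup G).subgroupOf N) :=
    T.isPGroup'.comap_of_injective N.subtype N.subtype_injective
  have h2 : ¬ p ∣ ((T : Subgroup G).subgroupOf N).index := by
    show ¬ p ∣ (T : Subgroup G).relIndex N
    rw [relIndex_eq_relIndex_sup_of_le_normalizer h]
    intro hdvd
    exact T.not_dvd_index (dvd_trans hdvd (Subgroup.relIndex_dvd_index_of_le le_sup_left))
  exact ⟨h1.toSylow h2, rfl⟩

theorem exists_sylow_eq_subgroupOf_of_normal [Finite G] [Fact p.Prime] (T : Sylow p G)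
    (N : Subgroup G) [N.Normal] :
    ∃ P : Sylow p ↥N, (P : Subgroup ↥N) = (T : Subgroup G).subgroupOf N :=
  exists_sylow_eq_subgroupOf T N Subgroup.le_normalizer_of_normal

/-- Frattini argument in terms of `T ∩ N`. -/
theorem normalizer_inf_sup_eq_top [Finite G] [Fact p.Prime] (T : Sylow p G)
    (N : Subgroup G) [N.Normal] :
    Subgroup.normalizer (((T : Subgroup G) ⊓ N : Subgroup G) : Set G) ⊔ N = ⊤ := by
  obtain ⟨P, hP⟩ := exists_sylow_eq_subgroupOf_of_normal T N
  have := Sylow.normalizer_sup_eq_top P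
  rw [hP, Subgroup.subgroupOf_map_subtype] at this
  exact this

/-- A subgroup containing a Sylow `p`-subgroup: the Sylow as Sylow of the subgroup. -/
theorem sylow_subtype_coe (T : Sylow p G) {K : Subgroup G} (h : (T : Subgroup G) ≤ K) :
    ((T.subtype h : Sylow p ↥K) : Subgroup ↥K) = (T : Subgroup G).subgroupOf K := rfl

/-- all Sylow subgroups are conjugate, in `map conj` form -/
theorem sylow_exists_conj [Finite G] [Fact p.Prime] (P Q : Sylow p G) :
    ∃ g : G, (Q : Subgroup G) = (P : Subgroup G).map (MulAut.conj g).toMonoidHom := by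
  obtain ⟨g, hg⟩ := MulAction.exists_smul_eq G P Q
  refine ⟨g, ?_⟩
  rw [← hg, Sylow.coe_subgroup_smul]
  rfl

/-- if one Sylow `p`-subgroup is normal then the group is `p`-closed -/
theorem isPClosed_of_normal [Finite G] [Fact p.Prime] (P : Sylow p G)
    (h : (P : Subgroup G).Normal) : IsPClosed p G := by
  intro Q
  obtain ⟨g, hg⟩ := sylow_exists_conj P Q
  rw [hg, map_conj_eq_of_mem_normalizer]
  · exact h
  · rw [Subgroup.normalizer_eq_top_iff.2 h]; exact Subgroup.mem_top _

/-- In a `p`-closed finite group the Sylow `p`-subgroup is the `p`-core. -/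
theorem sylow_eq_pCore_of_isPClosed (h : IsPClosed p G) (P : Sylow p G) :
    (P : Subgroup G) = pCore p G :=
  le_antisymm (le_pCore (h P) P.isPGroup') (pCore_le_sylow P)

theorem isPClosed_iff_pCore_sylow [Finite G] [Fact p.Prime] (P : Sylow p G) :
    IsPClosed p G ↔ (P : Subgroup G) = pCore p G :=
  ⟨fun h => sylow_eq_pCore_of_isPClosed h P, fun h =>
    isPClosed_of_normal P (h ▸ pCore_normal p G)⟩

/-- In a normal `p`-closed subgroup `N`, every `p`-subgroup lies in every Sylow `p`-subgroup of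
the big group. -/
theorem le_sylow_of_isPClosed_normal [Finite G] [Fact p.Prime] {N : Subgroup G} [N.Normal]
    (hcl : IsPClosed p ↥N) (T : Sylow p G) {Q : Subgroup G} (hQ : IsPGroup p ↥Q) (hQN : Q ≤ N) :
    Q ≤ (T : Subgroup G) := by
  obtain ⟨P, hP⟩ := exists_sylow_eq_subgroupOf_of_normal T N
  have h1 : IsPGroup p ↥(Q.subgroupOf N) :=
    hQ.comap_of_injective N.subtype N.subtype_injective
  obtain ⟨P', hP'⟩ := h1.exists_le_sylow
  have h2 : (P' : Subgroup ↥N) = (P : Subgroup ↥N) := by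
    rw [sylow_eq_pCore_of_isPClosed hcl P', sylow_eq_pCore_of_isPClosed hcl P]
  intro q hq
  have h3 : (⟨q, hQN hq⟩ : ↥N) ∈ Q.subgroupOf N := by
    rw [Subgroup.mem_subgroupOf]; exact hq
  have h4 := hP' h3
  rw [h2, hP, Subgroup.mem_subgroupOf] at h4
  exact h4

/-- For a normal `p`-closed subgroup `N` and a Sylow `p`-subgroup `T`, `T ∩ N ≤ O_p(G)`. -/
theorem sylow_inf_le_pCore_of_isPClosed [Finite G] [Fact p.Prime] {N : Subgroup G} [hN : N.Normal]
    (hcl : IsPClosed p ↥N) (T : Sylow p G) : (T : Subgroup G) ⊓ N ≤ pCore p G := by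
  have hQ : IsPGroup p ↥((T : Subgroup G) ⊓ N : Subgroup G) := T.isPGroup'.to_le inf_le_left
  apply le_pCore _ hQ
  constructor
  intro n hn g
  have h1 : g * n * g⁻¹ ∈ ((T : Subgroup G) ⊓ N).map (MulAut.conj g).toMonoidHom :=
    conj_mem_map_conj hn
  have h2 : ((T : Subgroup G) ⊓ N).map (MulAut.conj g).toMonoidHom ≤ N := by
    rintro _ ⟨x, hx, rfl⟩
    exact hN.conj_mem x hx.2 g
  exact ⟨le_sylow_of_isPClosed_normal hcl T (hQ.map _) h2 h1, h2 h1⟩

/-- A `p`-subgroup of a normal `p`-closed subgroup lies in `O_p(G)`. -/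
theorem le_pCore_of_isPClosed_normal [Finite G] [Fact p.Prime] {N : Subgroup G} [N.Normal]
    (hcl : IsPClosed p ↥N) {Q : Subgroup G} (hQ : IsPGroup p ↥Q) (hQN : Q ≤ N) :
    Q ≤ pCore p G := by
  obtain ⟨T, hT⟩ := hQ.exists_le_sylow
  exact (le_inf hT hQN).trans (sylow_inf_le_pCore_of_isPClosed hcl T)

/-- In a `p`-irreducible finite group a normal subgroup containing a Sylow `p`-subgroup is
everything. -/
theorem eq_top_of_sylow_le_of_isPIrreducible [Finite G] [Fact p.Prime]
    (hG : IsPIrreducible p G) (T : Sylow p G) {N : Subgroup G} (hN : N.Normal)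
    (hTN : (T : Subgroup G) ≤ N) : N = ⊤ := by
  have hncl : ¬ IsPClosed p ↥N := by
    intro hcl
    apply hG.1
    apply isPClosed_of_normal T
    have h1 : (T : Subgroup G) = pCore p G :=
      le_antisymm ((le_inf le_rfl hTN).trans (sylow_inf_le_pCore_of_isPClosed hcl T))
        (pCore_le_sylow T)
    rw [h1]
    exact pCore_normal p G
  have h2 := hG.2 N hN hncl
  rw [eq_top_iff, ← pResidual_sup_sylow T]
  exact sup_le h2 hTN

/-- Normalizers grow in finite `p`-groups (subgroup form). -/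
theorem exists_mem_normalizer_not_mem [Finite G] [Fact p.Prime] {Q P : Subgroup G}
    (hP : IsPGroup p ↥P) (hQP : Q < P) :
    ∃ x ∈ P, x ∈ Subgroup.normalizer (Q : Set G) ∧ x ∉ Q := by
  haveI : Group.IsNilpotent ↥P := hP.isNilpotent
  have hnc : NormalizerCondition ↥P := Group.normalizerCondition_of_isNilpotent
  have h1 : Q.subgroupOf P < ⊤ := by
    rw [lt_top_iff_ne_top, Ne, Subgroup.subgroupOf_eq_top]
    exact not_le_of_gt hQP
  have h2 := hnc _ h1
  rw [← Subgroup.subgroupOf_normalizer_eq hQP.le] at h2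
  obtain ⟨x, hx1, hx2⟩ := SetLike.exists_of_lt h2
  exact ⟨x, x.2, hx1, hx2⟩

/-- A Sylow `p`-subgroup `T` of a subgroup `K` with `N_G(T) ≤ K` is a Sylow `p`-subgroup of `G`. -/
theorem exists_sylow_eq_map_of_normalizer_le [Finite G] [Fact p.Prime] {K : Subgroup G}
    (T : Sylow p ↥K)
    (h : Subgroup.normalizer (((T : Subgroup ↥K).map K.subtype : Subgroup G) : Set G) ≤ K) :
    ∃ P : Sylow p G, (P : Subgroup G) = (T : Subgroup ↥K).map K.subtype := by
  set T' := (T : Subgroup ↥K).map K.subtype with hT'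
  have hT'p : IsPGroup p ↥T' := T.isPGroup'.map _
  obtain ⟨P, hP⟩ := hT'p.exists_le_sylow
  refine ⟨P, ?_⟩
  by_contra hne
  have hlt : T' < (P : Subgroup G) := lt_of_le_of_ne hP (Ne.symm hne)
  obtain ⟨x, hxP, hxN, hxT⟩ := exists_mem_normalizer_not_mem P.isPGroup' hlt
  have hxK : x ∈ K := h hxN
  have hQ : IsPGroup p ↥(((P : Subgroup G) ⊓ K).subgroupOf K) :=
    (P.isPGroup'.to_le inf_le_left).comap_of_injective K.subtype K.subtype_injective
  have hTQ : (T : Subgroup ↥K) ≤ ((P : Subgroup G) ⊓ K).subgroupOf K := by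
    intro t ht
    rw [Subgroup.mem_subgroupOf]
    exact ⟨hP (Subgroup.mem_map_of_mem _ ht), t.2⟩
  have hQT := T.is_maximal' hQ hTQ
  apply hxT
  have h3 : (⟨x, hxK⟩ : ↥K) ∈ ((P : Subgroup G) ⊓ K).subgroupOf K := by
    rw [Subgroup.mem_subgroupOf]; exact ⟨hxP, hxK⟩
  rw [hQT] at h3
  exact ⟨⟨x, hxK⟩, h3, rfl⟩

/-- conjugates of coatoms are coatoms -/
theorem isCoatom_map_conj {M : Subgroup G} (hM : IsCoatom M) (g : G) :
    IsCoatom (M.map (MulAut.conj g).toMonoidHom) :=
  ((MulAut.conj g).mapSubgroup.isCoatom_iff M).2 hM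

end Cfsg.Agent.Lib.Helper54
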