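import Cfsg.Agent.Lib.Helper54.Basic

set_option autoImplicit false

namespace Cfsg.Agent.Lib.Helper54

open Cfsg
open scoped commutatorElement Pointwise

variable {G : Type*} [Group G]

theorem mem_map_conj_iff {K : Subgroup G} {g y : G} :
    y ∈ K.map (MulAut.conj g).toMonoidHom ↔ g⁻¹ * y * g ∈ K := by
  constructor
  · rintro ⟨k, hk, rfl⟩
    simpa [mul_assoc] using hk
  · intro h
    exact ⟨g⁻¹ * y * g, h, by simp [mul_assoc]⟩

theorem conj_mem_map_conj {K : Subgroup G} {g k : G} (hk : k ∈ K) :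
    g * k * g⁻¹ ∈ K.map (MulAut.conj g).toMonoidHom :=
  ⟨k, hk, by simp⟩

theorem map_conj_eq_of_mem_normalizer {K : Subgroup G} {g : G}
    (hg : g ∈ Subgroup.normalizer (K : Set G)) : K.map (MulAut.conj g).toMonoidHom = K := by
  ext y
  rw [mem_map_conj_iff]
  have := (Subgroup.mem_normalizer_iff''.1 hg) y
  exact this.symm

theorem mem_normalizer_of_map_conj_eq {K : Subgroup G} {g : G}
    (h : K.map (MulAut.conj g).toMonoidHom = K) : g ∈ Subgroup.normalizer (K : Set G) := by
  rw [Subgroup.mem_normalizer_iff'']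
  intro y
  rw [← mem_map_conj_iff, h]

theorem mem_normalizer_iff_map_conj_eq {K : Subgroup G} {g : G} :
    g ∈ Subgroup.normalizer (K : Set G) ↔ K.map (MulAut.conj g).toMonoidHom = K :=
  ⟨map_conj_eq_of_mem_normalizer, mem_normalizer_of_map_conj_eq⟩

theorem map_conj_mul (K : Subgroup G) (g h : G) :
    K.map (MulAut.conj (g * h)).toMonoidHom =
      (K.map (MulAut.conj h).toMonoidHom).map (MulAut.conj g).toMonoidHom := by
  rw [Subgroup.map_map]
  congr 1
  ext x
  simp [mul_assoc]

theorem map_conj_one (K : Subgroup G) : K.map (MulAut.conj (1 : G)).toMonoidHom = K := by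
  ext y
  rw [mem_map_conj_iff]
  simp

theorem map_conj_inv_map_conj (K : Subgroup G) (g : G) :
    (K.map (MulAut.conj g).toMonoidHom).map (MulAut.conj g⁻¹).toMonoidHom = K := by
  rw [← map_conj_mul, inv_mul_cancel, map_conj_one]

theorem map_conj_map_conj_inv (K : Subgroup G) (g : G) :
    (K.map (MulAut.conj g⁻¹).toMonoidHom).map (MulAut.conj g).toMonoidHom = K := by
  rw [← map_conj_mul, mul_inv_cancel, map_conj_one]

theorem map_conj_le_iff {K M : Subgroup G} {g : G} :
    K.map (MulAut.conj g).toMonoidHom ≤ M ↔ K ≤ M.map (MulAut.conj g⁻¹).toMonoidHom := by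
  constructor
  · intro h
    have := Subgroup.map_mono (f := (MulAut.conj g⁻¹).toMonoidHom) h
    rwa [map_conj_inv_map_conj] at this
  · intro h
    have := Subgroup.map_mono (f := (MulAut.conj g).toMonoidHom) h
    rwa [map_conj_map_conj_inv] at this

/-- A subgroup all of whose elements conjugate `K` into `K` normalises `K`. -/
theorem le_normalizer_of_map_conj_le (X K : Subgroup G)
    (h : ∀ x ∈ X, K.map (MulAut.conj x).toMonoidHom ≤ K) :
    X ≤ Subgroup.normalizer (K : Set G) := by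
  intro x hx
  apply mem_normalizer_of_map_conj_eq
  apply le_antisymm (h x hx)
  have := h x⁻¹ (Subgroup.inv_mem _ hx)
  rw [map_conj_le_iff, inv_inv] at this
  exact this

theorem card_map_conj (K : Subgroup G) (g : G) :
    Nat.card ↥(K.map (MulAut.conj g).toMonoidHom) = Nat.card ↥K :=
  Nat.card_congr (K.equivMapOfInjective _ (MulAut.conj g).injective).toEquiv.symm

theorem isPGroup_map_conj {p : ℕ} {K : Subgroup G} (hK : IsPGroup p ↥K) (g : G) :
    IsPGroup p ↥(K.map (MulAut.conj g).toMonoidHom) :=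
  hK.map _

/-- In a finite group, `gKg⁻¹ ≤ K` forces equality. -/
theorem map_conj_eq_of_le [Finite G] {K : Subgroup G} {g : G}
    (h : K.map (MulAut.conj g).toMonoidHom ≤ K) : K.map (MulAut.conj g).toMonoidHom = K := by
  apply Subgroup.eq_of_le_of_card_ge h
  rw [card_map_conj]

/-- product decomposition of the join when one factor normalises the other -/
theorem exists_mul_of_mem_sup_of_le_normalizer {A B : Subgroup G}
    (h : B ≤ Subgroup.normalizer (A : Set G)) {x : G} (hx : x ∈ A ⊔ B) :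
    ∃ a ∈ A, ∃ b ∈ B, x = a * b := by
  have : x ∈ ((A ⊔ B : Subgroup G) : Set G) := hx
  rw [Subgroup.coe_mul_of_right_le_normalizer_left A B h] at this
  obtain ⟨a, ha, b, hb, rfl⟩ := this
  exact ⟨a, ha, b, hb, rfl⟩

/-- If `S` and `T` normalise `N` and act trivially on `V` modulo `N`, so does their join. -/
theorem commutator_sup_le {V N S T : Subgroup G}
    (hS : S ≤ Subgroup.normalizer (N : Set G)) (hT : T ≤ Subgroup.normalizer (N : Set G))
    (hVS : ⁅V, S⁆ ≤ N) (hVT : ⁅V, T⁆ ≤ N) : ⁅V, S ⊔ T⁆ ≤ N := by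
  let C : Subgroup G :=
    { carrier := {l | l ∈ Subgroup.normalizer (N : Set G) ∧ ∀ v ∈ V, ⁅v, l⁆ ∈ N}
      one_mem' := ⟨Subgroup.one_mem _, fun v _ => by simp [commutatorElement_def]⟩
      mul_mem' := by
        rintro a b ⟨ha1, ha2⟩ ⟨hb1, hb2⟩
        refine ⟨Subgroup.mul_mem _ ha1 hb1, fun v hv => ?_⟩
        have h1 : ⁅v, a * b⁆ = ⁅v, a⁆ * (a * ⁅v, b⁆ * a⁻¹) := by
          simp [commutatorElement_def, mul_assoc]
        rw [h1]
        exact Subgroup.mul_mem _ (ha2 v hv)
          ((Subgroup.mem_normalizer_iff.1 ha1 _).1 (hb2 v hv))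
      inv_mem' := by
        rintro a ⟨ha1, ha2⟩
        refine ⟨Subgroup.inv_mem _ ha1, fun v hv => ?_⟩
        have h1 : ⁅v, a⁻¹⁆ = a⁻¹ * (⁅v, a⁆)⁻¹ * a⁻¹⁻¹ := by
          simp [commutatorElement_def, mul_assoc]
        rw [h1]
        exact (Subgroup.mem_normalizer_iff.1 (Subgroup.inv_mem _ ha1) _).1
          (Subgroup.inv_mem _ (ha2 v hv)) }
  have hSC : S ≤ C := fun s hs =>
    ⟨hS hs, fun v hv => hVS (Subgroup.commutator_mem_commutator hv hs)⟩
  have hTC : T ≤ C := fun t ht =>
    ⟨hT ht, fun v hv => hVT (Subgroup.commutator_mem_commutator hv ht)⟩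
  rw [Subgroup.commutator_le]
  intro v hv l hl
  exact ((sup_le hSC hTC) hl).2 v hv

end Cfsg.Agent.Lib.Helper54
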