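import Cfsg.Agent.Lib.Helper54.WeaklyClosed

set_option autoImplicit false

namespace Cfsg.Agent.Lib.Helper54

open Cfsg
open scoped commutatorElement Pointwise

variable {G : Type*} [Group G] {p : ℕ}

/-! ### `pCoreOf` as a subgroup of the ambient group -/

theorem pCoreOf_le (p : ℕ) (S : Subgroup G) : pCoreOf p S ≤ S :=
  Subgroup.map_subtype_le _

theorem isPGroup_pCoreOf (p : ℕ) (S : Subgroup G) : IsPGroup p ↥(pCoreOf p S) :=
  (pCore_isPGroup p ↥S).map _

theorem le_normalizer_pCoreOf (p : ℕ) (S : Subgroup G) :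
    S ≤ Subgroup.normalizer ((pCoreOf p S : Subgroup G) : Set G) := by
  intro s hs
  rw [Subgroup.mem_normalizer_iff]
  have hn := pCore_normal p ↥S
  intro x
  constructor
  · rintro ⟨y, hy, rfl⟩
    exact ⟨⟨s, hs⟩ * y * ⟨s, hs⟩⁻¹, hn.conj_mem y hy _, rfl⟩
  · rintro ⟨y, hy, hyx⟩
    have hxS : x ∈ S := by
      have : x = s⁻¹ * (s * x * s⁻¹) * s := by group
      rw [this, ← hyx]
      exact S.mul_mem (S.mul_mem (S.inv_mem hs) y.2) hs
    refine ⟨⟨x, hxS⟩, ?_, rfl⟩
    have h1 := hn.conj_mem y hy (⟨s, hs⟩⁻¹)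
    have hyx' : (y : G) = s * x * s⁻¹ := hyx
    have h2 : (⟨s, hs⟩⁻¹ : ↥S) * y * (⟨s, hs⟩⁻¹ : ↥S)⁻¹ = ⟨x, hxS⟩ := by
      apply Subtype.ext
      simp only [Subgroup.coe_mul, Subgroup.coe_inv, hyx']
      group
    rwa [h2] at h1

/-- the universal property of `O_p(S)` in the ambient group -/
theorem le_pCoreOf {P S : Subgroup G} (hPS : P ≤ S)
    (hn : S ≤ Subgroup.normalizer (P : Set G)) (hp : IsPGroup p ↥P) : P ≤ pCoreOf p S := by
  have h1 : (P.subgroupOf S).Normal := (Subgroup.normal_subgroupOf_iff_le_normalizer hPS).2 hn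
  have h2 : IsPGroup p ↥(P.subgroupOf S) := hp.comap_of_injective S.subtype S.subtype_injective
  have h3 := le_pCore h1 h2
  intro x hx
  exact ⟨⟨x, hPS hx⟩, h3 (Subgroup.mem_subgroupOf.2 hx), rfl⟩

theorem pCoreOf_map_conj_le (p : ℕ) (S : Subgroup G) (g : G) :
    (pCoreOf p S).map (MulAut.conj g).toMonoidHom ≤
      pCoreOf p (S.map (MulAut.conj g).toMonoidHom) := by
  apply le_pCoreOf (Subgroup.map_mono (pCoreOf_le p S))
  · rw [normalizer_map_conj]
    exact Subgroup.map_mono (le_normalizer_pCoreOf p S)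
  · exact (isPGroup_pCoreOf p S).map _

theorem normalizer_le_normalizer_pCoreOf [Finite G] (p : ℕ) (S : Subgroup G) :
    Subgroup.normalizer (S : Set G) ≤
      Subgroup.normalizer ((pCoreOf p S : Subgroup G) : Set G) := by
  intro g hg
  apply mem_normalizer_of_map_conj_eq
  apply map_conj_eq_of_le
  have := pCoreOf_map_conj_le p S g
  rwa [map_conj_eq_of_mem_normalizer hg] at this

theorem pCoreOf_top (p : ℕ) : pCoreOf p (⊤ : Subgroup G) = pCore p G := by
  apply le_antisymm
  · apply le_pCore
    · rw [← Subgroup.normalizer_eq_top_iff]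
      exact top_le_iff.1 (le_normalizer_pCoreOf p ⊤)
    · exact isPGroup_pCoreOf p ⊤
  · apply le_pCoreOf le_top
    · rw [Subgroup.normalizer_eq_top_iff.2 (pCore_normal p G)]
    · exact pCore_isPGroup p G

theorem pCoreOf_eq_self_of_isPGroup {A : Subgroup G} (hA : IsPGroup p ↥A) :
    pCoreOf p A = A :=
  le_antisymm (pCoreOf_le p A) (le_pCoreOf le_rfl Subgroup.le_normalizer hA)

/-- `O_p` of a subnormal subgroup lies in `O_p` of the group -/
theorem pCoreOf_le_pCore_of_isSubnormal [Finite G] {S : Subgroup G} (hS : S.IsSubnormal) :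
    pCoreOf p S ≤ pCore p G := by
  induction hS with
  | top => rw [pCoreOf_top]
  | step S K h_le hSubn hN ih =>
    refine le_trans ?_ ih
    apply le_pCoreOf ((pCoreOf_le p S).trans h_le)
    · exact ((Subgroup.normal_subgroupOf_iff_le_normalizer h_le).1 hN).trans
        (normalizer_le_normalizer_pCoreOf p S)
    · exact isPGroup_pCoreOf p S

/-- a subnormal `p`-subgroup lies in `O_p(G)` -/
theorem le_pCore_of_isSubnormal_of_isPGroup [Finite G] {A : Subgroup G} (hA : A.IsSubnormal)
    (hAp : IsPGroup p ↥A) : A ≤ pCore p G := by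
  have := pCoreOf_le_pCore_of_isSubnormal (p := p) hA
  rwa [pCoreOf_eq_self_of_isPGroup hAp] at this

/-! ### the `p`-residual of a subgroup, in the ambient group -/

theorem map_pResidual_subtype (p : ℕ) (B : Subgroup G) :
    (pResidual p ↥B).map B.subtype =
      Subgroup.closure {g : G | g ∈ B ∧ (orderOf g).Coprime p} := by
  unfold pResidual
  rw [MonoidHom.map_closure]
  congr 1
  ext g
  constructor
  · rintro ⟨b, hb, rfl⟩
    refine ⟨b.2, ?_⟩
    have hb' : (orderOf b).Coprime p := hb
    rwa [← Subgroup.orderOf_coe] at hb'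
  · rintro ⟨hg, hc⟩
    refine ⟨⟨g, hg⟩, ?_, rfl⟩
    show (orderOf (⟨g, hg⟩ : ↥B)).Coprime p
    rwa [Subgroup.orderOf_mk]

theorem map_pResidual_subtype_mono (p : ℕ) {B M : Subgroup G} (h : B ≤ M) :
    (pResidual p ↥B).map B.subtype ≤ (pResidual p ↥M).map M.subtype := by
  rw [map_pResidual_subtype, map_pResidual_subtype]
  apply Subgroup.closure_mono
  rintro g ⟨hg, hc⟩
  exact ⟨h hg, hc⟩

/-- If `M = B P` with `P` a `p`-group normalising `B`, then `O^p(M) ≤ B`. -/
theorem map_pResidual_subtype_le_of_sup [Finite G] [Fact p.Prime] {B P M : Subgroup G}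
    (hM : M = B ⊔ P) (hPB : P ≤ Subgroup.normalizer (B : Set G)) (hP : IsPGroup p ↥P) :
    (pResidual p ↥M).map M.subtype ≤ B := by
  have hBM : B ≤ M := hM ▸ le_sup_left
  have hPM : P ≤ M := hM ▸ le_sup_right
  have hMB : M ≤ Subgroup.normalizer (B : Set G) := by
    rw [hM]; exact sup_le Subgroup.le_normalizer hPB
  haveI : (B.subgroupOf M).Normal := (Subgroup.normal_subgroupOf_iff_le_normalizer hBM).2 hMB
  have h1 : B.subgroupOf M ⊔ P.subgroupOf M = ⊤ := by
    rw [← Subgroup.subgroupOf_sup hBM hPM, ← hM, Subgroup.subgroupOf_self]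
  have h2 : pResidual p ↥M ≤ B.subgroupOf M :=
    pResidual_le_of_sup_eq_top
      (hP.comap_of_injective M.subtype M.subtype_injective) h1
  refine (Subgroup.map_mono h2).trans ?_
  rw [Subgroup.subgroupOf_map_subtype]
  exact inf_le_left

/-- conjugation moves the `p`-residual accordingly -/
theorem map_conj_map_pResidual_subtype (p : ℕ) (B : Subgroup G) (g : G) :
    ((pResidual p ↥B).map B.subtype).map (MulAut.conj g).toMonoidHom =
      (pResidual p ↥(B.map (MulAut.conj g).toMonoidHom)).map
        (B.map (MulAut.conj g).toMonoidHom).subtype := by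
  rw [map_pResidual_subtype, map_pResidual_subtype, MonoidHom.map_closure]
  congr 1
  ext y
  constructor
  · rintro ⟨b, ⟨hb, hc⟩, rfl⟩
    refine ⟨⟨b, hb, rfl⟩, ?_⟩
    rw [MulEquiv.coe_toMonoidHom, MulEquiv.orderOf_eq]
    exact hc
  · rintro ⟨⟨b, hb, rfl⟩, hc⟩
    refine ⟨b, ⟨hb, ?_⟩, rfl⟩
    rwa [MulEquiv.coe_toMonoidHom, MulEquiv.orderOf_eq] at hc

/-- If `B = O^p(B)` is normal in `M = B P` with `P` a `p`-group, then everything normalising `M`
normalises `B`. -/
theorem normalizer_le_normalizer_of_pResidual [Finite G] [Fact p.Prime] {B P M : Subgroup G}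
    (hM : M = B ⊔ P) (hPB : P ≤ Subgroup.normalizer (B : Set G)) (hP : IsPGroup p ↥P)
    (hB : (pResidual p ↥B).map B.subtype = B) :
    Subgroup.normalizer (M : Set G) ≤ Subgroup.normalizer (B : Set G) := by
  have hBM : B ≤ M := hM ▸ le_sup_left
  intro x hx
  apply mem_normalizer_of_map_conj_eq
  apply map_conj_eq_of_le
  have h1 : B.map (MulAut.conj x).toMonoidHom ≤ M := by
    rw [← map_conj_eq_of_mem_normalizer hx]
    exact Subgroup.map_mono hBM
  calc B.map (MulAut.conj x).toMonoidHom
      = ((pResidual p ↥B).map B.subtype).map (MulAut.conj x).toMonoidHom := by rw [hB]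
    _ = (pResidual p ↥(B.map (MulAut.conj x).toMonoidHom)).map
        (B.map (MulAut.conj x).toMonoidHom).subtype := map_conj_map_pResidual_subtype p B x
    _ ≤ (pResidual p ↥M).map M.subtype := map_pResidual_subtype_mono p h1
    _ ≤ B := map_pResidual_subtype_le_of_sup hM hPB hP

/-- `O_p(G)` normalises every subnormal subgroup `B` with `B = O^p(B)`. -/
theorem pCore_le_normalizer_of_isSubnormal [Finite G] [Fact p.Prime] {B : Subgroup G}
    (hBs : B.IsSubnormal) (hB : (pResidual p ↥B).map B.subtype = B) :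
    pCore p G ≤ Subgroup.normalizer (B : Set G) := by
  obtain ⟨n, f, hmono, hnorm, h0, hn⟩ := hBs.exists_chain
  have key : ∀ i, pCoreOf p (f i) ≤ Subgroup.normalizer (B : Set G) := by
    intro i
    induction i with
    | zero => rw [h0]; exact (pCoreOf_le p B).trans Subgroup.le_normalizer
    | succ i ih =>
      set S := f i with hS
      set S' := f (i + 1) with hS'
      have hSS' : S ≤ S' := hmono (Nat.le_succ i)
      have hS'S : S' ≤ Subgroup.normalizer (S : Set G) :=
        (Subgroup.normal_subgroupOf_iff_le_normalizer hSS').1 (hnorm i)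
      have hBS : B ≤ S := by rw [← h0]; exact hmono (Nat.zero_le i)
      set P := pCoreOf p S' with hP
      set P₀ := pCoreOf p S with hP₀
      have hPS' : P ≤ S' := pCoreOf_le p S'
      have hS'P : S' ≤ Subgroup.normalizer (P : Set G) := le_normalizer_pCoreOf p S'
      have h2 : P ⊓ S ≤ P₀ := by
        apply le_pCoreOf inf_le_right
        · refine le_trans ?_ Subgroup.inf_normalizer_le_normalizer_inf
          exact le_inf (hSS'.trans hS'P) Subgroup.le_normalizer
        · exact (isPGroup_pCoreOf p S').to_le inf_le_left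
      have h3 : ⁅B, P⁆ ≤ P ⊓ S := by
        refine (Subgroup.commutator_mono hBS le_rfl).trans (le_inf ?_ ?_)
        · exact Subgroup.le_normalizer_iff_commutator_le_right.1 (hSS'.trans hS'P)
        · exact Subgroup.le_normalizer_iff_commutator_le_left.1 (hPS'.trans hS'S)
      have h4 : P ≤ Subgroup.normalizer (P₀ : Set G) :=
        (hPS'.trans hS'S).trans (normalizer_le_normalizer_pCoreOf p S)
      have h5 : P ≤ Subgroup.normalizer ((B ⊔ P₀ : Subgroup G) : Set G) := by
        apply le_normalizer_of_map_conj_le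
        intro x hx
        rw [Subgroup.map_sup, map_conj_eq_of_mem_normalizer (h4 hx)]
        apply sup_le _ le_sup_right
        rintro _ ⟨b, hb, rfl⟩
        have h6 : (MulAut.conj x).toMonoidHom b = (⁅b, x⁆)⁻¹ * b := by
          simp [commutatorElement_def, mul_assoc]
        rw [h6]
        exact Subgroup.mul_mem _
          (Subgroup.inv_mem _ (le_sup_right (a := B)
            (h2 (h3 (Subgroup.commutator_mem_commutator hb hx)))))
          (le_sup_left (b := P₀) hb)
      exact h5.trans (normalizer_le_normalizer_of_pResidual rfl ih (isPGroup_pCoreOf p S) hB)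
  have := key n
  rwa [hn, pCoreOf_top] at this

/-! ### subnormal closure -/

theorem map_subtype_subgroupOf (K : Subgroup G) (N : Subgroup ↥K) :
    (N.map K.subtype).subgroupOf K = N :=
  Subgroup.comap_map_eq_self_of_injective K.subtype_injective N

theorem isSubnormal_of_normalizerCondition [Finite G] (h : NormalizerCondition G)
    (K : Subgroup G) : K.IsSubnormal := by
  induction K using WellFoundedGT.induction with
  | _ K ih =>
    by_cases hK : K = ⊤
    · rw [hK]; exact Subgroup.IsSubnormal.top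
    · have hlt : K < Subgroup.normalizer (K : Set G) := h K (lt_top_iff_ne_top.2 hK)
      exact Subgroup.IsSubnormal.step K _ hlt.le (ih _ hlt)
        ((Subgroup.normal_subgroupOf_iff_le_normalizer hlt.le).2 le_rfl)

theorem isSubnormal_of_isPGroup [Finite G] [Fact p.Prime] (hG : IsPGroup p G)
    (K : Subgroup G) : K.IsSubnormal := by
  haveI : Group.IsNilpotent G := hG.isNilpotent
  exact isSubnormal_of_normalizerCondition Group.normalizerCondition_of_isNilpotent K

theorem subnormalClosure_mem [Finite G] (A : Subgroup G) :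
    A ≤ subnormalClosure A ∧ (subnormalClosure A).IsSubnormal := by
  unfold subnormalClosure
  set 𝒮 := {K : Subgroup G | A ≤ K ∧ K.IsSubnormal} with h𝒮
  have hfin : 𝒮.Finite := Set.toFinite 𝒮
  have h1 : sInf 𝒮 = hfin.toFinset.inf id := by
    rw [Finset.inf_id_eq_sInf, Set.Finite.coe_toFinset]
  rw [h1]
  apply Finset.inf_induction (p := fun K => A ≤ K ∧ K.IsSubnormal)
  · exact ⟨le_top, Subgroup.IsSubnormal.top⟩
  · rintro a₁ ⟨h1, h2⟩ a₂ ⟨h3, h4⟩
    exact ⟨le_inf h1 h3, h2.inf h4⟩
  · intro b hb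
    rw [Set.Finite.mem_toFinset] at hb
    exact hb

theorem le_subnormalClosure [Finite G] (A : Subgroup G) : A ≤ subnormalClosure A :=
  (subnormalClosure_mem A).1

theorem subnormalClosure_isSubnormal [Finite G] (A : Subgroup G) :
    (subnormalClosure A).IsSubnormal :=
  (subnormalClosure_mem A).2

theorem subnormalClosure_le {A S : Subgroup G} (hAS : A ≤ S) (hS : S.IsSubnormal) :
    subnormalClosure A ≤ S :=
  sInf_le ⟨hAS, hS⟩

end Cfsg.Agent.Lib.Helper54
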