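import Mathlib

/-!
# Linear algebra for quadratic pairs (pieces N0 and N2 for helper16's `Qd(p)`-free ⇒ stable)

* `isPGroup_of_nilpotent` : two quadratic automorphisms `x y` of an `F_p`-space with
  `((x-1)(y-1))^n = 0` generate a group all of whose elements have `p`-power order.
* `exists_equivariant_functional` : for `0 ≠ f ∈ K ⊗ V` there is an `F_p`-linear
  `GL(V)`-equivariant map `K ⊗ V → V` not killing `f`.
-/

namespace Cfsg.Agent.Lib.Helper54

open TensorProduct

section N0

variable {p : ℕ} {V : Type*} [AddCommGroup V] [Module (ZMod p) V]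

/-- The alternating filtration: `(A_k, B_k)` with `A_0 = B_0 = ⊤`, `A_{k+1} = X B_k`,
`B_{k+1} = Y A_k`. -/
def quadFil (X Y : Module.End (ZMod p) V) :
    ℕ → Submodule (ZMod p) V × Submodule (ZMod p) V
  | 0 => (⊤, ⊤)
  | k + 1 => ((quadFil X Y k).2.map X, (quadFil X Y k).1.map Y)

/-- `U_k = A_k ⊔ B_k`. -/
def quadU (X Y : Module.End (ZMod p) V) (k : ℕ) : Submodule (ZMod p) V :=
  (quadFil X Y k).1 ⊔ (quadFil X Y k).2

theorem quadFil_anti (X Y : Module.End (ZMod p) V) (k : ℕ) :
    (quadFil X Y (k + 1)).1 ≤ (quadFil X Y k).1 ∧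
      (quadFil X Y (k + 1)).2 ≤ (quadFil X Y k).2 := by
  induction k with
  | zero => exact ⟨le_top, le_top⟩
  | succ k ih => exact ⟨Submodule.map_mono ih.2, Submodule.map_mono ih.1⟩

theorem quadU_anti (X Y : Module.End (ZMod p) V) (k : ℕ) :
    quadU X Y (k + 1) ≤ quadU X Y k :=
  sup_le_sup (quadFil_anti X Y k).1 (quadFil_anti X Y k).2

theorem quadFil_even (X Y : Module.End (ZMod p) V) (n : ℕ) :
    (quadFil X Y (2 * n)).1 = Submodule.map ((X * Y) ^ n) ⊤ := by
  induction n with
  | zero =>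
    show (⊤ : Submodule (ZMod p) V) = Submodule.map ((X * Y) ^ 0) ⊤
    rw [pow_zero, Module.End.one_eq_id, Submodule.map_id]
  | succ n ih =>
    have h2 : 2 * (n + 1) = (2 * n + 1) + 1 := by ring
    rw [h2]
    show Submodule.map X (Submodule.map Y (quadFil X Y (2 * n)).1) = _
    rw [ih, pow_succ', ← Submodule.map_comp, ← Submodule.map_comp]
    rfl

theorem quadU_eq_bot (X Y : Module.End (ZMod p) V) (n : ℕ) (hn : (X * Y) ^ n = 0) :
    quadU X Y (2 * n + 1) = ⊥ := by
  have hA : (quadFil X Y (2 * n)).1 = ⊥ := by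
    rw [quadFil_even, hn]
    exact Submodule.map_zero _
  have hA' : (quadFil X Y (2 * n + 1)).1 = ⊥ :=
    le_bot_iff.mp (hA ▸ (quadFil_anti X Y (2 * n)).1)
  have hB' : (quadFil X Y (2 * n + 1)).2 = ⊥ := by
    show Submodule.map Y (quadFil X Y (2 * n)).1 = ⊥
    rw [hA]
    exact Submodule.map_bot _
  rw [quadU, hA', hB', sup_bot_eq]

theorem quadU_map_left (X Y : Module.End (ZMod p) V) (hX : ∀ v, X (X v) = 0) (k : ℕ)
    {u : V} (hu : u ∈ quadU X Y k) : X u ∈ quadU X Y (k + 1) := by
  obtain ⟨a, ha, b, hb, rfl⟩ := Submodule.mem_sup.mp hu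
  rw [map_add]
  refine Submodule.add_mem _ ?_ ?_
  · cases k with
    | zero =>
      exact Submodule.mem_sup_left (Submodule.mem_map_of_mem (f := X) (Submodule.mem_top))
    | succ k =>
      obtain ⟨c, -, rfl⟩ := ha
      rw [hX]
      exact Submodule.zero_mem _
  · exact Submodule.mem_sup_left (Submodule.mem_map_of_mem (f := X) hb)

theorem quadU_map_right (X Y : Module.End (ZMod p) V) (hY : ∀ v, Y (Y v) = 0) (k : ℕ)
    {u : V} (hu : u ∈ quadU X Y k) : Y u ∈ quadU X Y (k + 1) := by
  obtain ⟨a, ha, b, hb, rfl⟩ := Submodule.mem_sup.mp hu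
  rw [map_add]
  refine Submodule.add_mem _ ?_ ?_
  · exact Submodule.mem_sup_right (Submodule.mem_map_of_mem (f := Y) ha)
  · cases k with
    | zero =>
      exact Submodule.mem_sup_right (Submodule.mem_map_of_mem (f := Y) (Submodule.mem_top))
    | succ k =>
      obtain ⟨c, -, rfl⟩ := hb
      rw [hY]
      exact Submodule.zero_mem _

/-- `g` shifts the filtration. -/
def QuadShift (X Y : Module.End (ZMod p) V) (g : V ≃ₗ[ZMod p] V) : Prop :=
  ∀ k, ∀ u ∈ quadU X Y k, g u - u ∈ quadU X Y (k + 1)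

theorem QuadShift.one (X Y : Module.End (ZMod p) V) : QuadShift X Y 1 := by
  intro k u _
  simp

theorem QuadShift.mul {X Y : Module.End (ZMod p) V} {g h : V ≃ₗ[ZMod p] V}
    (hg : QuadShift X Y g) (hh : QuadShift X Y h) : QuadShift X Y (g * h) := by
  intro k u hu
  have hw := hh k u hu
  have h1 := hg (k + 1) _ hw
  have h2 := hg k u hu
  have : (g * h) u - u = (g (h u - u) - (h u - u)) + (h u - u) + (g u - u) := by
    rw [LinearEquiv.mul_apply, map_sub]
    abel
  rw [this]
  exact Submodule.add_mem _ (Submodule.add_mem _ (quadU_anti X Y (k + 1) h1) hw) h2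

theorem quadShift_of_quadratic (x : V ≃ₗ[ZMod p] V) (Y : Module.End (ZMod p) V)
    (hx : ∀ v, x (x v - v) = x v - v) :
    QuadShift (x.toLinearMap - 1) Y x ∧ QuadShift (x.toLinearMap - 1) Y x⁻¹ := by
  have hX : ∀ v, (x.toLinearMap - 1 : Module.End (ZMod p) V)
      ((x.toLinearMap - 1 : Module.End (ZMod p) V) v) = 0 := by
    intro v
    simp only [LinearMap.sub_apply, LinearEquiv.coe_coe, Module.End.one_apply, map_sub]
    have := hx v
    rw [map_sub] at this
    rw [this]
    abel
  have key : ∀ k, ∀ u ∈ quadU (x.toLinearMap - 1) Y k,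
      x u - u ∈ quadU (x.toLinearMap - 1) Y (k + 1) := by
    intro k u hu
    have := quadU_map_left (x.toLinearMap - 1) Y hX k hu
    simpa using this
  refine ⟨key, ?_⟩
  intro k u hu
  have hinv : (x⁻¹ : V ≃ₗ[ZMod p] V) u = u - (x u - u) := by
    apply x.injective
    have h1 : x ((x⁻¹ : V ≃ₗ[ZMod p] V) u) = u := by
      show (x * x⁻¹) u = u
      simp
    rw [h1, map_sub, hx]
    abel
  rw [hinv]
  have : u - (x u - u) - u = -(x u - u) := by abel
  rw [this]
  exact Submodule.neg_mem _ (key k u hu)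

theorem quadShift_of_quadratic' (X : Module.End (ZMod p) V) (y : V ≃ₗ[ZMod p] V)
    (hy : ∀ v, y (y v - v) = y v - v) :
    QuadShift X (y.toLinearMap - 1) y ∧ QuadShift X (y.toLinearMap - 1) y⁻¹ := by
  have hY : ∀ v, (y.toLinearMap - 1 : Module.End (ZMod p) V)
      ((y.toLinearMap - 1 : Module.End (ZMod p) V) v) = 0 := by
    intro v
    simp only [LinearMap.sub_apply, LinearEquiv.coe_coe, Module.End.one_apply, map_sub]
    have := hy v
    rw [map_sub] at this
    rw [this]
    abel
  have key : ∀ k, ∀ u ∈ quadU X (y.toLinearMap - 1) k,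
      y u - u ∈ quadU X (y.toLinearMap - 1) (k + 1) := by
    intro k u hu
    have := quadU_map_right X (y.toLinearMap - 1) hY k hu
    simpa using this
  refine ⟨key, ?_⟩
  intro k u hu
  have hinv : (y⁻¹ : V ≃ₗ[ZMod p] V) u = u - (y u - u) := by
    apply y.injective
    have h1 : y ((y⁻¹ : V ≃ₗ[ZMod p] V) u) = u := by
      show (y * y⁻¹) u = u
      simp
    rw [h1, map_sub, hy]
    abel
  rw [hinv]
  have : u - (y u - u) - u = -(y u - u) := by abel
  rw [this]
  exact Submodule.neg_mem _ (key k u hu)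

theorem QuadShift.pow_mem {X Y : Module.End (ZMod p) V} {g : V ≃ₗ[ZMod p] V}
    (hg : QuadShift X Y g) (m : ℕ) (v : V) :
    ((g.toLinearMap - 1 : Module.End (ZMod p) V) ^ m) v ∈ quadU X Y m := by
  induction m with
  | zero =>
    show _ ∈ (⊤ : Submodule (ZMod p) V) ⊔ ⊤
    simp
  | succ m ih =>
    rw [pow_succ', Module.End.mul_apply]
    have := hg m _ ih
    simpa using this

/-- (N0) Two quadratic automorphisms `x, y` with `((x-1)(y-1))^n = 0` generate a `p`-group. -/
theorem isPGroup_of_nilpotent {p : ℕ} [Fact p.Prime] {V : Type*} [AddCommGroup V]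
    [Module (ZMod p) V] (x y : V ≃ₗ[ZMod p] V) (hx : ∀ v, x (x v - v) = x v - v)
    (hy : ∀ v, y (y v - v) = y v - v) (n : ℕ)
    (hn : ((x.toLinearMap - 1) * (y.toLinearMap - 1)) ^ n = 0) :
    ∀ g ∈ Subgroup.closure {x, y}, ∃ k : ℕ, g ^ p ^ k = 1 := by
  intro g hg
  rcases subsingleton_or_nontrivial V with hV | hV
  · exact ⟨0, LinearEquiv.ext fun v => Subsingleton.elim _ _⟩
  set X : Module.End (ZMod p) V := x.toLinearMap - 1 with hXdef
  set Y : Module.End (ZMod p) V := y.toLinearMap - 1 with hYdef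
  have hsx := quadShift_of_quadratic x Y hx
  have hsy := quadShift_of_quadratic' X y hy
  have hshift : QuadShift X Y g := by
    induction hg using Subgroup.closure_induction_left with
    | one => exact QuadShift.one X Y
    | mul_left a ha b _ ih =>
      rcases ha with rfl | rfl
      · exact hsx.1.mul ih
      · exact hsy.1.mul ih
    | inv_mul_cancel a ha b _ ih =>
      rcases ha with rfl | rfl
      · exact hsx.2.mul ih
      · exact hsy.2.mul ih
  have hbot := quadU_eq_bot X Y n hn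
  set N : Module.End (ZMod p) V := g.toLinearMap - 1 with hNdef
  have hN0 : N ^ (2 * n + 1) = 0 := by
    apply LinearMap.ext
    intro v
    have := hshift.pow_mem (2 * n + 1) v
    rw [hbot] at this
    simpa using this
  have hp1 : 1 < p := (Fact.out : p.Prime).one_lt
  have hle : 2 * n + 1 ≤ p ^ (2 * n + 1) := (Nat.lt_pow_self hp1).le
  have hN1 : N ^ (p ^ (2 * n + 1)) = 0 := pow_eq_zero_of_le hle hN0
  have hchar : CharP (Module.End (ZMod p) V) p :=
    ((algebraMap (ZMod p) (Module.End (ZMod p) V)).charP_iff_charP p).mp inferInstance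
  refine ⟨2 * n + 1, ?_⟩
  have hpow : (g.toLinearMap : Module.End (ZMod p) V) ^ (p ^ (2 * n + 1)) = 1 := by
    have hg1 : (g.toLinearMap : Module.End (ZMod p) V) = N + 1 := by
      rw [hNdef]; abel
    rw [hg1, add_pow_char_pow_of_commute p _ (Commute.one_right N), hN1, one_pow, zero_add]
  apply LinearEquiv.ext
  intro v
  have h1 : ((g ^ p ^ (2 * n + 1) : V ≃ₗ[ZMod p] V) : V → V) =
      ⇑((g.toLinearMap : Module.End (ZMod p) V) ^ (p ^ (2 * n + 1))) := by
    rw [LinearEquiv.coe_pow, Module.End.coe_pow]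
    rfl
  have h2 : (g ^ p ^ (2 * n + 1) : V ≃ₗ[ZMod p] V) v =
      ((g.toLinearMap : Module.End (ZMod p) V) ^ (p ^ (2 * n + 1))) v := congrFun h1 v
  rw [h2, hpow]
  rfl

end N0

section N2

/-- (N2) Equivariant `F_p`-linear "functional" `K ⊗ V → V` not killing a given `f ≠ 0`. -/
theorem exists_equivariant_functional {p : ℕ} [Fact p.Prime] {V : Type*} [AddCommGroup V]
    [Module (ZMod p) V] [Finite V] (K : Type*) [Field K] [Algebra (ZMod p) K]
    (f : K ⊗[ZMod p] V) (hf : f ≠ 0) :
    ∃ π : K ⊗[ZMod p] V →ₗ[ZMod p] V, π f ≠ 0 ∧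
      ∀ (g : V ≃ₗ[ZMod p] V) (t : K ⊗[ZMod p] V),
        π (LinearEquiv.baseChange (ZMod p) K V V g t) = g (π t) := by
  classical
  let b := Module.Free.chooseBasis (ZMod p) V
  let B := Algebra.TensorProduct.basis K b
  obtain ⟨i, hi⟩ : ∃ i, B.repr f i ≠ 0 := by
    by_contra hcon
    push Not at hcon
    apply hf
    apply B.repr.injective
    rw [map_zero]
    exact Finsupp.ext hcon
  obtain ⟨ℓ, hℓ⟩ : ∃ ℓ : Module.Dual (ZMod p) K, ℓ (B.repr f i) ≠ 0 := by
    by_contra hcon
    push Not at hcon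
    exact hi ((Module.forall_dual_apply_eq_zero_iff (ZMod p) _).mp hcon)
  let π : K ⊗[ZMod p] V →ₗ[ZMod p] V :=
    (TensorProduct.lid (ZMod p) V).toLinearMap ∘ₗ LinearMap.rTensor V ℓ
  have hπ : ∀ (a : K) (v : V), π (a ⊗ₜ v) = ℓ a • v := by
    intro a v
    simp [π]
  have hrepr : ∀ t : K ⊗[ZMod p] V, b.repr (π t) i = ℓ (B.repr t i) := by
    intro t
    induction t using TensorProduct.induction_on with
    | zero => simp
    | tmul a v =>
      rw [hπ, Algebra.TensorProduct.basis_repr_tmul]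
      simp only [map_smul, Finsupp.smul_apply, Finsupp.mapRange_apply, smul_eq_mul]
      rw [mul_comm a, ← Algebra.smul_def, map_smul, smul_eq_mul, mul_comm]
    | add s t hs ht =>
      simp only [map_add, Finsupp.add_apply, hs, ht]
  refine ⟨π, ?_, ?_⟩
  · intro h0
    apply hℓ
    rw [← hrepr, h0]
    simp
  · intro g t
    induction t using TensorProduct.induction_on with
    | zero => simp
    | tmul a v =>
      rw [LinearEquiv.baseChange_tmul, hπ, hπ, map_smul]
    | add s t hs ht =>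
      simp only [map_add, hs, ht]

end N2

end Cfsg.Agent.Lib.Helper54
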