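import Cfsg.Prelude.Def_LocalStructure

set_option autoImplicit false

namespace Cfsg.Agent.Lib.Helper54

open Cfsg

variable {G : Type*} [Group G] {p : ℕ}

/-! ### pCore -/

theorem pCore_normal (p : ℕ) (G : Type*) [Group G] : (pCore p G).Normal :=
  Subgroup.sSup_normal _ (fun _ h => h.1)

theorem pCore_isPGroup (p : ℕ) (G : Type*) [Group G] : IsPGroup p ↥(pCore p G) :=
  Sylow.sSup_of_normal _ (fun _ h => h.2) (fun _ h => h.1)

theorem le_pCore {N : Subgroup G} (hN : N.Normal) (h : IsPGroup p ↥N) : N ≤ pCore p G :=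
  le_sSup ⟨hN, h⟩

theorem pCore_le_sylow (P : Sylow p G) : pCore p G ≤ (P : Subgroup G) :=
  have := pCore_normal p G
  (pCore_isPGroup p G).le_sylow_of_normal P

theorem pCore_characteristic (p : ℕ) (G : Type*) [Group G] : (pCore p G).Characteristic := by
  rw [Subgroup.characteristic_iff_map_le]
  intro ϕ
  apply le_pCore
  · have := pCore_normal p G
    exact Subgroup.Normal.map inferInstance _ ϕ.surjective
  · exact (pCore_isPGroup p G).map _

/-! ### pResidual -/

theorem pResidual_characteristic (p : ℕ) (G : Type*) [Group G] :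
    (pResidual p G).Characteristic := by
  rw [Subgroup.characteristic_iff_map_le]
  intro ϕ
  unfold pResidual
  rw [MonoidHom.map_closure, Subgroup.closure_le]
  rintro _ ⟨g, hg, rfl⟩
  apply Subgroup.subset_closure
  show Nat.Coprime (orderOf (ϕ g)) p
  rw [MulEquiv.orderOf_eq]
  exact hg

theorem pResidual_normal (p : ℕ) (G : Type*) [Group G] : (pResidual p G).Normal :=
  have := pResidual_characteristic p G
  Subgroup.normal_of_characteristic _

theorem mem_pResidual_of_coprime {g : G} (h : Nat.Coprime (orderOf g) p) : g ∈ pResidual p G :=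
  Subgroup.subset_closure h

/-- every element of a finite group has a `p`-power power in the `p`-residual -/
theorem exists_pow_mem_pResidual [Finite G] [Fact p.Prime] (g : G) :
    ∃ k : ℕ, g ^ (p ^ k) ∈ pResidual p G := by
  have hp : p.Prime := Fact.out
  obtain ⟨e, m, hm, hn⟩ := Nat.exists_eq_pow_mul_and_not_dvd (orderOf_pos g).ne' p hp.ne_one
  refine ⟨e, mem_pResidual_of_coprime ?_⟩
  rw [orderOf_pow' _ (pow_ne_zero _ hp.ne_zero), hn]
  have h1 : (p ^ e * m).gcd (p ^ e) = p ^ e := Nat.gcd_eq_right (Dvd.intro _ rfl)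
  rw [h1, Nat.mul_div_cancel_left _ (pow_pos hp.pos _)]
  exact ((Nat.Prime.coprime_iff_not_dvd hp).2 hm).symm

theorem pResidual_quotient_isPGroup [Finite G] [Fact p.Prime] :
    haveI := pResidual_normal p G
    IsPGroup p (G ⧸ pResidual p G) := by
  haveI := pResidual_normal p G
  intro x
  induction x using QuotientGroup.induction_on with
  | H g =>
    obtain ⟨k, hk⟩ := exists_pow_mem_pResidual (p := p) g
    refine ⟨k, ?_⟩
    rw [← QuotientGroup.mk_pow, QuotientGroup.eq_one_iff]
    exact hk

/-- A normal subgroup with `p`-group quotient contains the `p`-residual. -/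
theorem pResidual_le_of_quotient_isPGroup {N : Subgroup G} [N.Normal]
    (h : IsPGroup p (G ⧸ N)) : pResidual p G ≤ N := by
  unfold pResidual
  rw [Subgroup.closure_le]
  intro g hg
  have hg : Nat.Coprime (orderOf g) p := hg
  obtain ⟨k, hk⟩ := h (QuotientGroup.mk g)
  have h1 : orderOf (QuotientGroup.mk g : G ⧸ N) ∣ p ^ k := orderOf_dvd_of_pow_eq_one hk
  have h2 : orderOf (QuotientGroup.mk g : G ⧸ N) ∣ orderOf g :=
    orderOf_map_dvd (QuotientGroup.mk' N) g
  have h3 : orderOf (QuotientGroup.mk g : G ⧸ N) = 1 :=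
    Nat.eq_one_of_dvd_coprimes (hg.pow_right k) h2 h1
  rw [orderOf_eq_one_iff, QuotientGroup.eq_one_iff] at h3
  exact h3

/-- Elementwise form: if every element of `G` has a `p`-power power in the normal
subgroup `N` then `N` contains the residual. -/
theorem pResidual_le_of_forall_pow_mem {N : Subgroup G} [N.Normal]
    (h : ∀ g : G, ∃ k : ℕ, g ^ (p ^ k) ∈ N) : pResidual p G ≤ N := by
  apply pResidual_le_of_quotient_isPGroup
  intro x
  induction x using QuotientGroup.induction_on with
  | H g =>
    obtain ⟨k, hk⟩ := h g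
    exact ⟨k, by rw [← QuotientGroup.mk_pow, QuotientGroup.eq_one_iff]; exact hk⟩

/-- `O^p(G) * P = G` for a Sylow `p`-subgroup `P` of a finite group. -/
theorem pResidual_sup_sylow [Finite G] [Fact p.Prime] (P : Sylow p G) :
    pResidual p G ⊔ (P : Subgroup G) = ⊤ := by
  haveI := pResidual_normal p G
  -- index of the join is coprime to p and a power of p
  have h1 : (pResidual p G ⊔ (P : Subgroup G)).index ∣ (P : Subgroup G).index :=
    Subgroup.index_dvd_of_le le_sup_right
  have h2 : (pResidual p G ⊔ (P : Subgroup G)).index ∣ (pResidual p G).index :=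
    Subgroup.index_dvd_of_le le_sup_left
  have h3 : ∃ n, (pResidual p G).index = p ^ n := by
    have := (IsPGroup.iff_card (p := p) (G := G ⧸ pResidual p G)).1 pResidual_quotient_isPGroup
    simpa [Subgroup.index_eq_card] using this
  obtain ⟨n, hn⟩ := h3
  have h4 : ¬ p ∣ (P : Subgroup G).index := P.not_dvd_index
  have hp : p.Prime := Fact.out
  rw [hn] at h2
  obtain ⟨j, _, hj⟩ := (Nat.dvd_prime_pow hp).1 h2
  rw [← Subgroup.index_eq_one]
  rcases Nat.eq_zero_or_pos j with h0 | h0
  · rw [hj, h0, pow_zero]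
  · exfalso
    apply h4
    refine dvd_trans ?_ h1
    rw [hj]
    exact dvd_pow_self p h0.ne'

/-- `O_p(G) ∩ N` lies in every Sylow `p`-subgroup of `N`. -/
theorem pCore_subgroupOf_le_sylow (N : Subgroup G) (P : Sylow p ↥N) :
    (pCore p G).subgroupOf N ≤ (P : Subgroup ↥N) := by
  have h1 := pCore_normal p G
  have h2 : ((pCore p G).subgroupOf N).Normal := Subgroup.Normal.subgroupOf h1 N
  have h3 : IsPGroup p ↥((pCore p G).subgroupOf N) :=
    (pCore_isPGroup p G).comap_of_injective N.subtype N.subtype_injective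
  exact h3.le_sylow_of_normal P

end Cfsg.Agent.Lib.Helper54
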