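import Mathlib
import Cfsg.Prelude.Def_ConjugacyFunctors
import Cfsg.Prelude.Def_LocalEven
import Cfsg.Prelude.Def_PLocal
import Cfsg.Agent.Lib.Helper53.ThompsonJA
import Cfsg.Agent.Lib.Helper90.Involves

/-!
# The functor `Z(J(-))` (abelian version) and the glue for the `Qd(p)`-free control theorem
-/

set_option autoImplicit false
open Cfsg
open Cfsg.Agent.Lib.Helper53

namespace Cfsg.Agent.Lib.Helper54

universe u

/-- the functor `Q ↦ Z(J(Q))`, `J` the abelian-version Thompson subgroup -/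
def ZJAfun : ∀ (Q : Type u) [Group Q], Subgroup Q :=
  fun Q _ => thompsonSubgroupA Q ⊓ Subgroup.centralizer (thompsonSubgroupA Q : Set Q)

theorem mem_ZJAfun {Q : Type u} [Group Q] (x : Q) :
    x ∈ ZJAfun Q ↔ x ∈ thompsonSubgroupA Q ∧ ∀ j ∈ thompsonSubgroupA Q, j * x = x * j := by
  unfold ZJAfun
  rw [Subgroup.mem_inf]
  constructor
  · rintro ⟨h1, h2⟩
    have h2' : x ∈ Subgroup.centralizer (thompsonSubgroupA Q : Set Q) := h2
    rw [Subgroup.mem_centralizer_iff] at h2'
    exact ⟨h1, h2'⟩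
  · rintro ⟨h1, h2⟩
    refine ⟨h1, ?_⟩
    have : x ∈ Subgroup.centralizer (thompsonSubgroupA Q : Set Q) := by
      rw [Subgroup.mem_centralizer_iff]; exact h2
    exact this

section Char
variable {p : ℕ} [Fact p.Prime]

theorem isCharPFunctor_ZJA : IsCharPFunctor.{u} p ZJAfun := by
  refine ⟨?_, ?_⟩
  · intro Q _ _ hQ _
    have hJ : thompsonSubgroupA Q ≠ ⊥ := thompsonA_ne_bot Q
    have hJn : Nontrivial ↥(thompsonSubgroupA Q) := (Subgroup.nontrivial_iff_ne_bot _).mpr hJ
    have hJp : IsPGroup p ↥(thompsonSubgroupA Q) := hQ.to_subgroup _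
    have hc : Nontrivial (Subgroup.center ↥(thompsonSubgroupA Q)) := hJp.center_nontrivial
    obtain ⟨c, hc1⟩ := exists_ne (1 : Subgroup.center ↥(thompsonSubgroupA Q))
    intro hbot
    apply hc1
    have hmem : ((c : ↥(thompsonSubgroupA Q)) : Q) ∈ ZJAfun Q := by
      rw [mem_ZJAfun]
      refine ⟨(c : ↥(thompsonSubgroupA Q)).2, ?_⟩
      intro j hj
      have h1 := Subgroup.mem_center_iff.mp c.2 ⟨j, hj⟩
      exact congrArg Subtype.val h1
    rw [hbot, Subgroup.mem_bot] at hmem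
    apply Subtype.ext
    apply Subtype.ext
    exact hmem
  · intro Q R _ _ _ _ φ
    ext y
    rw [mem_ZJAfun, ← thompsonA_map_equiv φ]
    constructor
    · rintro ⟨x, hx, rfl⟩
      rw [SetLike.mem_coe, mem_ZJAfun] at hx
      refine ⟨⟨x, hx.1, rfl⟩, ?_⟩
      rintro _ ⟨j, hj, rfl⟩
      show φ j * φ x = φ x * φ j
      rw [← map_mul, ← map_mul, hx.2 j hj]
    · rintro ⟨⟨x, hx, rfl⟩, h2⟩
      refine ⟨x, ?_, rfl⟩
      rw [SetLike.mem_coe, mem_ZJAfun]
      refine ⟨hx, ?_⟩
      intro j hj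
      apply φ.injective
      rw [map_mul, map_mul]
      exact h2 (φ j) ⟨j, hj, rfl⟩

theorem inducedFunctor_ZJA {G : Type u} [Group G] (P : Subgroup G) :
    inducedFunctor ZJAfun P = centerThompsonAOf P := by
  ext x
  unfold inducedFunctor centerThompsonAOf thompsonSubgroupAOf
  constructor
  · rintro ⟨y, hy, rfl⟩
    rw [SetLike.mem_coe, mem_ZJAfun] at hy
    refine ⟨⟨y, hy.1, rfl⟩, ?_⟩
    have : (P.subtype y) ∈ Subgroup.centralizer
        (((thompsonSubgroupA ↥P).map P.subtype : Subgroup G) : Set G) := by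
      rw [Subgroup.mem_centralizer_iff]
      rintro _ ⟨j, hj, rfl⟩
      have := hy.2 j hj
      exact congrArg Subtype.val this
    exact this
  · rintro ⟨⟨y, hy, rfl⟩, h2⟩
    have h2' : (P.subtype y) ∈ Subgroup.centralizer
        (((thompsonSubgroupA ↥P).map P.subtype : Subgroup G) : Set G) := h2
    rw [Subgroup.mem_centralizer_iff] at h2'
    refine ⟨y, ?_, rfl⟩
    rw [SetLike.mem_coe, mem_ZJAfun]
    refine ⟨hy, ?_⟩
    intro j hj
    apply Subtype.ext
    exact h2' (P.subtype j) ⟨j, hj, rfl⟩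

end Char

/-- a group involved in a section of `G` is involved in `G` -/
theorem involves_of_involves_section {H : Type*} [Group H] {G : Type*} [Group G]
    (K R : Subgroup G) [hR : (R.subgroupOf K).Normal]
    (h : Cfsg.Involves H (↥K ⧸ R.subgroupOf K)) : Cfsg.Involves H G := by
  obtain ⟨K', f, hf⟩ := Cfsg.Agent.Lib.Helper90.exists_hom_of_involves h
  -- preimage of `K'` in `K`
  let M : Subgroup ↥K := K'.comap (QuotientGroup.mk' (R.subgroupOf K))
  let f' : ↥M →* H := f.comp (((QuotientGroup.mk' (R.subgroupOf K)).comp M.subtype).codRestrict K'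
    (fun x => x.2))
  refine Cfsg.Agent.Lib.Helper90.involves_of_hom (K.subtype.comp M.subtype) f' ?_ ?_
  · exact (Subgroup.subtype_injective K).comp (Subgroup.subtype_injective M)
  · intro x
    obtain ⟨k, hk⟩ := hf x
    obtain ⟨y, hy⟩ := QuotientGroup.mk'_surjective (R.subgroupOf K) (k : ↥K ⧸ R.subgroupOf K)
    have hyM : y ∈ M := by
      show QuotientGroup.mk' (R.subgroupOf K) y ∈ K'
      rw [hy]; exact k.2
    refine ⟨⟨y, hyM⟩, ?_⟩
    show f _ = x
    rw [← hk]
    congr 1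
    apply Subtype.ext
    exact hy

section main
variable {p : ℕ} [Fact p.Prime]

/-- the forward direction, from the `ZJ`-theorem (`Qd(p)`-free form) and the section control theorem -/
theorem qdfree_controls {G : Type u} [Group G] [Finite G]
    (h0664 : ∀ (X : Type u) [Group X] [Finite X],
      (¬ ∃ (K R : Subgroup X) (hR : (R.subgroupOf K).Normal),
        Nonempty ((K ⧸ R.subgroupOf K) ≃* ↥(Cfsg.qd p))) →
      Subgroup.centralizer (Cfsg.pCore p X : Set X) ≤ Cfsg.pCore p X →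
      ∀ S : Sylow p X, (Cfsg.centerThompsonAOf ((S : Subgroup X))).Normal)
    (h1969 : ∀ (W : ∀ (Q : Type u) [Group Q], Subgroup Q), Cfsg.IsCharPFunctor.{u} p W →
      (∀ (K R : Subgroup G) [hR : (R.subgroupOf K).Normal],
        Subgroup.centralizer ((Cfsg.pCore p (↥K ⧸ R.subgroupOf K) :
          Subgroup (↥K ⧸ R.subgroupOf K)) : Set (↥K ⧸ R.subgroupOf K)) ≤
            Cfsg.pCore p (↥K ⧸ R.subgroupOf K) →
        ∀ T : Sylow p (↥K ⧸ R.subgroupOf K),
          (Cfsg.inducedFunctor (G := (↥K ⧸ R.subgroupOf K)) W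
            ((T : Subgroup (↥K ⧸ R.subgroupOf K)))).Normal) →
      ∀ (K R : Subgroup G) [hR : (R.subgroupOf K).Normal],
        ∀ T : Sylow p (↥K ⧸ R.subgroupOf K),
          Cfsg.ControlsStrongFusion p (Cfsg.inducedFunctor (G := (↥K ⧸ R.subgroupOf K)) W
            ((T : Subgroup (↥K ⧸ R.subgroupOf K)))))
    (hqd : ¬ Cfsg.Involves ↥(Cfsg.qd p) G) :
    ∀ (K R : Subgroup G) [hR : (R.subgroupOf K).Normal],
      ∀ T : Sylow p (K ⧸ R.subgroupOf K),
        Cfsg.ControlsStrongFusion p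
          (Cfsg.centerThompsonAOf (T : Subgroup (K ⧸ R.subgroupOf K))) := by
  intro K R hR T
  rw [← inducedFunctor_ZJA]
  refine h1969 ZJAfun isCharPFunctor_ZJA ?_ K R T
  intro K' R' hR' hc T'
  rw [inducedFunctor_ZJA]
  refine h0664 (↥K' ⧸ R'.subgroupOf K') ?_ hc T'
  rintro ⟨K'', R'', hR'', hiso⟩
  apply hqd
  exact involves_of_involves_section K' R' ⟨K'', R'', hR'', hiso⟩

end main

end Cfsg.Agent.Lib.Helper54
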