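import Cfsg.Agent.Lib.Helper54.Conj

set_option autoImplicit false

namespace Cfsg.Agent.Lib.Helper54

open Cfsg
open scoped commutatorElement Pointwise

variable {P : Type*} [Group P] {p : ℕ}

/-- If a subgroup `N` of a finite group `P` contains all commutators and all `p`-th powers
(so that `P/N` is elementary abelian) then `Φ(P) ≤ N`. -/
theorem frattini_le_of_commutator_le_of_pow_mem [Finite P] [Fact p.Prime] (N : Subgroup P)
    (hc : commutator P ≤ N) (hpow : ∀ x : P, x ^ p ∈ N) : frattini P ≤ N := by
  have hp : p.Prime := Fact.out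
  intro x hx
  by_contra hxN
  -- choose M maximal with N ≤ M and x ∉ M
  let S : Set (Subgroup P) := {M | N ≤ M ∧ x ∉ M}
  have hSfin : S.Finite := Set.toFinite S
  have hSne : S.Nonempty := ⟨N, le_rfl, hxN⟩
  obtain ⟨M, hM⟩ := hSfin.exists_maximal hSne
  obtain ⟨⟨hNM, hxM⟩, hmax⟩ := hM
  have hMn : M.Normal := Subgroup.Normal.of_commutator_le P (hc.trans hNM)
  -- M is a coatom
  have hco : IsCoatom M := by
    constructor
    · intro h; apply hxM; rw [h]; exact Subgroup.mem_top x
    · intro L hML
      by_contra hL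
      have hxL : x ∈ L := by
        by_contra hxL
        have : L ≤ M := hmax (show L ∈ S from ⟨hNM.trans hML.le, hxL⟩) hML.le
        exact absurd hML (not_lt_of_ge this)
      obtain ⟨y, hy⟩ : ∃ y, y ∉ L := by
        by_contra h
        exact hL (eq_top_iff.2 fun z _ => by
          by_contra hz
          exact h ⟨z, hz⟩)
      have hyM : y ∉ M := fun h => hy (hML.le h)
      have hxM' : x ∈ M ⊔ Subgroup.zpowers y := by
        by_contra hxM'
        have hle : M ⊔ Subgroup.zpowers y ≤ M :=
          hmax (show M ⊔ Subgroup.zpowers y ∈ S from ⟨hNM.trans le_sup_left, hxM'⟩) le_sup_left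
        exact hyM (hle (le_sup_right (a := M) (Subgroup.mem_zpowers y)))
      have hxM'' : x ∈ ((M ⊔ Subgroup.zpowers y : Subgroup P) : Set P) := hxM'
      rw [Subgroup.normal_mul] at hxM''
      obtain ⟨m, hm, z, hz, hmz⟩ := hxM''
      obtain ⟨k, rfl⟩ := Subgroup.mem_zpowers_iff.1 hz
      have hykL : y ^ k ∈ L := by
        have : y ^ k = m⁻¹ * x := by rw [← hmz]; group
        rw [this]
        exact L.mul_mem (L.inv_mem (hML.le hm)) hxL
      by_cases hdvd : (p : ℤ) ∣ k
      · obtain ⟨j, rfl⟩ := hdvd
        apply hxM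
        rw [← hmz]
        refine M.mul_mem hm (hNM ?_)
        rw [zpow_mul, zpow_natCast]
        exact N.zpow_mem (hpow y) j
      · have hcop : IsCoprime (p : ℤ) k :=
          ((Nat.prime_iff_prime_int.1 hp).irreducible.coprime_iff_not_dvd).2 hdvd
        obtain ⟨a, b, hab⟩ := hcop
        apply hy
        have : y = (y ^ p) ^ a * (y ^ k) ^ b := by
          rw [← zpow_natCast y p, ← zpow_mul, ← zpow_mul, ← zpow_add, mul_comm (p : ℤ) a,
            mul_comm k b, hab, zpow_one]
        rw [this]
        exact L.mul_mem (L.zpow_mem (hML.le (hNM (hpow y))) a) (L.zpow_mem hykL b)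
  exact hxM (frattini_le_coatom hco hx)

end Cfsg.Agent.Lib.Helper54
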