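import Cfsg.Agent.Lib.Helper54.CommStab
import Cfsg.Agent.Lib.Helper29.Coprime

set_option autoImplicit false

namespace Cfsg.Agent.Lib.Helper54

open Cfsg
open scoped commutatorElement

variable {G : Type*} [Group G] {p : ℕ}

/-- cosets of a `Y`-invariant subgroup `N ⊇ [R,Y]` of a `p'`-group `R` contain `Y`-fixed points -/
theorem le_sup_inf_centralizer_of_coprime [Finite G] [Fact p.Prime] {R Y N : Subgroup G}
    (hY : IsPGroup p ↥Y) (hcop : (Nat.card ↥R).Coprime p) (hNR : N ≤ R)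
    (hYN : Y ≤ Subgroup.normalizer (N : Set G)) (hRY : ⁅R, Y⁆ ≤ N) :
    R ≤ N ⊔ (R ⊓ Subgroup.centralizer (Y : Set G)) := by
  intro x hx
  let S : Set G := (fun n => x * n) '' (N : Set G)
  have hfin : Finite S := Set.Finite.image _ (Set.toFinite _)
  have hcard : Nat.card S = Nat.card ↥N := by
    have := Nat.card_image_of_injective (mul_right_injective x) (N : Set G)
    simpa [S] using this
  have hinv : ∀ g ∈ Y, ∀ s ∈ S, g * s * g⁻¹ ∈ S := by
    rintro g hg _ ⟨n, hn, rfl⟩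
    refine ⟨(x⁻¹ * g * x * g⁻¹) * (g * n * g⁻¹), ?_, by group⟩
    apply N.mul_mem
    · have h1 : ⁅x⁻¹, g⁆ ∈ ⁅R, Y⁆ := Subgroup.commutator_mem_commutator (R.inv_mem hx) hg
      have e : ⁅x⁻¹, g⁆ = x⁻¹ * g * x * g⁻¹ := by simp [commutatorElement_def]
      rw [← e]; exact hRY h1
    · exact (Subgroup.mem_normalizer_iff.1 (hYN hg) n).1 hn
  have hnd : ¬ p ∣ Nat.card S := by
    rw [hcard]
    intro hdvd
    have h1 : p ∣ Nat.card ↥R := hdvd.trans (Subgroup.card_dvd_of_le hNR)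
    have := Nat.Coprime.eq_one_of_dvd hcop.symm h1
    exact (Fact.out : p.Prime).one_lt.ne' this
  obtain ⟨s, ⟨n, hn, rfl⟩, hfix⟩ := Helper29.exists_conj_fixed_of_pgroup Y hY S hinv hnd
  have hxn : x * n ∈ R ⊓ Subgroup.centralizer (Y : Set G) := by
    refine Subgroup.mem_inf.2 ⟨R.mul_mem hx (hNR hn), ?_⟩
    rw [Subgroup.mem_centralizer_iff]
    intro g hg
    have := hfix g hg
    calc g * (x * n) = g * (x * n) * g⁻¹ * g := by group
      _ = x * n * g := by rw [this]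
  have e : x = (x * n) * n⁻¹ := by group
  rw [e, sup_comm]
  exact Subgroup.mul_mem_sup hxn (N.inv_mem hn)

/-- coprime action: `[R,Y,Y] = [R,Y]` -/
theorem commutator_commutator_eq_of_coprime [Finite G] [Fact p.Prime] {R Y : Subgroup G}
    (hY : IsPGroup p ↥Y) (hcop : (Nat.card ↥R).Coprime p)
    (hYR : Y ≤ Subgroup.normalizer (R : Set G)) : ⁅⁅R, Y⁆, Y⁆ = ⁅R, Y⁆ := by
  have hRYR : ⁅R, Y⁆ ≤ R := Subgroup.le_normalizer_iff_commutator_le_left.1 hYR
  apply le_antisymm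
  · exact Subgroup.le_normalizer_iff_commutator_le_left.1
      (Subgroup.normalizer_commutator_ge_right R Y)
  · have h1 := le_sup_inf_centralizer_of_coprime hY hcop hRYR
      (Subgroup.normalizer_commutator_ge_right R Y) le_rfl
    rw [Subgroup.commutator_le]
    intro x hx y hy
    obtain ⟨n, hn, c, hc, rfl⟩ := exists_mul_of_mem_sup_of_le_normalizer (A := ⁅R, Y⁆)
      (B := R ⊓ Subgroup.centralizer (Y : Set G))
      (inf_le_left.trans (Subgroup.normalizer_commutator_ge_left R Y)) (h1 hx)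
    have hcy : c * y = y * c := ((Subgroup.mem_centralizer_iff.1 hc.2) y hy).symm
    have e : ⁅n * c, y⁆ = ⁅n, y⁆ := by
      simp only [commutatorElement_def, mul_inv_rev]
      calc n * c * y * (c⁻¹ * n⁻¹) * y⁻¹ = n * (c * y) * c⁻¹ * n⁻¹ * y⁻¹ := by group
        _ = n * (y * c) * c⁻¹ * n⁻¹ * y⁻¹ := by rw [hcy]
        _ = n * y * n⁻¹ * y⁻¹ := by group
    rw [e]
    exact Subgroup.commutator_mem_commutator hn hy

/-- coprime action: `R = [R,Y] C_R(Y)` -/
theorem commutator_sup_inf_centralizer_of_coprime [Finite G] [Fact p.Prime] {R Y : Subgroup G}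
    (hY : IsPGroup p ↥Y) (hcop : (Nat.card ↥R).Coprime p)
    (hYR : Y ≤ Subgroup.normalizer (R : Set G)) :
    ⁅R, Y⁆ ⊔ (R ⊓ Subgroup.centralizer (Y : Set G)) = R := by
  have hRYR : ⁅R, Y⁆ ≤ R := Subgroup.le_normalizer_iff_commutator_le_left.1 hYR
  apply le_antisymm (sup_le hRYR inf_le_left)
  exact le_sup_inf_centralizer_of_coprime hY hcop hRYR
    (Subgroup.normalizer_commutator_ge_right R Y) le_rfl

theorem comm_identity_aux (k u k' : G) (h : k' * u = u * k') :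
    (k * u) * (k' * (k * u)⁻¹ * k'⁻¹) = ⁅k, k'⁆ := by
  rw [commutatorElement_def]
  calc (k * u) * (k' * (k * u)⁻¹ * k'⁻¹) = k * (u * k') * u⁻¹ * k⁻¹ * k'⁻¹ := by group
    _ = k * (k' * u) * u⁻¹ * k⁻¹ * k'⁻¹ := by rw [h]
    _ = k * k' * k⁻¹ * k'⁻¹ := by group

/-- internal quasisimplicity of a subgroup -/
def IQS (K : Subgroup G) : Prop :=
  ⁅K, K⁆ = K ∧ ∀ N : Subgroup G, N ≤ K → K ≤ Subgroup.normalizer (N : Set G) →
    N = K ∨ N ≤ Subgroup.centralizer (K : Set G)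

/-- the basic dichotomy for a quasisimple `K` whose `Y`-conjugates are `K` or commute with `K` -/
theorem IQS.le_commutator_or {K W Y : Subgroup G} (hK : IQS K) (hKW : K ≤ W)
    (hmove : ∀ y ∈ Y, K.map (MulAut.conj y).toMonoidHom = K ∨
      K.map (MulAut.conj y).toMonoidHom ≤ Subgroup.centralizer (K : Set G)) :
    K ≤ ⁅W, Y⁆ ∨ ⁅K, Y⁆ = ⊥ := by
  by_cases h : ∀ y ∈ Y, K.map (MulAut.conj y).toMonoidHom = K
  · have hYK : Y ≤ Subgroup.normalizer (K : Set G) := fun y hy =>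
      mem_normalizer_of_map_conj_eq (h y hy)
    have h1 : ⁅K, Y⁆ ≤ K := Subgroup.le_normalizer_iff_commutator_le_left.1 hYK
    rcases hK.2 _ h1 (Subgroup.normalizer_commutator_ge_left K Y) with h2 | h2
    · left
      rw [← h2]
      exact Subgroup.commutator_mono hKW le_rfl
    · right
      have h3 : ⁅⁅K, Y⁆, K⁆ = ⊥ := Subgroup.commutator_eq_bot_iff_le_centralizer.2 h2
      have h4 : ⁅⁅Y, K⁆, K⁆ = ⊥ := by rw [Subgroup.commutator_comm Y K]; exact h3
      have h5 := Subgroup.commutator_commutator_eq_bot_of_rotate h3 h4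
      rwa [hK.1] at h5
  · left
    push Not at h
    obtain ⟨y, hy, hne⟩ := h
    have hcen : K.map (MulAut.conj y).toMonoidHom ≤ Subgroup.centralizer (K : Set G) := by
      rcases hmove y hy with h1 | h1
      · exact absurd h1 hne
      · exact h1
    have hgoal : ⁅K, K⁆ ≤ ⁅W, Y⁆ := by
      rw [Subgroup.commutator_le]
      intro k hk k' hk'
      have hu : y * k⁻¹ * y⁻¹ ∈ Subgroup.centralizer (K : Set G) :=
        hcen (conj_mem_map_conj (K.inv_mem hk))
      have hu' : k' * (y * k⁻¹ * y⁻¹) = (y * k⁻¹ * y⁻¹) * k' :=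
        (Subgroup.mem_centralizer_iff.1 hu) k' hk'
      have hc : ⁅k, y⁆ ∈ ⁅W, Y⁆ := Subgroup.commutator_mem_commutator (hKW hk) hy
      have hn : k' ∈ Subgroup.normalizer ((⁅W, Y⁆ : Subgroup G) : Set G) :=
        Subgroup.normalizer_commutator_ge_left W Y (hKW hk')
      have hc2 : k' * ⁅k, y⁆⁻¹ * k'⁻¹ ∈ ⁅W, Y⁆ :=
        (Subgroup.mem_normalizer_iff.1 hn _).1 (Subgroup.inv_mem _ hc)
      have hc3 := Subgroup.mul_mem _ hc hc2
      have e : ⁅k, y⁆ * (k' * ⁅k, y⁆⁻¹ * k'⁻¹) = ⁅k, k'⁆ := by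
        have e1 : ⁅k, y⁆ = k * (y * k⁻¹ * y⁻¹) := by
          simp [commutatorElement_def, mul_assoc]
        rw [e1]
        exact comm_identity_aux k (y * k⁻¹ * y⁻¹) k' hu'
      rw [← e]
      exact hc3
    rwa [hK.1] at hgoal


theorem normalizer_sup_ge {X A B : Subgroup G} (hA : X ≤ Subgroup.normalizer (A : Set G))
    (hB : X ≤ Subgroup.normalizer (B : Set G)) :
    X ≤ Subgroup.normalizer ((A ⊔ B : Subgroup G) : Set G) := by
  intro x hx
  apply mem_normalizer_of_map_conj_eq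
  rw [Subgroup.map_sup, map_conj_eq_of_mem_normalizer (hA hx),
    map_conj_eq_of_mem_normalizer (hB hx)]

theorem le_centralizer_sSup {X : Subgroup G} {𝒮 : Set (Subgroup G)}
    (h : ∀ S ∈ 𝒮, S ≤ Subgroup.centralizer (X : Set G)) :
    X ≤ Subgroup.centralizer ((sSup 𝒮 : Subgroup G) : Set G) := by
  rw [Subgroup.le_centralizer_iff]
  exact sSup_le h

/-- the data of a `p`-group `Y` acting on a central product of quasisimple groups (permuted by
`Y`) and a `p'`-group `F₀` -/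
structure ActData (p : ℕ) (Y : Subgroup G) (𝒦 : Set (Subgroup G)) (F₀ : Subgroup G) : Prop where
  pgroup : IsPGroup p ↥Y
  qs : ∀ K ∈ 𝒦, IQS K
  comm : ∀ K ∈ 𝒦, ∀ K' ∈ 𝒦, K ≠ K' → K' ≤ Subgroup.centralizer (K : Set G)
  inv : ∀ K ∈ 𝒦, ∀ y ∈ Y, K.map (MulAut.conj y).toMonoidHom ∈ 𝒦
  commF : ∀ K ∈ 𝒦, K ≤ Subgroup.centralizer (F₀ : Set G)
  normF : Y ≤ Subgroup.normalizer (F₀ : Set G)
  cop : (Nat.card ↥F₀).Coprime p

/-- the members of `𝒦` not centralised by `Y` -/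
def movedSet (Y : Subgroup G) (𝒦 : Set (Subgroup G)) : Set (Subgroup G) :=
  {K | K ∈ 𝒦 ∧ ⁅K, Y⁆ ≠ ⊥}

namespace ActData

variable {Y F₀ : Subgroup G} {𝒦 : Set (Subgroup G)}

theorem hmove (h : ActData p Y 𝒦 F₀) {K : Subgroup G} (hK : K ∈ 𝒦) :
    ∀ y ∈ Y, K.map (MulAut.conj y).toMonoidHom = K ∨
      K.map (MulAut.conj y).toMonoidHom ≤ Subgroup.centralizer (K : Set G) := by
  intro y hy
  by_cases h1 : K.map (MulAut.conj y).toMonoidHom = K
  · exact Or.inl h1
  · exact Or.inr (h.comm K hK _ (h.inv K hK y hy) (Ne.symm h1))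

theorem dich (h : ActData p Y 𝒦 F₀) {K W : Subgroup G} (hK : K ∈ 𝒦) (hKW : K ≤ W) :
    K ≤ ⁅W, Y⁆ ∨ ⁅K, Y⁆ = ⊥ :=
  (h.qs K hK).le_commutator_or hKW (h.hmove hK)

theorem movedSet_inv (h : ActData p Y 𝒦 F₀) {K : Subgroup G} (hK : K ∈ movedSet Y 𝒦) {y : G}
    (hy : y ∈ Y) : K.map (MulAut.conj y).toMonoidHom ∈ movedSet Y 𝒦 := by
  refine ⟨h.inv K hK.1 y hy, fun h1 => hK.2 ?_⟩
  have hYY : Y.map (MulAut.conj y).toMonoidHom = Y :=
    map_conj_eq_of_mem_normalizer (Subgroup.le_normalizer hy)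
  have h2 : (⁅K, Y⁆).map (MulAut.conj y).toMonoidHom = ⊥ := by
    rw [Subgroup.map_commutator, hYY]; exact h1
  exact (Subgroup.map_eq_bot_iff_of_injective _ (MulAut.conj y).injective).1 h2

theorem commutator_le_movedSet (h : ActData p Y 𝒦 F₀) {K : Subgroup G}
    (hK : K ∈ movedSet Y 𝒦) : ⁅K, Y⁆ ≤ sSup (movedSet Y 𝒦) := by
  rw [Subgroup.commutator_le]
  intro k hk y hy
  have e1 : ⁅k, y⁆ = k * (y * k⁻¹ * y⁻¹) := by
    simp [commutatorElement_def, mul_assoc]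
  rw [e1]
  apply Subgroup.mul_mem
  · exact (le_sSup hK) hk
  · exact (le_sSup (h.movedSet_inv hK hy)) (conj_mem_map_conj (K.inv_mem hk))

theorem commutator_le_of_mem (h : ActData p Y 𝒦 F₀) {K : Subgroup G} (hK : K ∈ 𝒦) :
    ⁅K, Y⁆ ≤ sSup (movedSet Y 𝒦) := by
  by_cases h1 : ⁅K, Y⁆ = ⊥
  · rw [h1]; exact bot_le
  · exact h.commutator_le_movedSet ⟨hK, h1⟩

theorem movedSet_le (Y : Subgroup G) (𝒦 : Set (Subgroup G)) :
    sSup (movedSet Y 𝒦) ≤ sSup 𝒦 :=
  sSup_le_sSup fun _ hK => hK.1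

theorem commutator_F_le (h : ActData p Y 𝒦 F₀) : ⁅F₀, Y⁆ ≤ F₀ :=
  Subgroup.le_normalizer_iff_commutator_le_left.1 h.normF

theorem mem_normalizes_movedSet (h : ActData p Y 𝒦 F₀) {K : Subgroup G} (hK : K ∈ 𝒦) :
    K ≤ Subgroup.normalizer ((sSup (movedSet Y 𝒦) : Subgroup G) : Set G) := by
  by_cases h1 : K ∈ movedSet Y 𝒦
  · exact (le_sSup h1).trans Subgroup.le_normalizer
  · refine le_trans ?_ (Subgroup.centralizer_le_normalizer _)
    apply le_centralizer_sSup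
    intro K' hK'
    apply h.comm K hK K' hK'.1
    rintro rfl
    exact h1 hK'

theorem mem_normalizes (h : ActData p Y 𝒦 F₀) {K : Subgroup G} (hK : K ∈ 𝒦) :
    K ≤ Subgroup.normalizer ((sSup (movedSet Y 𝒦) ⊔ ⁅F₀, Y⁆ : Subgroup G) : Set G) := by
  apply normalizer_sup_ge (h.mem_normalizes_movedSet hK)
  refine le_trans ?_ (Subgroup.centralizer_le_normalizer _)
  exact (h.commF K hK).trans (Subgroup.centralizer_le h.commutator_F_le)

theorem F_normalizes (h : ActData p Y 𝒦 F₀) :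
    F₀ ≤ Subgroup.normalizer ((sSup (movedSet Y 𝒦) ⊔ ⁅F₀, Y⁆ : Subgroup G) : Set G) := by
  apply normalizer_sup_ge
  · refine le_trans ?_ (Subgroup.centralizer_le_normalizer _)
    apply le_centralizer_sSup
    intro K' hK'
    exact h.commF K' hK'.1
  · exact Subgroup.normalizer_commutator_ge_left F₀ Y

/-- `[L,Y]` is the product of the moved components and `[F₀,Y]` -/
theorem commutator_eq (h : ActData p Y 𝒦 F₀) :
    ⁅sSup 𝒦 ⊔ F₀, Y⁆ = sSup (movedSet Y 𝒦) ⊔ ⁅F₀, Y⁆ := by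
  apply le_antisymm
  · rw [Subgroup.commutator_comm]
    apply commutator_le_of_le_commStab
    apply sup_le
    · apply sSup_le
      intro K hK
      apply le_commStab (h.mem_normalizes hK)
      rw [Subgroup.commutator_comm]
      exact (h.commutator_le_of_mem hK).trans le_sup_left
    · apply le_commStab h.F_normalizes
      rw [Subgroup.commutator_comm]
      exact le_sup_right
  · apply sup_le
    · apply sSup_le
      intro K hK
      rcases h.dich hK.1 ((le_sSup hK.1).trans le_sup_left) with h1 | h1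
      · exact h1
      · exact absurd h1 hK.2
    · exact Subgroup.commutator_mono le_sup_right le_rfl

/-- `L = [L,Y] C_L(Y)` -/
theorem commutator_sup_centralizer [Finite G] [Fact p.Prime] (h : ActData p Y 𝒦 F₀) :
    ⁅sSup 𝒦 ⊔ F₀, Y⁆ ⊔ ((sSup 𝒦 ⊔ F₀) ⊓ Subgroup.centralizer (Y : Set G)) = sSup 𝒦 ⊔ F₀ := by
  apply le_antisymm
  · apply sup_le _ inf_le_left
    rw [h.commutator_eq]
    exact sup_le_sup (movedSet_le Y 𝒦) h.commutator_F_le
  · apply sup_le
    · apply sSup_le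
      intro K hK
      have hKL : K ≤ sSup 𝒦 ⊔ F₀ := (le_sSup hK).trans le_sup_left
      rcases h.dich hK hKL with h1 | h1
      · exact h1.trans le_sup_left
      · refine le_trans ?_ le_sup_right
        exact le_inf hKL (Subgroup.commutator_eq_bot_iff_le_centralizer.1 h1)
    · have h1 := le_sup_inf_centralizer_of_coprime h.pgroup h.cop h.commutator_F_le
        (Subgroup.normalizer_commutator_ge_right F₀ Y) le_rfl
      refine h1.trans (sup_le_sup ?_ ?_)
      · exact Subgroup.commutator_mono le_sup_right le_rfl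
      · exact inf_le_inf_right _ le_sup_right

/-- `[L,Y,Y] = [L,Y]` -/
theorem commutator_commutator_eq [Finite G] [Fact p.Prime] (h : ActData p Y 𝒦 F₀) :
    ⁅⁅sSup 𝒦 ⊔ F₀, Y⁆, Y⁆ = ⁅sSup 𝒦 ⊔ F₀, Y⁆ := by
  apply le_antisymm
  · exact Subgroup.le_normalizer_iff_commutator_le_left.1
      (Subgroup.normalizer_commutator_ge_right _ Y)
  · rw [h.commutator_eq]
    apply sup_le
    · apply sSup_le
      intro K hK
      rcases h.dich hK.1 ((le_sSup hK).trans le_sup_left) with h1 | h1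
      · exact h1
      · exact absurd h1 hK.2
    · have h2 : ⁅F₀, Y⁆ = ⁅⁅F₀, Y⁆, Y⁆ :=
        (commutator_commutator_eq_of_coprime h.pgroup h.cop h.normF).symm
      calc ⁅F₀, Y⁆ = ⁅⁅F₀, Y⁆, Y⁆ := h2
        _ ≤ ⁅sSup (movedSet Y 𝒦) ⊔ ⁅F₀, Y⁆, Y⁆ := Subgroup.commutator_mono le_sup_right le_rfl

end ActData

end Cfsg.Agent.Lib.Helper54
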