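import Mathlib
import Cfsg.Prelude.Def_OddOrderLocal
import Cfsg.Prelude.Def_OddOrder
import Cfsg.Agent.Lib.Helper31.Transitivity

/-!
# K-S1428-Fr2 (keystone 142855, architect helper16): `not_dvd_card_commutator_of_factor`

If `L = O_π(L) · N` with `N ≤ L`, `p ∉ π` and `p ∤ |N'|` then `p ∤ |L'|`
(`O_π(L)` is a normal `p'`-subgroup of `L` and `L' ≤ O_π(L) N'`).
The hypotheses `IsMinSimpleOddOrder G`, `IsCoatom L` of the spec are not needed.
-/

set_option autoImplicit false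

namespace Cfsg.Agent.Lib.Helper54.BG134

open Cfsg
open scoped commutatorElement

variable {G : Type*} [Group G] [Finite G]

omit [Finite G] in
/-- If `H` normalizes `N` then `|H ⊔ N|` divides `|H| * |N|`. -/
theorem card_sup_dvd_mul_fr2 (H N : Subgroup G)
    (hLE : H ≤ Subgroup.normalizer (N : Set G)) :
    Nat.card (H ⊔ N : Subgroup G) ∣ Nat.card H * Nat.card N := by
  have h1 : N.relIndex H = N.relIndex (H ⊔ N) := by
    have := Subgroup.normal_subgroupOf_of_le_normalizer hLE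
    have := Subgroup.normal_subgroupOf_sup_of_le_normalizer hLE
    unfold Subgroup.relIndex Subgroup.index
    exact Nat.card_congr (QuotientGroup.quotientInfEquivProdNormalizerQuotient H N hLE).toEquiv
  have h2 : Nat.card N * N.relIndex (H ⊔ N) = Nat.card (H ⊔ N : Subgroup G) := by
    have := Subgroup.relIndex_mul_relIndex ⊥ N (H ⊔ N) bot_le le_sup_right
    rwa [Subgroup.relIndex_bot_left, Subgroup.relIndex_bot_left] at this
  rw [← h2, ← h1, mul_comm]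
  exact Nat.mul_dvd_mul (Subgroup.relIndex_dvd_card N H) dvd_rfl

/-- general form: any set of primes `π`, any subgroup `L` -/
theorem not_dvd_card_commutator_of_factor_gen (π : Set ℕ) {L : Subgroup G}
    {p : ℕ} [Fact p.Prime] (hpπ : p ∉ π) {N : Subgroup G} (hNL : N ≤ L)
    (hfac : ∀ x ∈ L, ∃ b ∈ piCoreOf π L, ∃ n ∈ N, x = b * n)
    (hN' : ¬ p ∣ Nat.card ↥⁅N, N⁆) : ¬ p ∣ Nat.card ↥⁅L, L⁆ := by
  have hp : p.Prime := Fact.out
  set B : Subgroup G := piCoreOf π L with hB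
  have hBL : B ≤ L := Cfsg.Agent.Lib.Helper31.piCoreOf_le π L
  have hLB : L ≤ Subgroup.normalizer (B : Set G) := Cfsg.Agent.Lib.Helper31.le_normalizer_piCoreOf π L
  have hpB : ¬ p ∣ Nat.card B := fun h => hpπ (Cfsg.Agent.Lib.Helper31.piCoreOf_pi π L p hp h)
  have hconj : ∀ g ∈ L, ∀ b ∈ B, g * b * g⁻¹ ∈ B := by
    intro g hg b hb
    exact ((Subgroup.mem_normalizer_iff.1 (hLB hg)) b).1 hb
  have hN'N : ⁅N, N⁆ ≤ N := by
    rw [Subgroup.commutator_le]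
    intro a ha b hb
    rw [commutatorElement_def]
    exact N.mul_mem (N.mul_mem (N.mul_mem ha hb) (N.inv_mem ha)) (N.inv_mem hb)
  have hcomm : ⁅L, L⁆ ≤ ⁅N, N⁆ ⊔ B := by
    rw [Subgroup.commutator_le]
    intro x hx y hy
    obtain ⟨b, hb, n, hn, rfl⟩ := hfac x hx
    obtain ⟨b', hb', n', hn', rfl⟩ := hfac y hy
    have hnL : n ∈ L := hNL hn
    have hn'L : n' ∈ L := hNL hn'
    have hc : ⁅n, n'⁆ ∈ ⁅N, N⁆ := Subgroup.commutator_mem_commutator hn hn'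
    have hcL : ⁅n, n'⁆ ∈ L := hNL (hN'N hc)
    have hmL : n * n' * n⁻¹ ∈ L := L.mul_mem (L.mul_mem hnL hn'L) (L.inv_mem hnL)
    have key : ⁅b * n, b' * n'⁆ =
        b * (n * b' * n⁻¹) * ((n * n' * n⁻¹) * b⁻¹ * (n * n' * n⁻¹)⁻¹) *
          (⁅n, n'⁆ * b'⁻¹ * ⁅n, n'⁆⁻¹) * ⁅n, n'⁆ := by
      rw [commutatorElement_def, commutatorElement_def]
      group
    rw [key]
    refine Subgroup.mul_mem _ (Subgroup.mem_sup_right ?_) (Subgroup.mem_sup_left hc)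
    refine B.mul_mem (B.mul_mem (B.mul_mem hb (hconj n hnL b' hb')) ?_) ?_
    · exact hconj _ hmL _ (B.inv_mem hb)
    · exact hconj _ hcL _ (B.inv_mem hb')
  have hdvd1 : Nat.card ↥⁅L, L⁆ ∣ Nat.card ↥(⁅N, N⁆ ⊔ B) := Subgroup.card_dvd_of_le hcomm
  have hdvd2 : Nat.card ↥(⁅N, N⁆ ⊔ B) ∣ Nat.card ↥⁅N, N⁆ * Nat.card B :=
    card_sup_dvd_mul_fr2 ⁅N, N⁆ B ((hN'N.trans hNL).trans hLB)
  intro h
  rcases (Nat.Prime.dvd_mul hp).1 (dvd_trans h (dvd_trans hdvd1 hdvd2)) with h1 | h1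
  · exact hN' h1
  · exact hpB h1

/-- K-S1428-Fr2 (exact spec signature). -/
theorem not_dvd_card_commutator_of_factor (hG : IsMinSimpleOddOrder G) {L : Subgroup G}
    (hL : IsCoatom L) {p : ℕ} [Fact p.Prime] (hpβ : p ∉ beta L) {N : Subgroup G} (hNL : N ≤ L)
    (hfac : ∀ x ∈ L, ∃ b ∈ piCoreOf (beta L) L, ∃ n ∈ N, x = b * n)
    (hN' : ¬ p ∣ Nat.card ↥⁅N, N⁆) : ¬ p ∣ Nat.card ↥⁅L, L⁆ :=
  not_dvd_card_commutator_of_factor_gen (beta L) hpβ hNL hfac hN'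

end Cfsg.Agent.Lib.Helper54.BG134
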