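import Mathlib
import Cfsg.Agent.S1350
import Cfsg.Agent.S1415
import Cfsg.Agent.Lib.Helper13.BG12B
import Cfsg.Agent.Lib.Helper55.SylowIn

/-!
# Sub-lemmas for K-S1428-A3 (keystone 142825, BG Lemma 13.4, case A3; architect helper31)

* `exists_isPiHallOf_ge`: Hall subgroups of a solvable subgroup containing a given `π`-subgroup;
* `tau_cases`: a prime divisor of `|M|` outside `σ(M)` lies in `τ₁(M) ∪ τ₂(M) ∪ τ₃(M)`;
* `exists_hall_tau1_tau3` (HS): if no prime of `|E|` lies in `τ₂(M)`, the complement `E` of `M_σ` is the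
  product `E₃ E₁` of a normal cyclic Hall `τ₃(M)`-subgroup and a cyclic Hall `τ₁(M)`-subgroup containing a
  prescribed `τ₁(M)`-subgroup `P`;
* `inf_centralizer_eq_bot_of_factor` (FIX);
* `centralizes_of_normal_q_complement` (NQC).
-/

set_option autoImplicit false

namespace Cfsg.Agent.Lib.Helper54.BG134

open Cfsg Cfsg.Agent.Lib.Helper55
open scoped commutatorElement

variable {G : Type*} [Group G] [Finite G]

/-- Hall `π`-subgroup of a solvable subgroup `E` containing a given `π`-subgroup `K` of `E`. -/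
theorem exists_isPiHallOf_ge {E : Subgroup G} (hsolv : Group.IsSolvable ↥E) (π : Set ℕ)
    {K : Subgroup G} (hKE : K ≤ E) (hK : ∀ p : ℕ, p.Prime → p ∣ Nat.card K → p ∈ π) :
    ∃ L : Subgroup G, IsPiHallOf π L E ∧ K ≤ L := by
  have hK' : ∀ p : ℕ, p.Prime → p ∣ Nat.card (K.subgroupOf E) → p ∈ π := by
    intro p hp hpd
    rw [Nat.card_congr (Subgroup.subgroupOfEquivOfLe hKE).toEquiv] at hpd
    exact hK p hp hpd
  obtain ⟨L, hKL, hL1, hL2⟩ :=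
    Cfsg.Agent.Lib.Helper71.BG10.exists_hall_ge π (K.subgroupOf E) hK'
  refine ⟨L.map E.subtype, ⟨Subgroup.map_subtype_le _, ?_, ?_⟩, ?_⟩
  · intro q hq hqd
    rw [Subgroup.card_map_of_injective E.subtype_injective] at hqd
    exact hL1 q hq hqd
  · intro q hq hqπ hqd
    rw [Subgroup.relIndex, Subgroup.subgroupOf,
      Subgroup.comap_map_eq_self_of_injective E.subtype_injective] at hqd
    exact hL2 q hq hqd hqπ
  · intro x hx
    exact ⟨⟨x, hKE hx⟩, hKL (Subgroup.mem_subgroupOf.mpr hx), rfl⟩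

/-- a prime divisor of `|M|` outside `σ(M)` lies in `τ₁(M)`, `τ₂(M)` or `τ₃(M)` -/
theorem tau_cases (hG : IsMinSimpleOddOrder G) {M : Subgroup G} (hM : IsCoatom M) {s : ℕ}
    (hs : s.Prime) (hsM : s ∣ Nat.card M) (hsσ : s ∉ sigma M) :
    s ∈ tau1 M ∨ s ∈ tau2 M ∨ s ∈ tau3 M := by
  by_cases h2 : PRankLE s 2 ↥M
  · by_cases h1 : PRankLE s 1 ↥M
    · by_cases hd : s ∣ Nat.card ↥⁅M, M⁆
      · exact Or.inr (Or.inr ⟨hs, hsσ, hd, h1⟩)
      · exact Or.inl ⟨hs, hsσ, hsM, hd, h1⟩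
    · exact Or.inr (Or.inl ⟨hs, hsσ, h2, h1⟩)
  · exact absurd (Cfsg.Agent.Lib.Helper13.BG12.mem_sigma_of_not_pRankLE_two hG hM hs h2) hsσ

/-- the three `τ`-sets are pairwise disjoint (the part used here) -/
theorem not_tau1_and_tau3 {M : Subgroup G} {s : ℕ} (h1 : s ∈ tau1 M) (h3 : s ∈ tau3 M) : False :=
  h1.2.2.2.1 h3.2.2.1

/-- (HS) structure of a complement `E` of `M_σ` with no `τ₂(M)`-prime. -/
theorem exists_hall_tau1_tau3 (hG : IsMinSimpleOddOrder G) {M E P : Subgroup G} (hM : IsCoatom M)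
    (hE : IsComplIn E (sigmaCore M) M) {p : ℕ} (hp : p ∈ tau1 M) (hPE : P ≤ E)
    (hPc : Nat.card P = p)
    (h2 : ∀ s : ℕ, s.Prime → s ∣ Nat.card E → s ∉ tau2 M) :
    ∃ E₁ E₃ : Subgroup G, IsPiHallOf (tau1 M) E₁ E ∧ IsCyclic E₁ ∧ P ≤ E₁ ∧
      IsPiHallOf (tau3 M) E₃ E ∧ IsCyclic E₃ ∧ E₃ ≤ ⁅E, E⁆ ∧
      E ≤ Subgroup.normalizer (E₃ : Set G) ∧ ∀ x ∈ E, ∃ a ∈ E₃, ∃ b ∈ E₁, x = a * b := by
  have hEM : E ≤ M := hE.1
  have hEtop : E ≠ ⊤ := fun h => hM.1 (top_le_iff.mp (h ▸ hEM))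
  have hsolv : Group.IsSolvable ↥E := ms_solvable hG hEtop
  have hHall := (Cfsg.Agent.S1350.result hG M hM).1
  have hEσ := Cfsg.Agent.Lib.Helper13.BG12.complIn_prime_not_mem_sigma hHall hE
  have hPτ : ∀ s : ℕ, s.Prime → s ∣ Nat.card P → s ∈ tau1 M := by
    intro s hs hsd
    rw [hPc] at hsd
    rw [(Nat.prime_dvd_prime_iff_eq hs hp.1).1 hsd]
    exact hp
  obtain ⟨E₁, hE₁, hPE₁⟩ := exists_isPiHallOf_ge hsolv (tau1 M) hPE hPτ
  obtain ⟨E₃, hE₃, -⟩ := exists_isPiHallOf_ge hsolv (tau3 M) (bot_le : (⊥ : Subgroup G) ≤ E)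
    (fun s hs hsd => by
      rw [Subgroup.card_bot] at hsd
      exact absurd (Nat.dvd_one.1 hsd) hs.ne_one)
  have h15 := Cfsg.Agent.S1415.result hG M hM E hE
  have hE₁c : IsCyclic E₁ := h15.2.1 E₁ hE₁
  obtain ⟨hE₃c, hE₃', hE₃n⟩ := h15.2.2 E₃ hE₃
  refine ⟨E₁, E₃, hE₁, hE₁c, hPE₁, hE₃, hE₃c, hE₃', hE₃n, ?_⟩
  -- `E = E₃ ⊔ E₁` by counting
  have hsup : E₃ ⊔ E₁ ≤ E := sup_le hE₃.1 hE₁.1
  have hrel : (E₃ ⊔ E₁).relIndex E = 1 := by
    by_contra hne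
    obtain ⟨s, hs, hsd⟩ := Nat.exists_prime_and_dvd hne
    have hsE : s ∣ Nat.card E := hsd.trans (Subgroup.relIndex_dvd_card _ _)
    have hsM : s ∣ Nat.card M := hsE.trans (Subgroup.card_dvd_of_le hEM)
    have hd1 : (E₃ ⊔ E₁).relIndex E ∣ E₁.relIndex E :=
      Dvd.intro_left _ (Subgroup.relIndex_mul_relIndex E₁ (E₃ ⊔ E₁) E le_sup_right hsup)
    have hd3 : (E₃ ⊔ E₁).relIndex E ∣ E₃.relIndex E :=
      Dvd.intro_left _ (Subgroup.relIndex_mul_relIndex E₃ (E₃ ⊔ E₁) E le_sup_left hsup)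
    rcases tau_cases hG hM hs hsM (hEσ s hs hsE) with h | h | h
    · exact hE₁.2.2 s hs h (hsd.trans hd1)
    · exact h2 s hs hsE h
    · exact hE₃.2.2 s hs h (hsd.trans hd3)
  have hle : E ≤ E₃ ⊔ E₁ := Subgroup.relIndex_eq_one.mp hrel
  intro x hx
  exact Cfsg.Agent.Lib.Helper54.exists_mul_of_mem_sup_of_le_normalizer (hE₁.1.trans hE₃n) (hle hx)

omit [Finite G] in
/-- (FIX) if `E = E₃ E₁`, `E₃` centralizes `Sq` and `C_{Sq}(E) = 1` then `C_{Sq}(E₁) = 1`. -/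
theorem inf_centralizer_eq_bot_of_factor {Sq E E₁ E₃ : Subgroup G}
    (hfac : ∀ x ∈ E, ∃ a ∈ E₃, ∃ b ∈ E₁, x = a * b)
    (h3 : E₃ ≤ Subgroup.centralizer (Sq : Set G))
    (hfix : Sq ⊓ Subgroup.centralizer (E : Set G) = ⊥) :
    Sq ⊓ Subgroup.centralizer (E₁ : Set G) = ⊥ := by
  rw [eq_bot_iff]
  intro y hy
  rw [← hfix]
  refine Subgroup.mem_inf.2 ⟨hy.1, ?_⟩
  rw [Subgroup.mem_centralizer_iff]
  intro x hx
  obtain ⟨a, ha, b, hb, rfl⟩ := hfac x hx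
  have h1 : a * y = y * a := ((Subgroup.mem_centralizer_iff.1 (h3 ha)) y hy.1).symm
  have h2 : b * y = y * b := (Subgroup.mem_centralizer_iff.1 hy.2) b hb
  rw [mul_assoc, h2, ← mul_assoc, h1, mul_assoc]

end Cfsg.Agent.Lib.Helper54.BG134
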