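import Cfsg.Agent.Lib.Helper54.Minimal

set_option autoImplicit false

namespace Cfsg.Agent.Lib.Helper54

open Cfsg
open scoped commutatorElement Pointwise

variable {G : Type*} [Group G] {p : ℕ}

/-- `p`-closedness transfers along isomorphisms -/
theorem isPClosed_of_mulEquiv {G' : Type*} [Group G'] (e : G ≃* G') (h : IsPClosed p G) :
    IsPClosed p G' := by
  intro P'
  have hr : (P' : Subgroup G') ≤ e.toMonoidHom.range := by
    rw [MonoidHom.range_eq_top.2 e.surjective]; exact le_top
  have h1 : ((P' : Subgroup G').comap e.toMonoidHom).Normal :=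
    h (P'.comapOfInjective e.toMonoidHom e.injective hr)
  have h2 := Subgroup.Normal.map h1 e.toMonoidHom e.surjective
  rwa [Subgroup.map_comap_eq_self_of_surjective e.surjective] at h2

/-- a normal subgroup `N` is `p`-closed iff `T ∩ N ≤ O_p(G)` for a Sylow `p`-subgroup `T` -/
theorem isPClosed_normal_iff [Finite G] [Fact p.Prime] {N : Subgroup G} [hN : N.Normal]
    (T : Sylow p G) : IsPClosed p ↥N ↔ (T : Subgroup G) ⊓ N ≤ pCore p G := by
  constructor
  · intro h
    exact sylow_inf_le_pCore_of_isPClosed h T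
  · intro h
    have h1 : (T : Subgroup G) ⊓ N = pCore p G ⊓ N :=
      le_antisymm (le_inf h inf_le_right) (inf_le_inf_right _ (pCore_le_sylow T))
    have h2 : ((T : Subgroup G) ⊓ N).Normal := by
      rw [h1]
      have := pCore_normal p G
      infer_instance
    obtain ⟨P, hP⟩ := exists_sylow_eq_subgroupOf_of_normal T N
    apply isPClosed_of_normal P
    rw [hP, ← Subgroup.inf_subgroupOf_right]
    exact Subgroup.Normal.subgroupOf h2 N

/-- the image of the `p`-residual under a surjection is the `p`-residual -/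
theorem map_pResidual_of_surjective [Finite G] [Fact p.Prime] {G' : Type*} [Group G']
    (f : G →* G') (hf : Function.Surjective f) :
    (pResidual p G).map f = pResidual p G' := by
  apply le_antisymm
  · unfold pResidual
    rw [MonoidHom.map_closure, Subgroup.closure_le]
    rintro _ ⟨g, hg, rfl⟩
    apply Subgroup.subset_closure
    exact Nat.Coprime.coprime_dvd_left (orderOf_map_dvd f g) hg
  · have hn : (pResidual p G).Normal := pResidual_normal p G
    have : ((pResidual p G).map f).Normal := Subgroup.Normal.map hn f hf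
    apply pResidual_le_of_forall_pow_mem
    intro x
    obtain ⟨g, rfl⟩ := hf x
    obtain ⟨k, hk⟩ := exists_pow_mem_pResidual (p := p) g
    exact ⟨k, ⟨g ^ (p ^ k), hk, by simp⟩⟩

/-- `O_p(G/D) = O_p(G)/D` for a normal `p`-subgroup `D` -/
theorem pCore_quotient_of_isPGroup (D : Subgroup G) [D.Normal] (hD : IsPGroup p ↥D) :
    pCore p (G ⧸ D) = (pCore p G).map (QuotientGroup.mk' D) := by
  have hπ : Function.Surjective (QuotientGroup.mk' D) := QuotientGroup.mk'_surjective D
  apply le_antisymm
  · have hK : ((pCore p (G ⧸ D)).comap (QuotientGroup.mk' D)) ≤ pCore p G := by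
      apply le_pCore (Subgroup.Normal.comap (pCore_normal p (G ⧸ D)) _)
      intro k
      have hk : (QuotientGroup.mk' D) (k : G) ∈ pCore p (G ⧸ D) := k.2
      obtain ⟨a, ha⟩ := pCore_isPGroup p (G ⧸ D) ⟨_, hk⟩
      have ha' : (QuotientGroup.mk' D) ((k : G) ^ (p ^ a)) = 1 := by
        rw [map_pow]; simpa using congrArg Subtype.val ha
      have hkD : (k : G) ^ (p ^ a) ∈ D := by
        rwa [QuotientGroup.mk'_apply, QuotientGroup.eq_one_iff] at ha'
      obtain ⟨b, hb⟩ := hD ⟨_, hkD⟩
      have hb' : ((k : G) ^ (p ^ a)) ^ (p ^ b) = 1 := by simpa using congrArg Subtype.val hb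
      refine ⟨a + b, Subtype.ext ?_⟩
      rw [pow_add, pow_mul]
      simpa using hb'
    have := Subgroup.map_mono (f := QuotientGroup.mk' D) hK
    rwa [Subgroup.map_comap_eq_self_of_surjective hπ] at this
  · exact le_pCore (Subgroup.Normal.map (pCore_normal p G) _ hπ) ((pCore_isPGroup p G).map _)

theorem isPClosed_quotient_iff [Finite G] [Fact p.Prime] (D : Subgroup G) [D.Normal]
    (hD : IsPGroup p ↥D) : IsPClosed p (G ⧸ D) ↔ IsPClosed p G := by
  have hπ : Function.Surjective (QuotientGroup.mk' D) := QuotientGroup.mk'_surjective D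
  constructor
  · intro h T
    have h1 := h (T.mapSurjective hπ)
    rw [Sylow.coe_mapSurjective] at h1
    have h2 := Subgroup.Normal.comap h1 (QuotientGroup.mk' D)
    rw [Subgroup.comap_map_eq, QuotientGroup.ker_mk',
      sup_eq_left.2 (hD.le_sylow_of_normal T)] at h2
    exact h2
  · intro h P'
    obtain ⟨P, rfl⟩ := Sylow.mapSurjective_surjective hπ p P'
    rw [Sylow.coe_mapSurjective]
    exact Subgroup.Normal.map (h P) _ hπ

/-- for a normal subgroup of a quotient by a normal `p`-subgroup, `p`-closedness can be tested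
on the preimage -/
theorem isPClosed_comap_mk_iff [Finite G] [Fact p.Prime] (D : Subgroup G) [D.Normal]
    (hD : IsPGroup p ↥D) (N' : Subgroup (G ⧸ D)) [hN' : N'.Normal] :
    IsPClosed p ↥(N'.comap (QuotientGroup.mk' D)) ↔ IsPClosed p ↥N' := by
  have hπ : Function.Surjective (QuotientGroup.mk' D) := QuotientGroup.mk'_surjective D
  have hDc : D ≤ pCore p G := le_pCore inferInstance hD
  obtain ⟨T⟩ : Nonempty (Sylow p G) := inferInstance
  haveI : (N'.comap (QuotientGroup.mk' D)).Normal := Subgroup.Normal.comap hN' _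
  rw [isPClosed_normal_iff T, isPClosed_normal_iff (T.mapSurjective hπ),
    Sylow.coe_mapSurjective, pCore_quotient_of_isPGroup D hD]
  have h1 : (T : Subgroup G).map (QuotientGroup.mk' D) ⊓ N' =
      ((T : Subgroup G) ⊓ N'.comap (QuotientGroup.mk' D)).map (QuotientGroup.mk' D) := by
    apply le_antisymm
    · rintro x ⟨⟨t, ht, rfl⟩, hx2⟩
      exact ⟨t, ⟨ht, hx2⟩, rfl⟩
    · refine le_trans (Subgroup.map_inf_le _ _ _) (inf_le_inf_left _ ?_)
      rw [Subgroup.map_comap_eq_self_of_surjective hπ]
  rw [h1, Subgroup.map_le_map_iff, QuotientGroup.ker_mk', sup_eq_left.2 hDc]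

/-- if `O^p(G) ≤ N D` with `D` a normal `p`-subgroup and `N` normal, then `O^p(G) ≤ N` -/
theorem pResidual_le_of_le_sup_isPGroup [Finite G] [Fact p.Prime] {N D : Subgroup G} [N.Normal]
    [D.Normal] (hD : IsPGroup p ↥D) (h : pResidual p G ≤ N ⊔ D) : pResidual p G ≤ N := by
  obtain ⟨T⟩ : Nonempty (Sylow p G) := inferInstance
  apply pResidual_le_of_sup_eq_top T.isPGroup'
  rw [eq_top_iff, ← pResidual_sup_sylow T]
  exact sup_le (h.trans (sup_le le_sup_left ((hD.le_sylow_of_normal T).trans le_sup_right)))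
    le_sup_right

/-- a normal `p`-closed subgroup `D` with `D/(D ∩ C)` a `p`-group lies in `C` when `O_p(G) ≤ C` -/
theorem le_of_isPClosed_of_forall_pow_mem [Finite G] [Fact p.Prime] {C D : Subgroup G}
    [hC : C.Normal] [hDn : D.Normal] (hD : IsPClosed p ↥D) (hO : pCore p G ≤ C)
    (hpow : ∀ d ∈ D, ∃ k : ℕ, d ^ (p ^ k) ∈ C) : D ≤ C := by
  have hC' : (C.subgroupOf D).Normal := Subgroup.Normal.subgroupOf hC D
  have h1 : pResidual p ↥D ≤ C.subgroupOf D := by
    apply pResidual_le_of_forall_pow_mem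
    intro d
    obtain ⟨k, hk⟩ := hpow d d.2
    exact ⟨k, by rw [Subgroup.mem_subgroupOf]; simpa using hk⟩
  obtain ⟨S⟩ : Nonempty (Sylow p ↥D) := inferInstance
  have h2 : (S : Subgroup ↥D) ≤ C.subgroupOf D := by
    intro s hs
    rw [Subgroup.mem_subgroupOf]
    apply hO
    have h3 : (S : Subgroup ↥D).map D.subtype ≤ pCore p G :=
      le_pCore_of_isPClosed_normal hD (S.isPGroup'.map _) (Subgroup.map_subtype_le _)
    exact h3 ⟨s, hs, rfl⟩
  have h4 : (⊤ : Subgroup ↥D) ≤ C.subgroupOf D := by
    rw [← pResidual_sup_sylow S]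
    exact sup_le h1 h2
  intro d hd
  have := h4 (Subgroup.mem_top (⟨d, hd⟩ : ↥D))
  rwa [Subgroup.mem_subgroupOf] at this

theorem isPClosed_congr {A B : Subgroup G} (h : A = B) (hA : IsPClosed p ↥A) :
    IsPClosed p ↥B := by
  subst h; exact hA

end Cfsg.Agent.Lib.Helper54
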