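import Mathlib
import Cfsg.Agent.Lib.Helper71.BG1310Defs
import Cfsg.Agent.S1350
import Cfsg.Agent.S1409
import Cfsg.Agent.S1415
import Cfsg.Agent.S1417
import Cfsg.Agent.Lib.Helper13.BG12B
import Cfsg.Agent.Lib.Helper03.CoprimeAbelian
import Cfsg.Agent.Lib.Helper54.BG134A3a

/-!
# BG 13.10 / 13.11 keystone pack (architect helper71): leaves C, E, R

* LEAF C (131003) `regular_of_tau2`
* LEAF E (131005) `NR.structure`
* LEAF R (131018) `exists_halls`
-/

set_option autoImplicit false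

namespace Cfsg.Agent.Lib.Helper54.BG1310

open Cfsg Cfsg.Agent.Lib.Helper55 Cfsg.Agent.Lib.Helper31.BG134 Cfsg.Agent.Lib.Helper71.BG1310

variable {G : Type*} [Group G] [Finite G]

/-- in a finite cyclic group, a subgroup of order `p` contains every element of order dividing `p` -/
theorem mem_of_pow_eq_one_of_isCyclic {Y : Type*} [Group Y] [Finite Y] [IsCyclic Y] {p : ℕ}
    (hp : 0 < p) (X : Subgroup Y) (hX : Nat.card X = p) {z : Y} (hz : z ^ p = 1) : z ∈ X := by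
  classical
  let _ := Fintype.ofFinite Y
  have h1 : (Finset.univ.filter (fun a : Y => a ^ p = 1)).card ≤ p :=
    IsCyclic.card_pow_eq_one_le hp
  have h2 : (X : Set Y).toFinset ⊆ Finset.univ.filter (fun a : Y => a ^ p = 1) := by
    intro a ha
    rw [Set.mem_toFinset] at ha
    rw [Finset.mem_filter]
    refine ⟨Finset.mem_univ _, ?_⟩
    have := pow_card_eq_one' (G := X) (x := ⟨a, ha⟩)
    rw [hX] at this
    have h' := congrArg Subtype.val this
    simpa using h'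
  have h3 : (X : Set Y).toFinset.card = p := by
    rw [Set.toFinset_card, ← Nat.card_eq_fintype_card]
    exact hX
  have h4 := Finset.eq_of_subset_of_card_le h2 (h1.trans_eq h3.symm)
  have : z ∈ Finset.univ.filter (fun a : Y => a ^ p = 1) := by
    rw [Finset.mem_filter]; exact ⟨Finset.mem_univ _, hz⟩
  rw [← h4, Set.mem_toFinset] at this
  exact this

/-- two subgroups of the same order of a cyclic subgroup coincide -/
theorem eq_of_le_isCyclic {C Y Y' : Subgroup G} (hC : IsCyclic C) (hY : Y ≤ C) (hY' : Y' ≤ C)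
    {s : ℕ} (hs : 0 < s) (hYc : Nat.card Y = s) (hY'c : Nat.card Y' = s) : Y' = Y := by
  have hle : Y' ≤ Y := by
    intro y hy
    have h1 : y ^ s = 1 := by
      have := pow_card_eq_one' (G := Y') (x := ⟨y, hy⟩)
      rw [hY'c] at this
      have h' := congrArg Subtype.val this
      simpa using h'
    have hcard : Nat.card (Y.subgroupOf C) = s := by
      rw [Nat.card_congr (Subgroup.subgroupOfEquivOfLe hY).toEquiv]
      exact hYc
    have h2 : (⟨y, hY' hy⟩ : C) ^ s = 1 := Subtype.ext (by simpa using h1)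
    have := mem_of_pow_eq_one_of_isCyclic hs (Y.subgroupOf C) hcard h2
    exact Subgroup.mem_subgroupOf.mp this
  exact Subgroup.eq_of_le_of_card_ge hle (by rw [hYc, hY'c])

/-- a subgroup of prime order of the normal cyclic Hall `τ₃(M)`-subgroup of `E` is normalized by `E` -/
theorem le_normalizer_of_le_cyclic_normal {E C Y : Subgroup G} (hC : IsCyclic C)
    (hn : E ≤ Subgroup.normalizer (C : Set G)) (hY : Y ≤ C) :
    E ≤ Subgroup.normalizer (Y : Set G) := by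
  intro e he
  have hcj : cj e Y = Y := by
    have h1 : cj e Y ≤ C := by
      have h2 : cj e Y ≤ cj e C := cj_mono hY
      have h3 : cj e C = C := cj_eq_self_iff.mpr (hn he)
      rw [h3] at h2
      exact h2
    have hpos : 0 < Nat.card Y := Nat.card_pos
    exact eq_of_le_isCyclic hC hY h1 hpos rfl (card_cj e Y)
  exact cj_eq_self_iff.mp hcj

/-- **LEAF C (131003)  regular_of_tau2** = (R1). -/
theorem regular_of_tau2 (hG : IsMinSimpleOddOrder G) {M E : Subgroup G} (hM : IsCoatom M)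
    (hE : IsComplIn E (sigmaCore M) M) {q : ℕ} (hq : q ∈ tau2 M) {Y : Subgroup G} (hYE : Y ≤ E)
    {s : ℕ} (hs : s ∈ tau3 M) (hYc : Nat.card Y = s) : CP M Y = ⊥ := by
  have hEM : E ≤ M := hE.1
  have hEtop : E ≠ ⊤ := fun h => hM.1 (top_le_iff.mp (h ▸ hEM))
  have hsolv : Group.IsSolvable ↥E := ms_solvable hG hEtop
  have hHall := (Cfsg.Agent.S1350.result hG M hM).1
  have hsp : s.Prime := hs.1
  have hYτ : ∀ r : ℕ, r.Prime → r ∣ Nat.card Y → r ∈ tau3 M := by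
    intro r hr hrd
    rw [hYc] at hrd
    rw [(Nat.prime_dvd_prime_iff_eq hr hsp).1 hrd]
    exact hs
  obtain ⟨E₃, hE₃, hYE₃⟩ :=
    Cfsg.Agent.Lib.Helper54.BG134.exists_isPiHallOf_ge hsolv (tau3 M) hYE hYτ
  obtain ⟨hE₃c, -, hE₃n⟩ := (Cfsg.Agent.S1415.result hG M hM E hE).2.2 E₃ hE₃
  have hEN : E ≤ Subgroup.normalizer (Y : Set G) :=
    le_normalizer_of_le_cyclic_normal hE₃c hE₃n hYE₃
  -- a maximal subgroup over `N(Y)`
  have hY1 : Y ≠ ⊥ := by
    intro h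
    rw [h, Subgroup.card_bot] at hYc
    exact hsp.ne_one hYc.symm
  have hYtop : Y ≠ ⊤ := fun h => hM.1 (top_le_iff.mp (h ▸ hYE.trans hEM))
  haveI : IsSimpleGroup G := hG.2.1
  have hN : Subgroup.normalizer (Y : Set G) ≠ ⊤ := by
    intro htop
    have hn : Y.Normal := Subgroup.normalizer_eq_top_iff.mp htop
    rcases hn.eq_bot_or_eq_top with h | h
    · exact hY1 h
    · exact hYtop h
  obtain ⟨H, hH, hNH⟩ := (eq_top_or_exists_le_coatom _).resolve_left hN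
  -- `H ≠ M`
  have hHM : H ≠ M := by
    rintro rfl
    haveI : Fact s.Prime := ⟨hsp⟩
    have h09 := Cfsg.Agent.S1409.result hG H hH s hs.2.1 Y hYc hNH
    exact h09.1.2 hs.2.2.2
  -- the elementary abelian subgroup of order `q ^ 2`
  obtain ⟨A, hAE, hAel, hAc⟩ :=
    Cfsg.Agent.Lib.Helper13.BG12.exists_elemAb_sq_le_compl hG hM hHall hq hE
  haveI : Fact q.Prime := ⟨hq.1⟩
  have h17 := Cfsg.Agent.S1417.result hG M hM q hq A ⟨hAE.trans hEM, hAel, hAc⟩
  have hbot : sigmaCore M ⊓ H = ⊥ :=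
    h17.2.2.2.2.1 H hH hHM (hAE.trans (hEN.trans hNH))
  rw [eq_bot_iff, ← hbot]
  exact inf_le_inf_left _ ((Subgroup.centralizer_le_normalizer _).trans hNH)

/-- **LEAF E (131005)  NR.structure**. -/
theorem NR.structure {M E E₁ E₃ : Subgroup G} (c : NR M E E₁ E₃) :
    (∀ q : ℕ, q ∉ tau2 M) ∧ IsCyclic E₁ ∧ IsCyclic E₃ ∧ E ≤ Subgroup.normalizer (E₃ : Set G) ∧
      E₃ ⊔ E₁ = E ∧ E₃ ⊓ E₁ = ⊥ ∧ E₃ ⊓ Subgroup.centralizer (E₁ : Set G) = ⊥ ∧ E₁ ≠ ⊥ := by
  obtain ⟨hG, hM, hE, hE₁, hE₃, hE₃1, hC3⟩ := c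
  have hEM : E ≤ M := hE.1
  have hHall := (Cfsg.Agent.S1350.result hG M hM).1
  have hEσ := Cfsg.Agent.Lib.Helper13.BG12.complIn_prime_not_mem_sigma hHall hE
  have h15 := Cfsg.Agent.S1415.result hG M hM E hE
  have hE₁c : IsCyclic E₁ := h15.2.1 E₁ hE₁
  obtain ⟨hE₃c, hE₃', hE₃n⟩ := h15.2.2 E₃ hE₃
  -- `τ₂(M) = ∅`
  have h2 : ∀ q : ℕ, q ∉ tau2 M := by
    intro q hq
    have hcard : Nat.card E₃ ≠ 1 := fun h => hE₃1 (Subgroup.card_eq_one.mp h)
    obtain ⟨s, hs, hsd⟩ := Nat.exists_prime_and_dvd hcard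
    haveI : Fact s.Prime := ⟨hs⟩
    obtain ⟨y, hy⟩ := exists_prime_orderOf_dvd_card' (G := E₃) s hsd
    have hYE₃ : Subgroup.zpowers (y : G) ≤ E₃ := Subgroup.zpowers_le.mpr y.2
    have hYc : Nat.card (Subgroup.zpowers (y : G)) = s := by
      rw [Nat.card_zpowers, Subgroup.orderOf_coe, hy]
    have h := regular_of_tau2 hG hM hE hq (hYE₃.trans hE₃.1) (hE₃.2.1 s hs hsd) hYc
    apply hC3
    rw [eq_bot_iff, ← h]
    exact inf_le_inf_left _ (Subgroup.centralizer_le (by exact_mod_cast hYE₃))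
  -- `E = E₃ ⊔ E₁` by counting
  have hsup : E₃ ⊔ E₁ ≤ E := sup_le hE₃.1 hE₁.1
  have hrel : (E₃ ⊔ E₁).relIndex E = 1 := by
    by_contra hne
    obtain ⟨s, hs, hsd⟩ := Nat.exists_prime_and_dvd hne
    have hsE : s ∣ Nat.card E := hsd.trans (Subgroup.relIndex_dvd_card _ _)
    have hsM : s ∣ Nat.card M := hsE.trans (Subgroup.card_dvd_of_le hEM)
    have hd1 : (E₃ ⊔ E₁).relIndex E ∣ E₁.relIndex E :=
      Dvd.intro_left _ (Subgroup.relIndex_mul_relIndex E₁ (E₃ ⊔ E₁) E le_sup_right hsup)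
    have hd3 : (E₃ ⊔ E₁).relIndex E ∣ E₃.relIndex E :=
      Dvd.intro_left _ (Subgroup.relIndex_mul_relIndex E₃ (E₃ ⊔ E₁) E le_sup_left hsup)
    rcases Cfsg.Agent.Lib.Helper54.BG134.tau_cases hG hM hs hsM (hEσ s hs hsE) with h | h | h
    · exact hE₁.2.2 s hs h (hsd.trans hd1)
    · exact h2 s h
    · exact hE₃.2.2 s hs h (hsd.trans hd3)
  have hle : E ≤ E₃ ⊔ E₁ := Subgroup.relIndex_eq_one.mp hrel
  have hEq : E₃ ⊔ E₁ = E := le_antisymm hsup hle
  -- `E₃ ⊓ E₁ = ⊥`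
  have hinf : E₃ ⊓ E₁ = ⊥ := by
    rw [← Subgroup.card_eq_one]
    by_contra hne
    obtain ⟨s, hs, hsd⟩ := Nat.exists_prime_and_dvd hne
    have h3 : s ∈ tau3 M := hE₃.2.1 s hs (hsd.trans (Subgroup.card_dvd_of_le inf_le_left))
    have h1 : s ∈ tau1 M := hE₁.2.1 s hs (hsd.trans (Subgroup.card_dvd_of_le inf_le_right))
    exact Cfsg.Agent.Lib.Helper54.BG134.not_tau1_and_tau3 h1 h3
  -- `C_{E₃}(E₁) = 1`
  have hcomm3 : IsMulCommutative E₃ := by
    obtain ⟨g, hg⟩ := hE₃c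
    refine ⟨⟨fun a b => ?_⟩⟩
    obtain ⟨i, rfl⟩ := Subgroup.mem_zpowers_iff.mp (hg a)
    obtain ⟨j, rfl⟩ := Subgroup.mem_zpowers_iff.mp (hg b)
    rw [← zpow_add, ← zpow_add, add_comm]
  have hcop : Nat.Coprime (Nat.card E₃) (E₃.relIndex E) := by
    rw [Nat.coprime_comm]
    apply Nat.Coprime.symm
    rw [Nat.coprime_iff_gcd_eq_one]
    by_contra hne
    obtain ⟨s, hs, hsd⟩ := Nat.exists_prime_and_dvd hne
    have hs3 : s ∈ tau3 M := hE₃.2.1 s hs (hsd.trans (Nat.gcd_dvd_left _ _))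
    exact hE₃.2.2 s hs hs3 (hsd.trans (Nat.gcd_dvd_right _ _))
  have hkey := Cfsg.Agent.Lib.Helper03.commutator_inf_centralizer_inf_eq_bot_of_abelian_hall E₃ E
    hE₃.1 hcomm3 hcop
  have hcent : E₃ ⊓ Subgroup.centralizer (E₁ : Set G) = ⊥ := by
    rw [eq_bot_iff]
    intro a ha
    rw [← hkey]
    refine Subgroup.mem_inf.mpr ⟨Subgroup.mem_inf.mpr ⟨hE₃' ha.1, ?_⟩, ha.1⟩
    rw [Subgroup.mem_centralizer_iff]
    intro x hx
    obtain ⟨u, hu, v, hv, rfl⟩ :=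
      Cfsg.Agent.Lib.Helper54.exists_mul_of_mem_sup_of_le_normalizer (hE₁.1.trans hE₃n) (hle hx)
    have h1 : u * a = a * u := by
      have := isMulCommutative_iff.mp hcomm3 ⟨u, hu⟩ ⟨a, ha.1⟩
      exact congrArg Subtype.val this
    have h2 : v * a = a * v := (Subgroup.mem_centralizer_iff.1 ha.2) v hv
    rw [mul_assoc, h2, ← mul_assoc, h1, mul_assoc]
  refine ⟨h2, hE₁c, hE₃c, hE₃n, hEq, hinf, hcent, ?_⟩
  intro hbot
  apply hE₃1
  rw [eq_bot_iff, ← hcent, hbot]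
  intro a ha
  refine Subgroup.mem_inf.mpr ⟨ha, ?_⟩
  rw [Subgroup.mem_centralizer_iff]
  intro x hx
  rw [Subgroup.mem_bot.mp hx, one_mul, mul_one]

/-- **LEAF R (131018)  exists_halls**. -/
theorem exists_halls (hG : IsMinSimpleOddOrder G) {M : Subgroup G} (hM : IsCoatom M) :
    ∃ E E₁ E₃ : Subgroup G, IsComplIn E (sigmaCore M) M ∧ IsPiHallOf (tau1 M) E₁ E ∧
      IsPiHallOf (tau3 M) E₃ E := by
  have hHall := (Cfsg.Agent.S1350.result hG M hM).1
  have hbot : ∀ p : ℕ, p.Prime → p ∣ Nat.card (⊥ : Subgroup G) → p ∉ sigma M := by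
    intro p hp hpd
    rw [Subgroup.card_bot] at hpd
    exact absurd (Nat.dvd_one.1 hpd) hp.ne_one
  obtain ⟨E, hE, -⟩ := Cfsg.Agent.Lib.Helper13.BG12.exists_complIn_ge hG hM hHall
    (bot_le : (⊥ : Subgroup G) ≤ M) hbot
  have hEM : E ≤ M := hE.1
  have hEtop : E ≠ ⊤ := fun h => hM.1 (top_le_iff.mp (h ▸ hEM))
  have hsolv : Group.IsSolvable ↥E := ms_solvable hG hEtop
  obtain ⟨E₁, hE₁, -⟩ := Cfsg.Agent.Lib.Helper54.BG134.exists_isPiHallOf_ge hsolv (tau1 M)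
    (bot_le : (⊥ : Subgroup G) ≤ E)
    (fun s hs hsd => by
      rw [Subgroup.card_bot] at hsd
      exact absurd (Nat.dvd_one.1 hsd) hs.ne_one)
  obtain ⟨E₃, hE₃, -⟩ := Cfsg.Agent.Lib.Helper54.BG134.exists_isPiHallOf_ge hsolv (tau3 M)
    (bot_le : (⊥ : Subgroup G) ≤ E)
    (fun s hs hsd => by
      rw [Subgroup.card_bot] at hsd
      exact absurd (Nat.dvd_one.1 hsd) hs.ne_one)
  exact ⟨E, E₁, E₃, hE, hE₁, hE₃⟩

end Cfsg.Agent.Lib.Helper54.BG1310
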