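import Cfsg.Agent.Lib.Helper54.Subnormal

set_option autoImplicit false

namespace Cfsg.Agent.Lib.Helper54

open Cfsg
open scoped commutatorElement Pointwise

variable {M : Type*} [Group M] {p : ℕ}

/-! ### `omegaOne` -/

theorem omegaOne_le (p : ℕ) (K : Subgroup M) : omegaOne p K ≤ K := by
  unfold omegaOne
  rw [Subgroup.closure_le]
  intro x hx
  exact hx.1

theorem mem_omegaOne {K : Subgroup M} {x : M} (hx : x ∈ K) (hxp : x ^ p = 1) :
    x ∈ omegaOne p K :=
  Subgroup.subset_closure ⟨hx, hxp⟩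

theorem omegaOne_mono (p : ℕ) {K K' : Subgroup M} (h : K ≤ K') : omegaOne p K ≤ omegaOne p K' := by
  unfold omegaOne
  apply Subgroup.closure_mono
  rintro x ⟨hx, hxp⟩
  exact ⟨h hx, hxp⟩

/-- in a subgroup whose elements commute pairwise, `Ω₁` has exponent `p` -/
theorem pow_eq_one_of_mem_omegaOne {K : Subgroup M}
    (hcomm : ∀ a ∈ K, ∀ b ∈ K, a * b = b * a) {x : M} (hx : x ∈ omegaOne p K) : x ^ p = 1 := by
  unfold omegaOne at hx
  induction hx using Subgroup.closure_induction with
  | mem x hx => exact hx.2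
  | one => simp
  | mul x y hx hy ihx ihy =>
    have hxK : x ∈ K := omegaOne_le p K hx
    have hyK : y ∈ K := omegaOne_le p K hy
    have hc : Commute x y := hcomm x hxK y hyK
    rw [hc.mul_pow, ihx, ihy, one_mul]
  | inv x hx ihx => rw [inv_pow, ihx, inv_one]

theorem center_comm (K : Subgroup M) :
    ∀ a ∈ K ⊓ Subgroup.centralizer (K : Set M), ∀ b ∈ K ⊓ Subgroup.centralizer (K : Set M),
      a * b = b * a := by
  intro a ha b hb
  exact ((Subgroup.mem_centralizer_iff.1 hb.2) a ha.1)

theorem isMulCommutative_of_comm {K : Subgroup M} (h : ∀ a ∈ K, ∀ b ∈ K, a * b = b * a) :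
    IsMulCommutative ↥K :=
  ⟨⟨fun a b => Subtype.ext (h a a.2 b b.2)⟩⟩

/-- `Ω₁(Z(K))` is elementary abelian -/
theorem isElementaryAbelian_omegaOne_center (p : ℕ) (K : Subgroup M) :
    IsElementaryAbelian p (omegaOne p (K ⊓ Subgroup.centralizer (K : Set M))) := by
  refine ⟨isMulCommutative_of_comm ?_, fun a ha => pow_eq_one_of_mem_omegaOne (center_comm K) ha⟩
  intro a ha b hb
  exact center_comm K a (omegaOne_le p _ ha) b (omegaOne_le p _ hb)

theorem isElementaryAbelian_of_le {A B : Subgroup M} (hB : IsElementaryAbelian p B)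
    (h : A ≤ B) : IsElementaryAbelian p A := by
  obtain ⟨hc, hp⟩ := hB
  refine ⟨isMulCommutative_of_comm ?_, fun a ha => hp a (h ha)⟩
  intro a ha b hb
  have := hc.is_comm.comm (⟨a, h ha⟩ : ↥B) ⟨b, h hb⟩
  exact congrArg Subtype.val this

theorem isPGroup_of_isElementaryAbelian [Fact p.Prime] {A : Subgroup M}
    (hA : IsElementaryAbelian p A) : IsPGroup p ↥A := by
  intro a
  exact ⟨1, Subtype.ext (by simpa using hA.2 a a.2)⟩

/-! ### `p`-reduced normal subgroups -/

theorem pCore_le_centralizer_of_isPReducedNormal {V : Subgroup M}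
    (hV : IsPReducedNormal p V) : pCore p M ≤ Subgroup.centralizer (V : Set M) := by
  obtain ⟨_, _, hCn, hO⟩ := hV
  have h1 : (pCore p M).map (QuotientGroup.mk' (Subgroup.centralizer (V : Set M))) ≤
      pCore p (M ⧸ Subgroup.centralizer (V : Set M)) :=
    le_pCore (Subgroup.Normal.map (pCore_normal p M) _ (QuotientGroup.mk'_surjective _))
      ((pCore_isPGroup p M).map _)
  rw [hO, Subgroup.map_le_iff_le_comap] at h1
  intro x hx
  have := h1 hx
  rwa [Subgroup.mem_comap, Subgroup.mem_bot, QuotientGroup.mk'_apply,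
    QuotientGroup.eq_one_iff] at this

theorem le_pCore_of_isPReducedNormal [Fact p.Prime] {V : Subgroup M}
    (hV : IsPReducedNormal p V) : V ≤ pCore p M :=
  le_pCore hV.1 (isPGroup_of_isElementaryAbelian hV.2.1)

theorem le_omegaOne_center_pCore_of_isPReducedNormal [Fact p.Prime] {V : Subgroup M}
    (hV : IsPReducedNormal p V) :
    V ≤ omegaOne p (pCore p M ⊓ Subgroup.centralizer (pCore p M : Set M)) := by
  intro x hx
  apply mem_omegaOne _ (hV.2.1.2 x hx)
  refine ⟨le_pCore_of_isPReducedNormal hV hx, ?_⟩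
  exact (Subgroup.le_centralizer_iff.1 (pCore_le_centralizer_of_isPReducedNormal hV)) hx

theorem largestPReduced_le [Fact p.Prime] :
    largestPReduced p M ≤ omegaOne p (pCore p M ⊓ Subgroup.centralizer (pCore p M : Set M)) :=
  sSup_le fun _ hV => le_omegaOne_center_pCore_of_isPReducedNormal hV

theorem pCore_le_centralizer_largestPReduced [Fact p.Prime] :
    pCore p M ≤ Subgroup.centralizer (largestPReduced p M : Set M) := by
  rw [Subgroup.le_centralizer_iff]
  exact (largestPReduced_le.trans (omegaOne_le p _)).trans inf_le_right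

theorem largestPReduced_normal (p : ℕ) (M : Type*) [Group M] : (largestPReduced p M).Normal :=
  Subgroup.sSup_normal _ fun _ hV => hV.1

/-- characterisation of `O_p(M/C) = 1` -/
theorem pCore_quotient_eq_bot_iff (C : Subgroup M) [C.Normal] :
    pCore p (M ⧸ C) = ⊥ ↔ ∀ D : Subgroup M, D.Normal → C ≤ D →
      (∀ d ∈ D, ∃ k : ℕ, d ^ (p ^ k) ∈ C) → D ≤ C := by
  have hπ : Function.Surjective (QuotientGroup.mk' C) := QuotientGroup.mk'_surjective C
  constructor
  · intro h D hD _ hpow
    have h1 : D.map (QuotientGroup.mk' C) ≤ pCore p (M ⧸ C) := by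
      apply le_pCore (Subgroup.Normal.map hD _ hπ)
      rintro ⟨_, ⟨d, hd, rfl⟩⟩
      obtain ⟨k, hk⟩ := hpow d hd
      refine ⟨k, Subtype.ext ?_⟩
      show ((QuotientGroup.mk' C) d) ^ (p ^ k) = 1
      rw [← map_pow, QuotientGroup.mk'_apply, QuotientGroup.eq_one_iff]
      exact hk
    rw [h, Subgroup.map_le_iff_le_comap] at h1
    intro x hx
    have := h1 hx
    rwa [Subgroup.mem_comap, Subgroup.mem_bot, QuotientGroup.mk'_apply,
      QuotientGroup.eq_one_iff] at this
  · intro h
    set D := (pCore p (M ⧸ C)).comap (QuotientGroup.mk' C) with hD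
    have hDn : D.Normal := Subgroup.Normal.comap (pCore_normal p _) _
    have hCD : C ≤ D := by
      intro c hc
      rw [hD, Subgroup.mem_comap, QuotientGroup.mk'_apply, (QuotientGroup.eq_one_iff c).2 hc]
      exact Subgroup.one_mem _
    have hpow : ∀ d ∈ D, ∃ k : ℕ, d ^ (p ^ k) ∈ C := by
      intro d hd
      have hk : (QuotientGroup.mk' C) d ∈ pCore p (M ⧸ C) := hd
      obtain ⟨a, ha⟩ := pCore_isPGroup p (M ⧸ C) ⟨_, hk⟩
      have ha' : (QuotientGroup.mk' C) (d ^ (p ^ a)) = 1 := by
        rw [map_pow]; simpa using congrArg Subtype.val ha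
      refine ⟨a, ?_⟩
      rwa [QuotientGroup.mk'_apply, QuotientGroup.eq_one_iff] at ha'
    have hDC := h D hDn hCD hpow
    have h4 := Subgroup.map_mono (f := QuotientGroup.mk' C) hDC
    rw [hD, Subgroup.map_comap_eq_self_of_surjective hπ] at h4
    rw [eq_bot_iff]
    refine h4.trans ?_
    rw [Subgroup.map_le_iff_le_comap]
    intro c hc
    rw [Subgroup.mem_comap, Subgroup.mem_bot, QuotientGroup.mk'_apply, QuotientGroup.eq_one_iff]
    exact hc

/-- the join of all `p`-reduced normal subgroups is `p`-reduced -/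
theorem isPReducedNormal_largestPReduced [Fact p.Prime] :
    IsPReducedNormal p (largestPReduced p M) := by
  have hn := largestPReduced_normal p M
  refine ⟨hn, isElementaryAbelian_of_le (isElementaryAbelian_omegaOne_center p _)
    largestPReduced_le, Subgroup.normal_centralizer, ?_⟩
  rw [pCore_quotient_eq_bot_iff]
  intro D hD hCD hpow
  rw [Subgroup.le_centralizer_iff]
  apply sSup_le
  intro V hV
  rw [← Subgroup.le_centralizer_iff]
  obtain ⟨hVn, hVe, hCn, hO⟩ := hV
  have hCle : Subgroup.centralizer ((largestPReduced p M : Subgroup M) : Set M) ≤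
      Subgroup.centralizer (V : Set M) :=
    Subgroup.centralizer_le (by
      have : V ≤ largestPReduced p M := le_sSup ⟨hVn, hVe, hCn, hO⟩
      exact_mod_cast this)
  have h2 := (pCore_quotient_eq_bot_iff (Subgroup.centralizer (V : Set M))).1 hO
    (D ⊔ Subgroup.centralizer (V : Set M)) inferInstance le_sup_right
  have h3 : D ⊔ Subgroup.centralizer (V : Set M) ≤ Subgroup.centralizer (V : Set M) := by
    apply h2
    intro d hd
    have hd' : d ∈ ((D ⊔ Subgroup.centralizer (V : Set M) : Subgroup M) : Set M) := hd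
    rw [Subgroup.mul_normal] at hd'
    obtain ⟨x, hx, c, hc, rfl⟩ := hd'
    obtain ⟨k, hk⟩ := hpow x hx
    refine ⟨k, ?_⟩
    -- (x c)^(p^k) ≡ x^(p^k) modulo the normal subgroup C_M(V)
    have h4 : (QuotientGroup.mk' (Subgroup.centralizer (V : Set M))) ((x * c) ^ (p ^ k)) = 1 := by
      rw [map_pow, map_mul]
      have hc1 : (QuotientGroup.mk' (Subgroup.centralizer (V : Set M))) c = 1 := by
        rw [QuotientGroup.mk'_apply, QuotientGroup.eq_one_iff]; exact hc
      rw [hc1, mul_one, ← map_pow, QuotientGroup.mk'_apply, QuotientGroup.eq_one_iff]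
      exact hCle hk
    rwa [QuotientGroup.mk'_apply, QuotientGroup.eq_one_iff] at h4
  exact le_sup_left.trans h3

/-! ### the closure of the `Ω₁(Z(S))` -/

/-- `Z_M`: generated by the `Ω₁(Z(S))`, `S` a Sylow `p`-subgroup of `M` -/
def centerClosure (p : ℕ) (M : Type*) [Group M] : Subgroup M :=
  ⨆ S : Sylow p M, omegaOne p ((S : Subgroup M) ⊓ Subgroup.centralizer ((S : Subgroup M) : Set M))

theorem omegaOne_center_sylow_le_centerClosure (S : Sylow p M) :
    omegaOne p ((S : Subgroup M) ⊓ Subgroup.centralizer ((S : Subgroup M) : Set M)) ≤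
      centerClosure p M :=
  le_iSup (fun S : Sylow p M =>
    omegaOne p ((S : Subgroup M) ⊓ Subgroup.centralizer ((S : Subgroup M) : Set M))) S

theorem centerClosure_normal (p : ℕ) (M : Type*) [Group M] : (centerClosure p M).Normal := by
  constructor
  intro n hn g
  have h1 : g * n * g⁻¹ ∈ (centerClosure p M).map (MulAut.conj g).toMonoidHom :=
    conj_mem_map_conj hn
  refine (?_ : (centerClosure p M).map (MulAut.conj g).toMonoidHom ≤ centerClosure p M) h1
  unfold centerClosure
  rw [Subgroup.map_iSup]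
  apply iSup_le
  intro S
  refine le_trans ?_ (omegaOne_center_sylow_le_centerClosure (g • S))
  rw [Subgroup.map_le_iff_le_comap]
  unfold omegaOne
  rw [Subgroup.closure_le]
  rintro x ⟨⟨hxS, hxC⟩, hxp⟩
  apply Subgroup.subset_closure
  refine ⟨⟨?_, ?_⟩, ?_⟩
  · rw [sylow_smul_coe]
    exact ⟨x, hxS, rfl⟩
  · rw [sylow_smul_coe]
    show _ ∈ Subgroup.centralizer _
    rw [Subgroup.mem_centralizer_iff]
    rintro _ ⟨y, hy, rfl⟩
    have hxC' : x ∈ Subgroup.centralizer ((S : Subgroup M) : Set M) := hxC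
    have := (Subgroup.mem_centralizer_iff.1 hxC') y hy
    simp only [MulEquiv.coe_toMonoidHom, MulAut.conj_apply]
    calc g * y * g⁻¹ * (g * x * g⁻¹) = g * (y * x) * g⁻¹ := by group
      _ = g * (x * y) * g⁻¹ := by rw [this]
      _ = g * x * g⁻¹ * (g * y * g⁻¹) := by group
  · simp only [MulEquiv.coe_toMonoidHom, MulAut.conj_apply]
    rw [conj_pow, hxp]; simp

theorem centerClosure_le_of_char [Fact p.Prime]
    (hchar : Subgroup.centralizer (pCore p M : Set M) ≤ pCore p M) :
    centerClosure p M ≤ omegaOne p (pCore p M ⊓ Subgroup.centralizer (pCore p M : Set M)) := by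
  unfold centerClosure
  apply iSup_le
  intro S
  unfold omegaOne
  apply Subgroup.closure_mono
  rintro x ⟨⟨_, hxC⟩, hxp⟩
  have h1 : x ∈ Subgroup.centralizer (pCore p M : Set M) :=
    Subgroup.centralizer_le (by exact_mod_cast pCore_le_sylow S) hxC
  exact ⟨⟨hchar h1, h1⟩, hxp⟩

/-- under characteristic `p`, `Z_M` is a `p`-reduced normal subgroup -/
theorem isPReducedNormal_centerClosure [Finite M] [Fact p.Prime]
    (hchar : Subgroup.centralizer (pCore p M : Set M) ≤ pCore p M) :
    IsPReducedNormal p (centerClosure p M) := by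
  have hn := centerClosure_normal p M
  refine ⟨hn, isElementaryAbelian_of_le (isElementaryAbelian_omegaOne_center p _)
    (centerClosure_le_of_char hchar), Subgroup.normal_centralizer, ?_⟩
  rw [pCore_quotient_eq_bot_iff]
  intro D hD hCD hpow
  set C := Subgroup.centralizer ((centerClosure p M : Subgroup M) : Set M) with hC
  rw [Subgroup.le_centralizer_iff]
  unfold centerClosure
  apply iSup_le
  intro S
  unfold omegaOne
  rw [Subgroup.closure_le]
  rintro z ⟨⟨hzS, hzC⟩, hzp⟩
  have hzZ : z ∈ centerClosure p M :=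
    omegaOne_center_sylow_le_centerClosure S (mem_omegaOne ⟨hzS, hzC⟩ hzp)
  -- D ≤ centralizer {z}
  have hCz : C ≤ Subgroup.centralizer ({z} : Set M) := by
    intro c hc
    rw [Subgroup.mem_centralizer_singleton_iff]
    exact ((Subgroup.mem_centralizer_iff.1 hc) z hzZ).symm
  have hSz : (S : Subgroup M) ≤ Subgroup.centralizer ({z} : Set M) := by
    intro s hs
    rw [Subgroup.mem_centralizer_singleton_iff]
    exact ((Subgroup.mem_centralizer_iff.1 hzC) s hs)
  obtain ⟨P, hP⟩ := exists_sylow_eq_subgroupOf_of_normal S D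
  have hCn : C.Normal := Subgroup.normal_centralizer
  have hC' : (C.subgroupOf D).Normal := Subgroup.Normal.subgroupOf hCn D
  have h1 : pResidual p ↥D ≤ C.subgroupOf D := by
    apply pResidual_le_of_forall_pow_mem
    intro d
    obtain ⟨k, hk⟩ := hpow d d.2
    exact ⟨k, by rw [Subgroup.mem_subgroupOf]; simpa using hk⟩
  have h2 := pResidual_sup_sylow P
  rw [SetLike.mem_coe, Subgroup.mem_centralizer_iff]
  intro d hd
  have h3 : (⟨d, hd⟩ : ↥D) ∈ pResidual p ↥D ⊔ (P : Subgroup ↥D) := by
    rw [h2]; exact Subgroup.mem_top _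
  have h4 : pResidual p ↥D ⊔ (P : Subgroup ↥D) ≤
      (Subgroup.centralizer ({z} : Set M)).subgroupOf D := by
    apply sup_le
    · intro x hx
      rw [Subgroup.mem_subgroupOf]
      exact hCz (Subgroup.mem_subgroupOf.1 (h1 hx))
    · rw [hP]
      intro x hx
      rw [Subgroup.mem_subgroupOf] at hx ⊢
      exact hSz hx
  have h5 := h4 h3
  rw [Subgroup.mem_subgroupOf, Subgroup.mem_centralizer_singleton_iff] at h5
  exact h5

theorem centerClosure_le_largestPReduced [Finite M] [Fact p.Prime]
    (hchar : Subgroup.centralizer (pCore p M : Set M) ≤ pCore p M) :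
    centerClosure p M ≤ largestPReduced p M :=
  le_sSup (isPReducedNormal_centerClosure hchar)

/-! ### transfer to subgroups of an ambient group -/

section transfer

variable {H : Type*} [Group H]

theorem omegaOne_map_subtype (p : ℕ) (L : Subgroup H) (K : Subgroup ↥L) :
    (omegaOne p K).map L.subtype = omegaOne p (K.map L.subtype) := by
  unfold omegaOne
  rw [MonoidHom.map_closure]
  congr 1
  ext y
  constructor
  · rintro ⟨x, ⟨hx, hxp⟩, rfl⟩
    refine ⟨⟨x, hx, rfl⟩, ?_⟩
    have := congrArg Subtype.val hxp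
    simpa using this
  · rintro ⟨⟨x, hx, rfl⟩, hxp⟩
    refine ⟨x, ⟨hx, ?_⟩, rfl⟩
    apply Subtype.ext
    simpa using hxp

theorem center_map_subtype (L : Subgroup H) (K : Subgroup ↥L) :
    (K ⊓ Subgroup.centralizer (K : Set ↥L)).map L.subtype =
      K.map L.subtype ⊓ Subgroup.centralizer ((K.map L.subtype : Subgroup H) : Set H) := by
  ext y
  constructor
  · rintro ⟨x, hx', rfl⟩
    obtain ⟨hx, hxc⟩ := Subgroup.mem_inf.1 hx'
    refine Subgroup.mem_inf.2 ⟨⟨x, hx, rfl⟩, ?_⟩
    rw [Subgroup.mem_centralizer_iff]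
    rintro _ ⟨k, hk, rfl⟩
    have := (Subgroup.mem_centralizer_iff.1 hxc) k hk
    exact congrArg Subtype.val this
  · intro hy
    obtain ⟨⟨x, hx, rfl⟩, hxc⟩ := Subgroup.mem_inf.1 hy
    refine ⟨x, Subgroup.mem_inf.2 ⟨hx, ?_⟩, rfl⟩
    rw [Subgroup.mem_centralizer_iff]
    intro k hk
    have := (Subgroup.mem_centralizer_iff.1 hxc) (k : H) ⟨k, hk, rfl⟩
    exact Subtype.ext this

theorem sylowCenterClosure_eq (p : ℕ) (L : Subgroup H) :
    sylowCenterClosure p L = (centerClosure p ↥L).map L.subtype := by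
  unfold sylowCenterClosure centerClosure
  rw [Subgroup.map_iSup]
  congr 1
  ext S : 1
  rw [omegaOne_map_subtype, center_map_subtype]

theorem le_normalizer_map_subtype_of_normal (L : Subgroup H) (N : Subgroup ↥L) [hN : N.Normal] :
    L ≤ Subgroup.normalizer ((N.map L.subtype : Subgroup H) : Set H) := by
  rw [← Subgroup.normal_subgroupOf_iff_le_normalizer (Subgroup.map_subtype_le N),
    map_subtype_subgroupOf]
  exact hN

theorem normalizer_le_normalizer_centralizer' (K : Subgroup H) :
    Subgroup.normalizer (K : Set H) ≤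
      Subgroup.normalizer ((Subgroup.centralizer (K : Set H) : Subgroup H) : Set H) := by
  apply le_normalizer_of_map_conj_le
  rintro g hg _ ⟨c, hc, rfl⟩
  rw [Subgroup.mem_centralizer_iff]
  intro k hk
  have h1 : g⁻¹ * k * g⁻¹⁻¹ ∈ K :=
    (Subgroup.mem_normalizer_iff.1 (Subgroup.inv_mem _ hg) k).1 hk
  have h2 := (Subgroup.mem_centralizer_iff.1 hc) _ h1
  have h3 : k * (MulAut.conj g).toMonoidHom c = g * ((g⁻¹ * k * g⁻¹⁻¹) * c) * g⁻¹ := by
    simp [mul_assoc]
  have h4 : (MulAut.conj g).toMonoidHom c * k = g * (c * (g⁻¹ * k * g⁻¹⁻¹)) * g⁻¹ := by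
    simp [mul_assoc]
  rw [h3, h4, h2]

theorem le_normalizer_largestPReducedOf (p : ℕ) (L : Subgroup H) :
    L ≤ Subgroup.normalizer ((largestPReducedOf p L : Subgroup H) : Set H) := by
  haveI := largestPReduced_normal p ↥L
  exact le_normalizer_map_subtype_of_normal L _

theorem pCoreOf_le_centralizer_largestPReducedOf [Fact p.Prime] (L : Subgroup H) :
    pCoreOf p L ≤ Subgroup.centralizer ((largestPReducedOf p L : Subgroup H) : Set H) := by
  rintro _ ⟨y, hy, rfl⟩
  rw [Subgroup.mem_centralizer_iff]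
  rintro _ ⟨v, hv, rfl⟩
  have := (Subgroup.mem_centralizer_iff.1 (pCore_le_centralizer_largestPReduced hy)) v hv
  exact congrArg Subtype.val this

theorem largestPReducedOf_le [Fact p.Prime] (L : Subgroup H) :
    largestPReducedOf p L ≤
      omegaOne p (pCoreOf p L ⊓ Subgroup.centralizer ((pCoreOf p L : Subgroup H) : Set H)) := by
  unfold largestPReducedOf pCoreOf
  rw [← center_map_subtype, ← omegaOne_map_subtype]
  exact Subgroup.map_mono largestPReduced_le

theorem sylowCenterClosure_le_largestPReducedOf [Fact p.Prime] (L : Subgroup H) [Finite ↥L]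
    (hL : Subgroup.centralizer (pCore p ↥L : Set ↥L) ≤ pCore p ↥L) :
    sylowCenterClosure p L ≤ largestPReducedOf p L := by
  rw [sylowCenterClosure_eq]
  exact Subgroup.map_mono (centerClosure_le_largestPReduced hL)

theorem pCoreOf_le_sylow (L : Subgroup H) (T : Sylow p H) (hTL : (T : Subgroup H) ≤ L) :
    pCoreOf p L ≤ (T : Subgroup H) := by
  rintro _ ⟨y, hy, rfl⟩
  have h1 : y ∈ ((T.subtype hTL : Sylow p ↥L) : Subgroup ↥L) := pCore_le_sylow (T.subtype hTL) hy
  rw [sylow_subtype_coe] at h1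
  exact Subgroup.mem_subgroupOf.1 h1

theorem mem_centralizer_subgroupOf_iff {L Y : Subgroup H} (hYL : Y ≤ L) (x : ↥L) :
    x ∈ Subgroup.centralizer ((Y.subgroupOf L : Subgroup ↥L) : Set ↥L) ↔
      (x : H) ∈ Subgroup.centralizer (Y : Set H) := by
  rw [Subgroup.mem_centralizer_iff, Subgroup.mem_centralizer_iff]
  constructor
  · intro h y hy
    have := h ⟨y, hYL hy⟩ (Subgroup.mem_subgroupOf.2 hy)
    exact congrArg Subtype.val this
  · intro h y hy
    exact Subtype.ext (h (y : H) (Subgroup.mem_subgroupOf.1 hy))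

theorem le_normalizer_sup {X A B : Subgroup H} (hA : X ≤ Subgroup.normalizer (A : Set H))
    (hB : X ≤ Subgroup.normalizer (B : Set H)) :
    X ≤ Subgroup.normalizer ((A ⊔ B : Subgroup H) : Set H) := by
  intro x hx
  apply mem_normalizer_of_map_conj_eq
  rw [Subgroup.map_sup, map_conj_eq_of_mem_normalizer (hA hx),
    map_conj_eq_of_mem_normalizer (hB hx)]

/-- ambient-group criterion for a subgroup `Y ≤ L` to be a `p`-reduced normal subgroup of `L` -/
theorem isPReducedNormal_subgroupOf_iff {L Y : Subgroup H} (hYL : Y ≤ L) :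
    IsPReducedNormal p (Y.subgroupOf L) ↔
      L ≤ Subgroup.normalizer (Y : Set H) ∧ IsElementaryAbelian p Y ∧
        ∀ D : Subgroup H, D ≤ L → L ≤ Subgroup.normalizer (D : Set H) →
          L ⊓ Subgroup.centralizer (Y : Set H) ≤ D →
          (∀ d ∈ D, ∃ k : ℕ, d ^ (p ^ k) ∈ Subgroup.centralizer (Y : Set H)) →
          D ≤ Subgroup.centralizer (Y : Set H) := by
  constructor
  · rintro ⟨hn, hel, hCn, hO⟩
    refine ⟨(Subgroup.normal_subgroupOf_iff_le_normalizer hYL).1 hn, ?_, ?_⟩
    · refine ⟨isMulCommutative_of_comm ?_, ?_⟩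
      · intro a ha b hb
        have := hel.1.is_comm.comm
          (⟨⟨a, hYL ha⟩, Subgroup.mem_subgroupOf.2 ha⟩ : ↥(Y.subgroupOf L))
          ⟨⟨b, hYL hb⟩, Subgroup.mem_subgroupOf.2 hb⟩
        have h2 := congrArg (fun z : ↥(Y.subgroupOf L) => ((z : ↥L) : H)) this
        simpa using h2
      · intro a ha
        have := hel.2 ⟨a, hYL ha⟩ (Subgroup.mem_subgroupOf.2 ha)
        simpa using congrArg Subtype.val this
    · intro D hDL hLD hCD hpow
      have h1 := (pCore_quotient_eq_bot_iff _).1 hO (D.subgroupOf L)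
        ((Subgroup.normal_subgroupOf_iff_le_normalizer hDL).2 hLD) ?_ ?_
      · intro d hd
        have := h1 (Subgroup.mem_subgroupOf.2 (show ((⟨d, hDL hd⟩ : ↥L) : H) ∈ D from hd))
        exact (mem_centralizer_subgroupOf_iff hYL _).1 this
      · intro x hx
        rw [Subgroup.mem_subgroupOf]
        exact hCD ⟨x.2, (mem_centralizer_subgroupOf_iff hYL x).1 hx⟩
      · intro d hd
        obtain ⟨k, hk⟩ := hpow (d : H) (Subgroup.mem_subgroupOf.1 hd)
        refine ⟨k, ?_⟩
        rw [mem_centralizer_subgroupOf_iff hYL]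
        simpa using hk
  · rintro ⟨hLY, hel, hcrit⟩
    have hn : (Y.subgroupOf L).Normal := (Subgroup.normal_subgroupOf_iff_le_normalizer hYL).2 hLY
    refine ⟨hn, ?_, Subgroup.normal_centralizer, ?_⟩
    · refine ⟨isMulCommutative_of_comm ?_, ?_⟩
      · intro a ha b hb
        have := hel.1.is_comm.comm (⟨(a : H), Subgroup.mem_subgroupOf.1 ha⟩ : ↥Y)
          ⟨(b : H), Subgroup.mem_subgroupOf.1 hb⟩
        have h2 := congrArg (fun z : ↥Y => (z : H)) this
        apply Subtype.ext
        simpa using h2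
      · intro a ha
        exact Subtype.ext (by simpa using hel.2 (a : H) (Subgroup.mem_subgroupOf.1 ha))
    · rw [pCore_quotient_eq_bot_iff]
      intro D hD hCD hpow
      have h1 := hcrit (D.map L.subtype) (Subgroup.map_subtype_le D)
        (le_normalizer_map_subtype_of_normal L D) ?_ ?_
      · intro d hd
        rw [mem_centralizer_subgroupOf_iff hYL]
        exact h1 ⟨d, hd, rfl⟩
      · rintro x ⟨hxL, hxC⟩
        exact ⟨⟨x, hxL⟩, hCD ((mem_centralizer_subgroupOf_iff hYL ⟨x, hxL⟩).2 hxC), rfl⟩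
      · rintro _ ⟨d, hd, rfl⟩
        obtain ⟨k, hk⟩ := hpow d hd
        refine ⟨k, ?_⟩
        have := (mem_centralizer_subgroupOf_iff hYL _).1 hk
        simpa using this

theorem largestPReducedOf_le_self (p : ℕ) (L : Subgroup H) : largestPReducedOf p L ≤ L :=
  Subgroup.map_subtype_le _

/-- `Y_L`, viewed in the ambient group, satisfies the ambient criterion -/
theorem isPReducedNormal_largestPReducedOf [Fact p.Prime] (L : Subgroup H) :
    IsPReducedNormal p ((largestPReducedOf p L).subgroupOf L) := by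
  unfold largestPReducedOf
  rw [map_subtype_subgroupOf]
  exact isPReducedNormal_largestPReduced

/-- a subgroup `Y ≤ L` which is `p`-reduced normal in `L` lies in `Y_L` -/
theorem le_largestPReducedOf {L Y : Subgroup H} (hYL : Y ≤ L)
    (h : IsPReducedNormal p (Y.subgroupOf L)) : Y ≤ largestPReducedOf p L := by
  have h1 : Y.subgroupOf L ≤ largestPReduced p ↥L := le_sSup h
  intro y hy
  exact ⟨⟨y, hYL hy⟩, h1 (Subgroup.mem_subgroupOf.2 hy), rfl⟩

/-- powers of `d c` with `c` in a subgroup `C` normalised by `d` -/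
theorem exists_mul_pow_eq {C : Subgroup H} {d c : H}
    (hd : d ∈ Subgroup.normalizer (C : Set H)) (hc : c ∈ C) (n : ℕ) :
    ∃ c' ∈ C, (d * c) ^ n = d ^ n * c' := by
  induction n with
  | zero => exact ⟨1, C.one_mem, by simp⟩
  | succ n ih =>
    obtain ⟨c', hc', h⟩ := ih
    refine ⟨(d⁻¹ * c' * d⁻¹⁻¹) * c, C.mul_mem ?_ hc, ?_⟩
    · exact (Subgroup.mem_normalizer_iff.1 (Subgroup.inv_mem _ hd) c').1 hc'
    · rw [pow_succ, h, pow_succ]; group

end transfer

end Cfsg.Agent.Lib.Helper54
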