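import Cfsg.Agent.Lib.Helper54.Quot

set_option autoImplicit false

namespace Cfsg.Agent.Lib.Helper54

open Cfsg
open scoped commutatorElement Pointwise

variable {G : Type*} [Group G] {p : ℕ}

theorem sylow_smul_coe (g : G) (T : Sylow p G) :
    ((g • T : Sylow p G) : Subgroup G) = (T : Subgroup G).map (MulAut.conj g).toMonoidHom := rfl

theorem normalizer_map_conj (K : Subgroup G) (g : G) :
    Subgroup.normalizer ((K.map (MulAut.conj g).toMonoidHom : Subgroup G) : Set G) =
      (Subgroup.normalizer (K : Set G)).map (MulAut.conj g).toMonoidHom :=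
  (Subgroup.map_equiv_normalizer_eq K (MulAut.conj g)).symm

/-- weak closure in one Sylow subgroup gives weak closure in every Sylow subgroup containing `Q` -/
theorem isWeaklyClosed_of_le_sylow [Finite G] [Fact p.Prime] {Q : Subgroup G} {T : Sylow p G}
    (h : IsWeaklyClosed Q (T : Subgroup G)) (T' : Sylow p G) (hQT' : Q ≤ (T' : Subgroup G)) :
    IsWeaklyClosed Q (T' : Subgroup G) := by
  obtain ⟨x, hx⟩ := sylow_exists_conj T T'
  refine ⟨hQT', ?_⟩
  have h1 : Q.map (MulAut.conj x⁻¹).toMonoidHom = Q := by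
    apply h.2
    rw [map_conj_le_iff, inv_inv, ← hx]
    exact hQT'
  have h1' : Q.map (MulAut.conj x).toMonoidHom = Q := by
    have := congrArg (fun K => K.map (MulAut.conj x).toMonoidHom) h1
    simp only [map_conj_map_conj_inv] at this
    exact this.symm
  intro g hg
  have h2 : Q.map (MulAut.conj (x⁻¹ * g)).toMonoidHom = Q := by
    apply h.2
    rw [map_conj_mul, map_conj_le_iff, inv_inv, ← hx]
    exact hg
  rw [map_conj_mul] at h2
  have := congrArg (fun K => K.map (MulAut.conj x).toMonoidHom) h2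
  simp only [map_conj_map_conj_inv] at this
  rw [this, h1']

/-- a weakly closed subgroup of `T` is normal in `T` -/
theorem le_normalizer_of_isWeaklyClosed {Q T : Subgroup G} (h : IsWeaklyClosed Q T) :
    T ≤ Subgroup.normalizer (Q : Set G) := by
  intro t ht
  apply mem_normalizer_of_map_conj_eq
  apply h.2
  refine (Subgroup.map_mono h.1).trans ?_
  rw [map_conj_eq_of_mem_normalizer (Subgroup.le_normalizer ht)]

/-- a weakly closed subgroup is normal in every Sylow subgroup containing it -/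
theorem sylow_le_normalizer_of_isWeaklyClosedSubgroup [Finite G] [Fact p.Prime] {Q : Subgroup G}
    (h : IsWeaklyClosedSubgroup p Q) (T' : Sylow p G) (hQT' : Q ≤ (T' : Subgroup G)) :
    (T' : Subgroup G) ≤ Subgroup.normalizer (Q : Set G) := by
  obtain ⟨T, hT⟩ := h
  exact le_normalizer_of_isWeaklyClosed (isWeaklyClosed_of_le_sylow hT T' hQT')

/-- if `Q` is a weakly closed subgroup, two conjugates of `Q` inside a `p`-subgroup coincide -/
theorem conj_eq_of_le_isPGroup [Finite G] [Fact p.Prime] {Q : Subgroup G}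
    (h : IsWeaklyClosedSubgroup p Q) {R : Subgroup G} (hR : IsPGroup p ↥R) (hQR : Q ≤ R)
    {g : G} (hg : Q.map (MulAut.conj g).toMonoidHom ≤ R) :
    Q.map (MulAut.conj g).toMonoidHom = Q := by
  obtain ⟨T, hT⟩ := h
  obtain ⟨T', hT'⟩ := hR.exists_le_sylow
  exact (isWeaklyClosed_of_le_sylow hT T' (hQR.trans hT')).2 g (hg.trans hT')

/-- `H`-conjugates of a weakly closed subgroup `Q` inside `K ≥ Q` are `K`-conjugates -/
theorem exists_conj_eq_of_le [Finite G] [Fact p.Prime] {Q : Subgroup G} (hQp : IsPGroup p ↥Q)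
    (h : IsWeaklyClosedSubgroup p Q) {K : Subgroup G} (hQK : Q ≤ K) {g : G}
    (hg : Q.map (MulAut.conj g).toMonoidHom ≤ K) :
    ∃ k ∈ K, Q.map (MulAut.conj g).toMonoidHom = Q.map (MulAut.conj k).toMonoidHom := by
  have h0 : IsPGroup p ↥(Q.subgroupOf K) :=
    hQp.comap_of_injective K.subtype K.subtype_injective
  have h1 : IsPGroup p ↥((Q.map (MulAut.conj g).toMonoidHom).subgroupOf K) :=
    (hQp.map _).comap_of_injective K.subtype K.subtype_injective
  obtain ⟨S₀, hS₀⟩ := h0.exists_le_sylow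
  obtain ⟨S₁, hS₁⟩ := h1.exists_le_sylow
  obtain ⟨k, hk⟩ := sylow_exists_conj S₀ S₁
  have hR : IsPGroup p ↥((S₀ : Subgroup ↥K).map K.subtype) := S₀.isPGroup'.map _
  have hQR : Q ≤ (S₀ : Subgroup ↥K).map K.subtype := by
    intro q hq
    exact ⟨⟨q, hQK hq⟩, hS₀ (Subgroup.mem_subgroupOf.2 hq), rfl⟩
  refine ⟨(k : G), k.2, ?_⟩
  have h2 : Q.map (MulAut.conj ((k : G)⁻¹ * g)).toMonoidHom = Q := by
    apply conj_eq_of_le_isPGroup h hR hQR
    rw [map_conj_mul, map_conj_le_iff, inv_inv]
    intro y hy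
    have hyK : y ∈ K := hg hy
    have h3 : (⟨y, hyK⟩ : ↥K) ∈ (S₁ : Subgroup ↥K) := hS₁ (Subgroup.mem_subgroupOf.2 hy)
    rw [hk, mem_map_conj_iff] at h3
    rw [mem_map_conj_iff]
    exact ⟨_, h3, by simp⟩
  rw [map_conj_mul] at h2
  have := congrArg (fun M => M.map (MulAut.conj (k : G)).toMonoidHom) h2
  simp only [map_conj_map_conj_inv] at this
  exact this

theorem subgroupOf_map_conj (Q K : Subgroup G) (k : ↥K) :
    (Q.subgroupOf K).map (MulAut.conj k).toMonoidHom =
      (Q.map (MulAut.conj (k : G)).toMonoidHom).subgroupOf K := by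
  ext x
  rw [mem_map_conj_iff, Subgroup.mem_subgroupOf, Subgroup.mem_subgroupOf, mem_map_conj_iff]
  simp

theorem map_map_conj {G' : Type*} [Group G'] (f : G →* G') (Q : Subgroup G) (g : G) :
    (Q.map (MulAut.conj g).toMonoidHom).map f = (Q.map f).map (MulAut.conj (f g)).toMonoidHom := by
  rw [Subgroup.map_map, Subgroup.map_map]
  congr 1
  ext x
  simp

/-- a weakly closed subgroup of `H` contained in `K` is a weakly closed subgroup of `K` -/
theorem isWeaklyClosedSubgroup_subgroupOf [Finite G] [Fact p.Prime] {Q : Subgroup G}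
    (hQp : IsPGroup p ↥Q) (h : IsWeaklyClosedSubgroup p Q) {K : Subgroup G} (hQK : Q ≤ K) :
    IsWeaklyClosedSubgroup p (Q.subgroupOf K) := by
  have h0 : IsPGroup p ↥(Q.subgroupOf K) :=
    hQp.comap_of_injective K.subtype K.subtype_injective
  obtain ⟨S, hS⟩ := h0.exists_le_sylow
  refine ⟨S, hS, ?_⟩
  intro k hk
  have hR : IsPGroup p ↥((S : Subgroup ↥K).map K.subtype) := S.isPGroup'.map _
  have hQR : Q ≤ (S : Subgroup ↥K).map K.subtype := by
    intro q hq
    exact ⟨⟨q, hQK hq⟩, hS (Subgroup.mem_subgroupOf.2 hq), rfl⟩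
  rw [subgroupOf_map_conj] at hk ⊢
  have h1 : Q.map (MulAut.conj (k : G)).toMonoidHom = Q := by
    apply conj_eq_of_le_isPGroup h hR hQR
    intro y hy
    have hyK : y ∈ K := by
      obtain ⟨q, hq, rfl⟩ := hy
      exact K.mul_mem (K.mul_mem k.2 (hQK hq)) (K.inv_mem k.2)
    exact ⟨⟨y, hyK⟩, hk (Subgroup.mem_subgroupOf.2 hy), rfl⟩
  rw [h1]

/-- a subnormal subgroup containing a weakly closed subgroup `Q` contains all conjugates of `Q` -/
theorem map_conj_le_of_isSubnormal [Finite G] [Fact p.Prime] {Q : Subgroup G}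
    (hQp : IsPGroup p ↥Q) (h : IsWeaklyClosedSubgroup p Q) {S : Subgroup G}
    (hS : S.IsSubnormal) (hQS : Q ≤ S) (g : G) : Q.map (MulAut.conj g).toMonoidHom ≤ S := by
  revert hQS g
  induction hS with
  | top => intro _ _; exact le_top
  | step S B h_le hSubn hN ih =>
    intro hQS g
    have h1 := ih (hQS.trans h_le) g
    obtain ⟨b, hb, hb2⟩ := exists_conj_eq_of_le hQp h (hQS.trans h_le) h1
    rw [hb2]
    have h2 : B ≤ Subgroup.normalizer (S : Set G) :=
      (Subgroup.normal_subgroupOf_iff_le_normalizer h_le).1 hN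
    rw [← map_conj_eq_of_mem_normalizer (h2 hb)]
    exact Subgroup.map_mono hQS

/-- `Q^n ≤ [N, Q] Q` -/
theorem map_conj_le_commutator_sup {N Q : Subgroup G} {n : G} (hn : n ∈ N) :
    Q.map (MulAut.conj n).toMonoidHom ≤ ⁅N, Q⁆ ⊔ Q := by
  rintro _ ⟨q, hq, rfl⟩
  have h4 : (MulAut.conj n).toMonoidHom q = ⁅n, q⁆ * q := by
    simp [commutatorElement_def, mul_assoc]
  rw [h4]
  exact Subgroup.mul_mem _ (le_sup_left (b := Q) (Subgroup.commutator_mem_commutator hn hq))
    (le_sup_right (a := ⁅N, Q⁆) hq)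

end Cfsg.Agent.Lib.Helper54
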