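import Mathlib
import Cfsg.Prelude.Def_Local
import Cfsg.Agent.Lib.Helper30.Components

/-!
# K-SylAlt-G1 (keystone 292908, architect helper6, S2929): `le_or_commute_of_quasisimple`

A quasisimple subgroup `K` normalized by `H ≥ K`, and `M ≤ H` normalized by `H`: `K ≤ M` or `M` centralizes `K`.
-/

set_option autoImplicit false

namespace Cfsg.Agent.Lib.Helper54.SylAlt

open scoped commutatorElement

variable {G : Type*} [Group G]

theorem le_or_commute_of_quasisimple (H K M : Subgroup G) (hKH : K ≤ H)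
    (hHK : H ≤ Subgroup.normalizer (K : Set G)) (hq : Cfsg.IsQuasisimple ↥K) (hMH : M ≤ H)
    (hHM : H ≤ Subgroup.normalizer (M : Set G)) :
    K ≤ M ∨ ∀ m ∈ M, ∀ k ∈ K, m * k = k * m := by
  obtain ⟨hperf, -, hN⟩ := Cfsg.Agent.Lib.Helper30.qs_subgroup hq
  have hnorm : K ≤ Subgroup.normalizer ((M ⊓ K : Subgroup G) : Set G) := by
    intro k hk
    rw [Subgroup.mem_normalizer_iff]
    intro x
    have h1 := (Subgroup.mem_normalizer_iff.1 (hHM (hKH hk))) x
    have h2 := (Subgroup.mem_normalizer_iff.1 (hHK (hKH hk))) x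
    rw [Subgroup.mem_inf, Subgroup.mem_inf, h1, h2]
  rcases hN (M ⊓ K) inf_le_right hnorm with h | h
  · left
    exact inf_eq_right.1 h
  · right
    have hMK : ⁅M, K⁆ ≤ M ⊓ K := by
      rw [Subgroup.commutator_le]
      intro m hm k hk
      rw [Subgroup.mem_inf]
      constructor
      · have h1 : k * m⁻¹ * k⁻¹ ∈ M :=
          ((Subgroup.mem_normalizer_iff.1 (hHM (hKH hk))) m⁻¹).1 (M.inv_mem hm)
        have e : ⁅m, k⁆ = m * (k * m⁻¹ * k⁻¹) := by rw [commutatorElement_def]; group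
        rw [e]
        exact M.mul_mem hm h1
      · have h1 : m * k * m⁻¹ ∈ K :=
          ((Subgroup.mem_normalizer_iff.1 (hHK (hMH hm))) k).1 hk
        rw [commutatorElement_def]
        exact K.mul_mem h1 (K.inv_mem hk)
    have h1 : ⁅⁅M, K⁆, K⁆ = ⊥ :=
      Subgroup.commutator_eq_bot_iff_le_centralizer.2 (hMK.trans h)
    have h2 : ⁅⁅K, M⁆, K⁆ = ⊥ := by rw [Subgroup.commutator_comm K M]; exact h1
    have h3 : ⁅⁅K, K⁆, M⁆ = ⊥ := Subgroup.commutator_commutator_eq_bot_of_rotate h2 h1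
    rw [hperf] at h3
    have h4 : K ≤ Subgroup.centralizer (M : Set G) :=
      Subgroup.commutator_eq_bot_iff_le_centralizer.1 h3
    intro m hm k hk
    exact (Subgroup.mem_centralizer_iff.1 (h4 hk)) m hm
end Cfsg.Agent.Lib.Helper54.SylAlt
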