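import Cfsg.Agent.Lib.Helper54.Basic

set_option autoImplicit false

namespace Cfsg.Agent.Lib.Helper54

open Cfsg
open scoped commutatorElement

variable {G : Type*} [Group G] {p : ℕ}

/-- Core elementwise coprime-action lemma: if `c = ⁅a, x⁆` commutes with `x`, `c` is a `p`-element
and `x` has finite order prime to `p`, then `c = 1`. -/
theorem commutatorElement_eq_one_of_coprime (a x : G)
    (hc : Commute ⁅a, x⁆ x) (hcp : ∃ k : ℕ, ⁅a, x⁆ ^ (p ^ k) = 1)
    (hx : (orderOf x).Coprime p) : ⁅a, x⁆ = 1 := by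
  set c := ⁅a, x⁆ with hcdef
  have h1 : a * x * a⁻¹ = c * x := by
    simp [hcdef, commutatorElement_def, mul_assoc]
  have h2 : (a * x * a⁻¹) ^ (orderOf x) = 1 := by
    rw [conj_pow, pow_orderOf_eq_one]; simp
  rw [h1, hc.mul_pow, pow_orderOf_eq_one, mul_one] at h2
  obtain ⟨k, hk⟩ := hcp
  have h3 : orderOf c ∣ orderOf x := orderOf_dvd_of_pow_eq_one h2
  have h4 : orderOf c ∣ p ^ k := orderOf_dvd_of_pow_eq_one hk
  have h5 : orderOf c = 1 := Nat.eq_one_of_dvd_coprimes (hx.pow_right k) h3 h4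
  exact orderOf_eq_one_iff.1 h5

/-- A finite group all of whose `p'`-elements are trivial is a `p`-group (subgroup form). -/
theorem isPGroup_of_forall_coprime_eq_one [Finite G] [Fact p.Prime] (L : Subgroup G)
    (h : ∀ g ∈ L, (orderOf g).Coprime p → g = 1) : IsPGroup p ↥L := by
  have hp : p.Prime := Fact.out
  intro g
  obtain ⟨e, m, hm, hn⟩ :=
    Nat.exists_eq_pow_mul_and_not_dvd (orderOf_pos (g : G)).ne' p hp.ne_one
  refine ⟨e, ?_⟩
  have h0 : orderOf ((g : G) ^ (p ^ e)) = m := by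
    rw [orderOf_pow' _ (pow_ne_zero _ hp.ne_zero), hn]
    have h1 : (p ^ e * m).gcd (p ^ e) = p ^ e := Nat.gcd_eq_right (Dvd.intro _ rfl)
    rw [h1, Nat.mul_div_cancel_left _ (pow_pos hp.pos _)]
  have h2 : (g : G) ^ (p ^ e) = 1 := by
    apply h _ (Subgroup.pow_mem _ g.2 _)
    rw [h0]
    exact ((Nat.Prime.coprime_iff_not_dvd hp).2 hm).symm
  exact Subtype.ext (by simpa using h2)

/-- An element that is both a `p`-element and a `p'`-element is trivial. -/
theorem eq_one_of_coprime_of_pow_eq_one {x : G} (hx : (orderOf x).Coprime p)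
    {k : ℕ} (hk : x ^ (p ^ k) = 1) : x = 1 := by
  have h4 : orderOf x ∣ p ^ k := orderOf_dvd_of_pow_eq_one hk
  have h5 : orderOf x = 1 := Nat.eq_one_of_dvd_coprimes (hx.pow_right k) dvd_rfl h4
  exact orderOf_eq_one_iff.1 h5

/-- Stability-chain lemma: a `p'`-element `x` stabilising a chain `B 0 = ⊥ ≤ B 1 ≤ ...` of
`p`-subgroups (in the sense `⁅B (i+1), x⁆ ⊆ B i`) centralises every term. -/
theorem commutator_eq_one_of_chain (x : G) (hx : (orderOf x).Coprime p)
    (B : ℕ → Subgroup G) (h0 : B 0 = ⊥)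
    (hstep : ∀ i, ∀ a ∈ B (i + 1), ⁅a, x⁆ ∈ B i)
    (hp : ∀ i, ∀ a ∈ B i, ∃ k : ℕ, a ^ (p ^ k) = 1) :
    ∀ i, ∀ a ∈ B i, ⁅a, x⁆ = 1 := by
  intro i
  induction i with
  | zero =>
    intro a ha
    rw [h0, Subgroup.mem_bot] at ha
    simp [ha, commutatorElement_def]
  | succ i ih =>
    intro a ha
    have hc := hstep i a ha
    apply commutatorElement_eq_one_of_coprime (p := p) a x _ (hp i _ hc) hx
    have := ih _ hc
    rw [commutatorElement_eq_one_iff_commute] at this
    exact this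

end Cfsg.Agent.Lib.Helper54
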