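import Mathlib

/-!
# K-OEl-K0 (keystone 598812, architect helper49), abstract part: anisotropic pairs by line counting

`X` a finite vector space over a finite field `F` with a quadratic form `R`.  Counting the singular points on the affine lines
`w + F u` gives `2 * #AP` in terms of `Z = #{R = 0}`, `|X|` and the size of the hyperplanes `x^⊥`.
-/

set_option autoImplicit false
set_option linter.unusedSectionVars false
set_option linter.unusedVariables false

namespace Cfsg.Agent.Lib.Helper54.OEl

open Classical in
/-- integer indicator of a proposition -/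
noncomputable def ind (p : Prop) : ℤ := if p then 1 else 0

theorem ind_true {p : Prop} (h : p) : ind p = 1 := by
  unfold ind; exact if_pos h

theorem ind_false {p : Prop} (h : ¬ p) : ind p = 0 := by
  unfold ind; exact if_neg h

theorem ind_and (p q : Prop) : ind (p ∧ q) = ind p * ind q := by
  by_cases hp : p <;> by_cases hq : q
  · rw [ind_true hp, ind_true hq, ind_true ⟨hp, hq⟩]; ring
  · rw [ind_true hp, ind_false hq, ind_false (fun h => hq h.2)]; ring
  · rw [ind_false hp, ind_true hq, ind_false (fun h => hp h.1)]; ring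
  · rw [ind_false hp, ind_false hq, ind_false (fun h => hp h.1)]; ring

theorem ind_not (p : Prop) : ind (¬ p) = 1 - ind p := by
  by_cases hp : p
  · rw [ind_true hp, ind_false (not_not.mpr hp)]; ring
  · rw [ind_false hp, ind_true hp]; ring

theorem ind_congr {p q : Prop} (h : p ↔ q) : ind p = ind q := by
  rw [propext h]

theorem sum_ind_eq_card {α : Type*} [Fintype α] (p : α → Prop) :
    ∑ x : α, ind (p x) = (Nat.card {x : α // p x} : ℤ) := by
  classical
  rw [Nat.card_eq_fintype_card, Fintype.card_subtype, Finset.card_filter]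
  push_cast
  refine Finset.sum_congr rfl fun x _ => ?_
  by_cases h : p x
  · rw [ind_true h, if_pos h]
  · rw [ind_false h, if_neg h]

theorem sum_ind_eq {α : Type*} [Fintype α] (a : α) : ∑ s : α, ind (s = a) = 1 := by
  rw [Finset.sum_eq_single a]
  · exact ind_true rfl
  · intro b _ hb; exact ind_false hb
  · intro h; exact absurd (Finset.mem_univ a) h

section Abstract

variable {F : Type*} [Field F] [Fintype F] {X : Type*} [AddCommGroup X] [Module F X] [Fintype X]

theorem sum_const_ind (p : Prop) : ∑ _s : F, ind p = (Fintype.card F : ℤ) * ind p := by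
  rw [Finset.sum_const, Finset.card_univ]; simp

theorem sum_shift (u : X) (f : X → F → ℤ) :
    ∑ w : X, ∑ s : F, f (w + s • u) s = ∑ z : X, ∑ s : F, f z s := by
  rw [Finset.sum_comm]
  conv_rhs => rw [Finset.sum_comm]
  refine Finset.sum_congr rfl fun s _ => ?_
  exact Equiv.sum_comp (Equiv.addRight (s • u)) (fun z => f z s)

theorem R_add_smul (R : QuadraticForm F X) (w u : X) (s : F) :
    R (w + s • u) = R w + s * QuadraticMap.polar R w u + s * s * R u := by
  rw [QuadraticMap.map_add R w (s • u), QuadraticMap.map_smul, QuadraticMap.polar_smul_right]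
  simp only [smul_eq_mul]; ring

theorem sum_ind_linear (a b : F) (hb : b ≠ 0) : ∑ s : F, ind (a + s * b = 0) = 1 := by
  rw [← sum_ind_eq (-a / b)]
  refine Finset.sum_congr rfl fun s _ => ?_
  apply ind_congr
  constructor
  · intro h
    field_simp
    linear_combination h
  · intro h
    rw [h]; field_simp; ring

/-- the quadratic `c + s b + s² a`, `a ≠ 0`: `2 [no root] + #roots + #double roots = 2` -/
theorem quad_count (a b c : F) (ha : a ≠ 0) :
    2 * ind (∀ s : F, c + s * b + s * s * a ≠ 0) + ∑ s : F, ind (c + s * b + s * s * a = 0) +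
      ∑ s : F, ind (c + s * b + s * s * a = 0 ∧ b + s * (2 * a) = 0) = 2 := by
  by_cases h : ∃ s0 : F, c + s0 * b + s0 * s0 * a = 0
  · obtain ⟨s0, h0⟩ := h
    set s1 : F := -b / a - s0 with hs1
    have hs1' : a * s1 = -b - a * s0 := by
      rw [hs1]; field_simp
    have hfac : ∀ s : F, c + s * b + s * s * a = (s - s0) * (a * s - a * s1) := by
      intro s
      rw [hs1']
      linear_combination h0
    have hroot : ∀ s : F, c + s * b + s * s * a = 0 ↔ s = s0 ∨ s = s1 := by
      intro s
      rw [hfac, mul_eq_zero, sub_eq_zero, ← mul_sub, mul_eq_zero, sub_eq_zero]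
      constructor
      · rintro (h | h | h)
        · exact Or.inl h
        · exact absurd h ha
        · exact Or.inr h
      · rintro (h | h)
        · exact Or.inl h
        · exact Or.inr (Or.inr h)
    have hd0 : b + s0 * (2 * a) = a * s0 - a * s1 := by rw [hs1']; ring
    have hd1 : b + s1 * (2 * a) = a * s1 - a * s0 := by
      have : s1 * (2 * a) = 2 * (a * s1) := by ring
      rw [this, hs1']; ring
    have hno : ind (∀ s : F, c + s * b + s * s * a ≠ 0) = 0 := ind_false (fun hall => hall s0 h0)
    rw [hno]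
    by_cases h01 : s0 = s1
    · have e1 : ∀ s : F, ind (c + s * b + s * s * a = 0) = ind (s = s0) := by
        intro s
        apply ind_congr
        rw [hroot, ← h01, or_self]
      have e2 : ∀ s : F, ind (c + s * b + s * s * a = 0 ∧ b + s * (2 * a) = 0) = ind (s = s0) := by
        intro s
        apply ind_congr
        rw [hroot, ← h01, or_self]
        constructor
        · exact fun h => h.1
        · intro h
          refine ⟨h, ?_⟩
          rw [h, hd0, ← h01]; ring
      simp only [e1, e2, sum_ind_eq]; ring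
    · have e1 : ∀ s : F, ind (c + s * b + s * s * a = 0) = ind (s = s0) + ind (s = s1) := by
        intro s
        by_cases hs0 : s = s0
        · have : s ≠ s1 := fun h => h01 (hs0.symm.trans h)
          rw [ind_true hs0, ind_false this, ind_true ((hroot s).mpr (Or.inl hs0))]; ring
        · by_cases hs1 : s = s1
          · rw [ind_false hs0, ind_true hs1, ind_true ((hroot s).mpr (Or.inr hs1))]; ring
          · rw [ind_false hs0, ind_false hs1, ind_false]; · ring
            intro h
            rcases (hroot s).mp h with h | h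
            · exact hs0 h
            · exact hs1 h
      have e2 : ∀ s : F, ind (c + s * b + s * s * a = 0 ∧ b + s * (2 * a) = 0) = 0 := by
        intro s
        apply ind_false
        rintro ⟨hr, hd⟩
        rcases (hroot s).mp hr with h | h
        · rw [h, hd0, ← mul_sub, mul_eq_zero, sub_eq_zero] at hd
          rcases hd with hd | hd
          · exact ha hd
          · exact h01 hd
        · rw [h, hd1, ← mul_sub, mul_eq_zero, sub_eq_zero] at hd
          rcases hd with hd | hd
          · exact ha hd
          · exact h01 hd.symm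
      simp only [e1, e2, Finset.sum_add_distrib, sum_ind_eq, Finset.sum_const_zero]; ring
  · have hall : ∀ s : F, c + s * b + s * s * a ≠ 0 := fun s hs => h ⟨s, hs⟩
    have e1 : ∀ s : F, ind (c + s * b + s * s * a = 0) = 0 := fun s => ind_false (hall s)
    have e2 : ∀ s : F, ind (c + s * b + s * s * a = 0 ∧ b + s * (2 * a) = 0) = 0 :=
      fun s => ind_false (fun h => hall s h.1)
    rw [ind_true hall]
    simp only [e1, e2, Finset.sum_const_zero]; ring

variable (R : QuadraticForm F X)

/-- lines `w + F z` through a singular direction `z`: one singular point if `polar w z ≠ 0`, all or none otherwise -/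
theorem line_count_singular (z : X) (hz : R z = 0) :
    (Fintype.card F : ℤ) * ∑ w : X, ind (R w = 0) =
      ∑ w : X, ind (QuadraticMap.polar R w z ≠ 0) +
        (Fintype.card F : ℤ) * ∑ w : X, ind (R w = 0 ∧ QuadraticMap.polar R w z = 0) := by
  have h1 : ∑ w : X, ∑ s : F, ind (R (w + s • z) = 0) = ∑ w : X, ∑ _s : F, ind (R w = 0) :=
    sum_shift z (fun w _ => ind (R w = 0))
  have h2 : ∀ w : X, ∑ s : F, ind (R (w + s • z) = 0) =
      ind (QuadraticMap.polar R w z ≠ 0) +
        (Fintype.card F : ℤ) * ind (R w = 0 ∧ QuadraticMap.polar R w z = 0) := by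
    intro w
    have h3 : ∀ s : F, R (w + s • z) = R w + s * QuadraticMap.polar R w z := by
      intro s; rw [R_add_smul, hz]; ring
    simp only [h3]
    by_cases hb : QuadraticMap.polar R w z = 0
    · rw [hb, ind_false (not_not.mpr rfl), zero_add]
      simp only [mul_zero, add_zero]
      rw [sum_const_ind]
      congr 1
      apply ind_congr
      exact ⟨fun h => ⟨h, trivial⟩, fun h => h.1⟩
    · rw [sum_ind_linear _ _ hb, ind_true hb, ind_false (fun h => hb h.2)]; ring
  have h4 : ∑ w : X, ∑ _s : F, ind (R w = 0) = (Fintype.card F : ℤ) * ∑ w : X, ind (R w = 0) := by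
    rw [Finset.mul_sum]
    exact Finset.sum_congr rfl fun w _ => sum_const_ind _
  rw [← h4, ← h1, Finset.mul_sum, ← Finset.sum_add_distrib]
  exact Finset.sum_congr rfl fun w _ => h2 w

/-- lines `w + F u` through a nonsingular direction `u` -/
theorem line_count_nonsingular (u : X) (hu : R u ≠ 0) :
    2 * ∑ w : X, ind (∀ s : F, R (w + s • u) ≠ 0) + (Fintype.card F : ℤ) * ∑ w : X, ind (R w = 0) +
      (Fintype.card F : ℤ) * ∑ w : X, ind (R w = 0 ∧ QuadraticMap.polar R w u = 0) =
        2 * (Fintype.card X : ℤ) := by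
  have h1 : ∑ w : X, ∑ s : F, ind (R (w + s • u) = 0) = ∑ w : X, ∑ _s : F, ind (R w = 0) :=
    sum_shift u (fun w _ => ind (R w = 0))
  have h1' : ∑ w : X, ∑ s : F, ind (R (w + s • u) = 0 ∧ QuadraticMap.polar R (w + s • u) u = 0) =
      ∑ w : X, ∑ _s : F, ind (R w = 0 ∧ QuadraticMap.polar R w u = 0) :=
    sum_shift u (fun w _ => ind (R w = 0 ∧ QuadraticMap.polar R w u = 0))
  have h2 : ∀ w : X, 2 * ind (∀ s : F, R (w + s • u) ≠ 0) + ∑ s : F, ind (R (w + s • u) = 0) +
      ∑ s : F, ind (R (w + s • u) = 0 ∧ QuadraticMap.polar R (w + s • u) u = 0) = 2 := by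
    intro w
    have h3 : ∀ s : F, R (w + s • u) = R w + s * QuadraticMap.polar R w u + s * s * R u :=
      fun s => R_add_smul R w u s
    have h4 : ∀ s : F, QuadraticMap.polar R (w + s • u) u =
        QuadraticMap.polar R w u + s * (2 * R u) := by
      intro s
      rw [QuadraticMap.polar_add_left, QuadraticMap.polar_smul_left, QuadraticMap.polar_self]
      simp only [smul_eq_mul, nsmul_eq_mul, Nat.cast_ofNat]
    simp only [h3, h4]
    exact quad_count (R u) (QuadraticMap.polar R w u) (R w) hu
  have h4 : ∑ w : X, ∑ _s : F, ind (R w = 0) = (Fintype.card F : ℤ) * ∑ w : X, ind (R w = 0) := by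
    rw [Finset.mul_sum]
    exact Finset.sum_congr rfl fun w _ => sum_const_ind _
  have h4' : ∑ w : X, ∑ _s : F, ind (R w = 0 ∧ QuadraticMap.polar R w u = 0) =
      (Fintype.card F : ℤ) * ∑ w : X, ind (R w = 0 ∧ QuadraticMap.polar R w u = 0) := by
    rw [Finset.mul_sum]
    exact Finset.sum_congr rfl fun w _ => sum_const_ind _
  rw [← h4, ← h4', ← h1, ← h1', Finset.mul_sum, ← Finset.sum_add_distrib, ← Finset.sum_add_distrib]
  rw [Finset.sum_congr rfl fun w _ => h2 w]
  rw [Finset.sum_const, Finset.card_univ]; simp; ring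

/-- anisotropic pair -/
def AP' (u w : X) : Prop := ∀ s t : F, R (s • u + t • w) = 0 → s = 0 ∧ t = 0

theorem ap_iff (u w : X) : AP' R u w ↔ R u ≠ 0 ∧ ∀ s : F, R (w + s • u) ≠ 0 := by
  constructor
  · intro h
    constructor
    · intro hu
      have := h 1 0 (by rw [one_smul, zero_smul, add_zero]; exact hu)
      exact one_ne_zero this.1
    · intro s hs
      have := h s 1 (by rw [one_smul, add_comm]; exact hs)
      exact one_ne_zero this.2
  · rintro ⟨hu, hall⟩ s t hst
    by_cases ht : t = 0
    · subst ht
      rw [zero_smul, add_zero, QuadraticMap.map_smul, smul_eq_mul, mul_eq_zero, mul_self_eq_zero] at hst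
      rcases hst with hst | hst
      · exact ⟨hst, rfl⟩
      · exact absurd hst hu
    · exfalso
      have h1 : s • u + t • w = t • (w + (s / t) • u) := by
        rw [smul_add, smul_smul, mul_div_cancel₀ _ ht, add_comm]
      rw [h1, QuadraticMap.map_smul, smul_eq_mul, mul_eq_zero, mul_self_eq_zero] at hst
      rcases hst with hst | hst
      · exact ht hst
      · exact hall _ hst

/-- **the count**: `N = q N'` the size of `X`, `N'` the size of every hyperplane `x^⊥` (`x ≠ 0`), `Z` the number of singular vectors -/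
theorem two_mul_card_ap (N' : ℤ) (hN : (Fintype.card X : ℤ) = (Fintype.card F : ℤ) * N')
    (hker : ∀ x : X, x ≠ 0 → ∑ w : X, ind (QuadraticMap.polar R w x = 0) = N') (Z : ℤ)
    (hZ : ∑ w : X, ind (R w = 0) = Z) :
    2 * ∑ u : X, ∑ w : X, ind (AP' R u w) =
      ((Fintype.card F : ℤ) * N' - Z) * (2 * ((Fintype.card F : ℤ) * N') - (Fintype.card F : ℤ) * Z) -
        (Fintype.card F : ℤ) * ((Fintype.card F : ℤ) * N' - Z) -
        (Z - 1) * (2 * ((Fintype.card F : ℤ) * N') - N' - (Fintype.card F : ℤ) * Z) := by
  set q : ℤ := (Fintype.card F : ℤ) with hq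
  have hq0 : q ≠ 0 := by
    rw [hq]; exact_mod_cast Fintype.card_ne_zero
  set N : ℤ := q * N' with hNdef
  have hcard : ∑ _w : X, (1 : ℤ) = N := by
    rw [Finset.sum_const, Finset.card_univ, ← hN]; simp
  -- number of nonsingular vectors
  have hns : ∑ u : X, ind (R u ≠ 0) = N - Z := by
    rw [← hZ, ← hcard, ← Finset.sum_sub_distrib]
    exact Finset.sum_congr rfl fun u _ => ind_not _
  -- W u, Zu u
  set W : X → ℤ := fun u => ∑ w : X, ind (∀ s : F, R (w + s • u) ≠ 0) with hW
  set Zu : X → ℤ := fun u => ∑ w : X, ind (R w = 0 ∧ QuadraticMap.polar R w u = 0) with hZu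
  have hAP : ∀ u : X, ∑ w : X, ind (AP' R u w) = ind (R u ≠ 0) * W u := by
    intro u
    rw [hW, Finset.mul_sum]
    refine Finset.sum_congr rfl fun w _ => ?_
    rw [← ind_and]
    exact ind_congr (ap_iff R u w)
  have hL2 : ∀ u : X, 2 * (ind (R u ≠ 0) * W u) = ind (R u ≠ 0) * (2 * N - q * Z - q * Zu u) := by
    intro u
    by_cases hu : R u ≠ 0
    · have := line_count_nonsingular R u hu
      rw [hZ, hN] at this
      rw [ind_true hu]
      simp only [hW, hZu]
      linarith
    · rw [ind_false hu]; ring
  -- the double sum S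
  set S : ℤ := ∑ u : X, ind (R u ≠ 0) * Zu u with hS
  have h2 : 2 * ∑ u : X, ∑ w : X, ind (AP' R u w) = (2 * N - q * Z) * (N - Z) - q * S := by
    rw [Finset.mul_sum, hS, ← hns, Finset.mul_sum, Finset.mul_sum, ← Finset.sum_sub_distrib]
    refine Finset.sum_congr rfl fun u _ => ?_
    rw [hAP u, hL2 u]; ring
  -- T w
  set T : X → ℤ := fun w => ∑ u : X, ind (R u ≠ 0) * ind (QuadraticMap.polar R w u = 0) with hT
  have hST : S = ∑ w : X, ind (R w = 0) * T w := by
    rw [hS]
    simp only [hZu, hT, Finset.mul_sum]
    rw [Finset.sum_comm]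
    refine Finset.sum_congr rfl fun w _ => Finset.sum_congr rfl fun u _ => ?_
    rw [ind_and]; ring
  have hTsplit : ∀ w : X, T w = ∑ u : X, ind (QuadraticMap.polar R u w = 0) -
      ∑ u : X, ind (R u = 0 ∧ QuadraticMap.polar R u w = 0) := by
    intro w
    rw [hT, ← Finset.sum_sub_distrib]
    refine Finset.sum_congr rfl fun u _ => ?_
    rw [ind_not, ind_and, QuadraticMap.polar_comm R w u]; ring
  have hT0 : T 0 = N - Z := by
    rw [hT, ← hns]
    refine Finset.sum_congr rfl fun u _ => ?_
    rw [ind_true (QuadraticMap.polar_zero_left R u)]; ring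
  set C : ℤ := 2 * N - N' - q * Z with hC
  have hT1 : ∀ w : X, w ≠ 0 → R w = 0 → q * T w = C := by
    intro w hw0 hw
    have h3 := line_count_singular R w hw
    rw [hZ] at h3
    have h4 : ∑ u : X, ind (QuadraticMap.polar R u w ≠ 0) = N - N' := by
      rw [← hker w hw0, ← hcard, ← Finset.sum_sub_distrib]
      exact Finset.sum_congr rfl fun u _ => ind_not _
    rw [h4] at h3
    rw [hTsplit w, hker w hw0, hC, mul_sub]
    linarith
  have hqS : q * S = (q * (N - Z) - C) + Z * C := by
    rw [hST, Finset.mul_sum]
    have h5 : ∀ w : X, q * (ind (R w = 0) * T w) = ind (w = 0) * (q * (N - Z) - C) + ind (R w = 0) * C := by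
      intro w
      by_cases hw0 : w = 0
      · subst hw0
        rw [ind_true (map_zero R), ind_true rfl, hT0]; ring
      · by_cases hw : R w = 0
        · rw [ind_true hw, ind_false hw0, one_mul, hT1 w hw0 hw]; ring
        · rw [ind_false hw, ind_false hw0]; ring
    rw [Finset.sum_congr rfl fun w _ => h5 w, Finset.sum_add_distrib, ← Finset.sum_mul, ← Finset.sum_mul,
      sum_ind_eq, hZ]; ring
  -- cancel q
  apply mul_left_cancel₀ hq0
  rw [h2]
  have : q * ((2 * N - q * Z) * (N - Z) - q * S) = q * ((2 * N - q * Z) * (N - Z)) - q * (q * S) := by ring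
  rw [this, hqS, hC]
  ring

end Abstract

end Cfsg.Agent.Lib.Helper54.OEl
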