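import Mathlib
import Cfsg.Agent.Lib.Helper54.OElK0a
import Cfsg.Agent.Lib.Helper79.OTsO3
import Cfsg.Agent.Lib.Helper49.OElDefs

/-!
# K-OEl-K0 (keystone 598812, architect helper49): the number of anisotropic pairs of a nondegenerate `2 D`-space of given type,
any characteristic.  Route: line counting (`OElK0a.two_mul_card_ap`) + `Helper79.OTs.card_singular`.
-/

set_option autoImplicit false
set_option linter.unusedSectionVars false
set_option linter.unusedVariables false

namespace Cfsg.Agent.Lib.Helper54.OEl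

open Module Cfsg.Agent.Lib.Helper98.Elus Cfsg.Agent.Lib.Helper98.Sy Cfsg.Agent.Lib.Helper38.OhP
  Cfsg.Agent.Lib.Helper49.OEl

universe u
variable {F : Type u} [Field F] {V : Type u} [AddCommGroup V] [Module F V]

/-- an anisotropic pair: `u, w` span an anisotropic plane (copy of the spec definition) -/
def AP (Q : QuadraticForm F V) (u w : V) : Prop := ∀ s t : F, Q (s • u + t • w) = 0 → s = 0 ∧ t = 0

/-- the integer form of the count, in terms of `t = q^(D-1)` and the number `Z` of singular vectors -/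
theorem card_aniso_pairs_int [Fintype F] [FiniteDimensional F V] (Q : QuadraticForm F V)
    (O : Submodule F V) (hO : NonDeg (pB Q) O) (D : ℕ) (hD1 : 1 ≤ D) (hD : finrank F O = 2 * D) :
    (2 * Nat.card {p : V × V // p.1 ∈ O ∧ p.2 ∈ O ∧ AP Q p.1 p.2} : ℤ) =
      (((Fintype.card F : ℤ) * ((Fintype.card F : ℤ) ^ (2 * D - 1)) -
          ((Nat.card {x : V // x ∈ O ∧ x ≠ 0 ∧ Q x = 0} : ℤ) + 1)) *
        (2 * ((Fintype.card F : ℤ) * ((Fintype.card F : ℤ) ^ (2 * D - 1))) -
          (Fintype.card F : ℤ) * ((Nat.card {x : V // x ∈ O ∧ x ≠ 0 ∧ Q x = 0} : ℤ) + 1)) -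
        (Fintype.card F : ℤ) * ((Fintype.card F : ℤ) * ((Fintype.card F : ℤ) ^ (2 * D - 1)) -
          ((Nat.card {x : V // x ∈ O ∧ x ≠ 0 ∧ Q x = 0} : ℤ) + 1)) -
        (((Nat.card {x : V // x ∈ O ∧ x ≠ 0 ∧ Q x = 0} : ℤ) + 1) - 1) *
          (2 * ((Fintype.card F : ℤ) * ((Fintype.card F : ℤ) ^ (2 * D - 1))) -
            ((Fintype.card F : ℤ) ^ (2 * D - 1)) -
            (Fintype.card F : ℤ) * ((Nat.card {x : V // x ∈ O ∧ x ≠ 0 ∧ Q x = 0} : ℤ) + 1))) := by
  classical
  haveI : Finite V := Module.finite_of_finite F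
  haveI : Fintype O := Fintype.ofFinite O
  set R : QuadraticForm F O := Q.comp O.subtype with hR
  have hRapp : ∀ v : O, R v = Q (v : V) := fun v => rfl
  have hpol : ∀ v w : O, QuadraticMap.polar R v w = pB Q (v : V) (w : V) := by
    intro v w
    rw [pB_apply]
    simp only [QuadraticMap.polar, hRapp, Submodule.coe_add]
  -- size of `O`
  have hcardO : (Fintype.card O : ℤ) = (Fintype.card F : ℤ) * ((Fintype.card F : ℤ) ^ (2 * D - 1)) := by
    rw [Module.card_eq_pow_finrank (K := F) (V := O), hD]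
    have : 2 * D = (2 * D - 1) + 1 := by omega
    conv_lhs => rw [this, pow_succ]
    push_cast; ring
  -- hyperplanes
  have hker : ∀ x : O, x ≠ 0 → ∑ w : O, ind (QuadraticMap.polar R w x = 0) =
      ((Fintype.card F : ℤ) ^ (2 * D - 1)) := by
    intro x hx
    set φ : Module.Dual F O := (QuadraticMap.polarBilin R).flip x with hφ
    have hφapp : ∀ w : O, φ w = QuadraticMap.polar R w x := fun w => rfl
    have hφ0 : φ ≠ 0 := by
      intro h0
      apply hx
      apply Subtype.ext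
      apply hO x.1 x.2
      intro w hw
      have h1 : φ ⟨w, hw⟩ = 0 := by rw [h0]; rfl
      rw [hφapp, hpol] at h1
      rw [pB_symm]
      exact h1
    have h2 := Module.Dual.finrank_ker_add_one_of_ne_zero hφ0
    rw [hD] at h2
    have h3 : finrank F (LinearMap.ker φ) = 2 * D - 1 := by omega
    rw [sum_ind_eq_card]
    have h4 : Nat.card {w : O // QuadraticMap.polar R w x = 0} = Nat.card (LinearMap.ker φ) := by
      apply Nat.card_congr
      exact Equiv.subtypeEquivRight (fun w => by rw [LinearMap.mem_ker, hφapp])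
    rw [h4]
    haveI : Fintype (LinearMap.ker φ) := Fintype.ofFinite _
    rw [Nat.card_eq_fintype_card, Module.card_eq_pow_finrank (K := F) (V := LinearMap.ker φ), h3]
    push_cast; ring
  -- singular vectors
  have hZ : ∑ w : O, ind (R w = 0) = (Nat.card {x : V // x ∈ O ∧ x ≠ 0 ∧ Q x = 0} : ℤ) + 1 := by
    rw [sum_ind_eq_card]
    have h1 := Cfsg.Agent.Lib.Helper79.OTs.card_nonzero_zeros (X := O) (F := F) (fun v => R v)
      (map_zero R)
    have h2 : Nat.card {v : O // v ≠ 0 ∧ R v = 0} = Nat.card {x : V // x ∈ O ∧ x ≠ 0 ∧ Q x = 0} := by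
      apply Nat.card_congr
      refine
        { toFun := fun v => ⟨v.1.1, v.1.2, fun h => v.2.1 (Subtype.ext h), v.2.2⟩
          invFun := fun x => ⟨⟨x.1, x.2.1⟩, fun h => x.2.2.1 (congrArg Subtype.val h), x.2.2.2⟩
          left_inv := fun v => rfl
          right_inv := fun x => rfl }
    rw [← h2, ← h1]
    push_cast; ring
  -- anisotropic pairs
  have hAP : (Nat.card {p : V × V // p.1 ∈ O ∧ p.2 ∈ O ∧ AP Q p.1 p.2} : ℤ) =
      ∑ u : O, ∑ w : O, ind (AP' R u w) := by
    rw [← Fintype.sum_prod_type' (f := fun u w => ind (AP' R u w)), sum_ind_eq_card]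
    congr 1
    apply Nat.card_congr
    refine
      { toFun := fun p => ⟨(⟨p.1.1, p.2.1⟩, ⟨p.1.2, p.2.2.1⟩), p.2.2.2⟩
        invFun := fun p => ⟨(p.1.1.1, p.1.2.1), p.1.1.2, p.1.2.2, p.2⟩
        left_inv := fun p => rfl
        right_inv := fun p => rfl }
  have key := two_mul_card_ap R ((Fintype.card F : ℤ) ^ (2 * D - 1)) hcardO hker _ hZ
  rw [← hAP] at key
  exact key

/-- **K-OEl-K0** (598812). -/
theorem card_aniso_pairs [Fintype F] [FiniteDimensional F V] (Q : QuadraticForm F V)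
    (O : Submodule F V) (hO : NonDeg (pB Q) O) (D : ℕ) (hD1 : 1 ≤ D) (hD : finrank F O = 2 * D) :
    (PlusQ Q O → 2 * Nat.card {p : V × V // p.1 ∈ O ∧ p.2 ∈ O ∧ AP Q p.1 p.2} =
      Fintype.card F ^ (2 * D - 1) * ((Fintype.card F ^ D - 1) * (Fintype.card F ^ (D - 1) - 1)) *
        ((Fintype.card F - 1) * (Fintype.card F - 1))) ∧
    (¬ PlusQ Q O → 2 * Nat.card {p : V × V // p.1 ∈ O ∧ p.2 ∈ O ∧ AP Q p.1 p.2} =
      Fintype.card F ^ (2 * D - 1) * ((Fintype.card F ^ D + 1) * (Fintype.card F ^ (D - 1) + 1)) *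
        ((Fintype.card F - 1) * (Fintype.card F - 1))) := by
  have key := card_aniso_pairs_int Q O hO D hD1 hD
  have hcs := Cfsg.Agent.Lib.Helper79.OTs.card_singular Q O hO D hD
  obtain ⟨D', rfl⟩ : ∃ D', D = D' + 1 := ⟨D - 1, by omega⟩
  have hq1 : 1 ≤ Fintype.card F := Fintype.card_pos
  have ht1 : 1 ≤ Fintype.card F ^ D' := Nat.one_le_pow _ _ hq1
  have hqt1 : 1 ≤ Fintype.card F ^ (D' + 1) := Nat.one_le_pow _ _ hq1
  have e1 : 2 * (D' + 1) - 1 = D' + D' + 1 := by omega
  have e2 : D' + 1 - 1 = D' := by omega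
  rw [e1] at key
  rw [e2] at hcs
  simp only [e1, e2]
  constructor
  · intro hplus
    have hZ := hcs.1 hplus
    rw [hZ] at key
    apply Int.ofNat_inj.mp
    push_cast [Nat.cast_sub ht1, Nat.cast_sub hqt1, Nat.cast_sub hq1] at key ⊢
    rw [key]
    ring
  · intro hminus
    have hZ := hcs.2 hminus
    rw [hZ] at key
    apply Int.ofNat_inj.mp
    push_cast [Nat.cast_sub ht1, Nat.cast_sub hqt1, Nat.cast_sub hq1] at key ⊢
    rw [key]
    ring

/-- the same with the definition of an anisotropic pair written out -/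
theorem card_aniso_pairs' [Fintype F] [FiniteDimensional F V] (Q : QuadraticForm F V)
    (O : Submodule F V) (hO : NonDeg (pB Q) O) (D : ℕ) (hD1 : 1 ≤ D) (hD : finrank F O = 2 * D) :
    (PlusQ Q O → 2 * Nat.card {p : V × V // p.1 ∈ O ∧ p.2 ∈ O ∧
        ∀ s t : F, Q (s • p.1 + t • p.2) = 0 → s = 0 ∧ t = 0} =
      Fintype.card F ^ (2 * D - 1) * ((Fintype.card F ^ D - 1) * (Fintype.card F ^ (D - 1) - 1)) *
        ((Fintype.card F - 1) * (Fintype.card F - 1))) ∧
    (¬ PlusQ Q O → 2 * Nat.card {p : V × V // p.1 ∈ O ∧ p.2 ∈ O ∧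
        ∀ s t : F, Q (s • p.1 + t • p.2) = 0 → s = 0 ∧ t = 0} =
      Fintype.card F ^ (2 * D - 1) * ((Fintype.card F ^ D + 1) * (Fintype.card F ^ (D - 1) + 1)) *
        ((Fintype.card F - 1) * (Fintype.card F - 1))) :=
  card_aniso_pairs Q O hO D hD1 hD

end Cfsg.Agent.Lib.Helper54.OEl
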