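import Cfsg.Agent.Lib.Helper54.FStarAct
import Cfsg.Agent.Lib.Helper30.FStar

set_option autoImplicit false

namespace Cfsg.Agent.Lib.Helper54

open Cfsg
open scoped commutatorElement

variable {G : Type*} [Group G] {p : ℕ}

/-- conjugation by an element of the normaliser, as an automorphism of the subgroup -/
def normConj (H : Subgroup G) (g : G) (hg : g ∈ Subgroup.normalizer (H : Set G)) : ↥H ≃* ↥H where
  toFun x := ⟨g * x * g⁻¹, (Subgroup.mem_normalizer_iff.1 hg x).1 x.2⟩
  invFun x := ⟨g⁻¹ * x * g, by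
    have := (Subgroup.mem_normalizer_iff.1 (Subgroup.inv_mem _ hg) x).1 x.2
    simpa using this⟩
  left_inv x := Subtype.ext (by simp [mul_assoc])
  right_inv x := Subtype.ext (by simp [mul_assoc])
  map_mul' x y := Subtype.ext (by simp [mul_assoc])

theorem normConj_coe (H : Subgroup G) (g : G) (hg : g ∈ Subgroup.normalizer (H : Set G))
    (x : ↥H) : ((normConj H g hg x : ↥H) : G) = g * x * g⁻¹ := rfl

theorem map_normConj (H : Subgroup G) (g : G) (hg : g ∈ Subgroup.normalizer (H : Set G))
    (K : Subgroup ↥H) :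
    (K.map (normConj H g hg).toMonoidHom).map H.subtype =
      (K.map H.subtype).map (MulAut.conj g).toMonoidHom := by
  rw [Subgroup.map_map, Subgroup.map_map]
  congr 1

theorem map_sSup_eq {G' : Type*} [Group G'] (f : G →* G') (s : Set (Subgroup G)) :
    (sSup s).map f = sSup ((fun K => K.map f) '' s) :=
  ((Subgroup.gc_map_comap f).l_sSup).trans sSup_image.symm

/-- `O_p(G) = 1` forces `F(G)` to be a `p'`-group -/
theorem card_fitting_coprime [Finite G] [Fact p.Prime] (hO : Cfsg.pCore p G = ⊥) :
    (Nat.card ↥(Cfsg.fittingSubgroup G)).Coprime p := by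
  have hFn : (Cfsg.fittingSubgroup G).Normal := Helper30.fitting_normal
  have hnil : Group.IsNilpotent ↥(Cfsg.fittingSubgroup G) := Helper30.fitting_isNilpotent
  have htfae := (Group.isNilpotent_of_finite_tfae (G := ↥(Cfsg.fittingSubgroup G))).out 0 3
  have hall : ∀ (p : ℕ) (_hp : Fact p.Prime) (P : Sylow p ↥(Cfsg.fittingSubgroup G)),
      (↑P : Subgroup ↥(Cfsg.fittingSubgroup G)).Normal := htfae.mp hnil
  obtain ⟨Q⟩ : Nonempty (Sylow p ↥(Cfsg.fittingSubgroup G)) := inferInstance
  have hQn : (Q : Subgroup ↥(Cfsg.fittingSubgroup G)).Normal := hall p inferInstance Q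
  have hQc : (Q : Subgroup ↥(Cfsg.fittingSubgroup G)).Characteristic :=
    Q.characteristic_of_normal hQn
  have hn : ((Q : Subgroup ↥(Cfsg.fittingSubgroup G)).map
      (Cfsg.fittingSubgroup G).subtype).Normal := ConjAct.normal_of_characteristic_of_normal
  have hle : (Q : Subgroup ↥(Cfsg.fittingSubgroup G)).map (Cfsg.fittingSubgroup G).subtype ≤
      Cfsg.pCore p G := le_pCore hn (Q.2.map _)
  rw [hO, le_bot_iff, Subgroup.map_eq_bot_iff_of_injective _ (Subgroup.subtype_injective _)] at hle
  have hnd : ¬ p ∣ Nat.card ↥(Cfsg.fittingSubgroup G) := fun hd =>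
    Sylow.ne_bot_of_dvd_card Q hd hle
  exact ((Nat.Prime.coprime_iff_not_dvd Fact.out).2 hnd).symm

theorem iqs_of_isComponent {K : Subgroup G} (hK : Cfsg.IsComponent K) : IQS K :=
  ⟨(Helper30.qs_subgroup hK.2).1, (Helper30.qs_subgroup hK.2).2.2⟩

theorem iqs_map_of_isComponent {H : Subgroup G} {K : Subgroup ↥H} (hK : Cfsg.IsComponent K) :
    IQS (K.map H.subtype) := by
  have h1 : Cfsg.IsQuasisimple ↥(K.map H.subtype) :=
    Helper30.isQuasisimple_of_mulEquiv (K.equivMapOfInjective H.subtype H.subtype_injective) hK.2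
  exact ⟨(Helper30.qs_subgroup h1).1, (Helper30.qs_subgroup h1).2.2⟩

/-- the action data of a `p`-subgroup on `F*(G)` when `O_p(G) = 1` -/
theorem actData_top [Finite G] [Fact p.Prime] (hO : Cfsg.pCore p G = ⊥) {Y : Subgroup G}
    (hY : IsPGroup p ↥Y) :
    ActData p Y {K : Subgroup G | Cfsg.IsComponent K} (Cfsg.fittingSubgroup G) where
  pgroup := hY
  qs := fun K hK => iqs_of_isComponent hK
  comm := fun K hK K' hK' hne => by
    have := Helper30.component_commute hK' hK (Ne.symm hne)
    exact Subgroup.commutator_eq_bot_iff_le_centralizer.1 this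
  inv := fun K hK y _ => Helper30.isComponent_conj y hK
  commF := fun K hK => by
    have h1 : ⁅Cfsg.layer G, Cfsg.fittingSubgroup G⁆ = ⊥ := Helper30.layer_commute_fitting
    exact (Helper30.component_le_layer hK).trans
      (Subgroup.commutator_eq_bot_iff_le_centralizer.1 h1)
  normF := by
    have hFn : (Cfsg.fittingSubgroup G).Normal := Helper30.fitting_normal
    rw [Subgroup.normalizer_eq_top]; exact le_top
  cop := card_fitting_coprime hO

theorem genFitting_eq_sSup_sup :
    Cfsg.generalizedFittingSubgroup G =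
      sSup {K : Subgroup G | Cfsg.IsComponent K} ⊔ Cfsg.fittingSubgroup G := rfl

end Cfsg.Agent.Lib.Helper54
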