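import Cfsg.Agent.Lib.Helper37.G2InvDefs

/-!
# K-G2I pack (S2177), leaf B1 `good_z`: a nontrivial element `z α β γ = x₉(α) x₁₀(β) x₁₁(γ)` of the abelian
normal subgroup `Z` of `U ≤ G₂(q)`, `q` even, is conjugate to `x₉(1)` or to `x₁₁(1)`.
Mathlib only (on top of `Helper37.G2InvDefs`).
-/

set_option autoImplicit false
set_option linter.unusedSectionVars false
set_option linter.unusedVariables false

namespace Cfsg.Agent.Lib.Helper54.G2Inv

open Cfsg.Agent.Lib.Helper37.G2Inv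

/-- from a commutator relation `b a = a b c` with `c` an involution commuting with `a`: `a b a⁻¹ = b c` -/
theorem b1_conj_of_rel {G : Type*} [Group G] {a b c : G} (h : b * a = a * b * c) (hc : c⁻¹ = c)
    (hac : a * c = c * a) : a * b * a⁻¹ = b * c := by
  calc a * b * a⁻¹ = (a * b * c) * c⁻¹ * a⁻¹ := by group
    _ = (b * a) * c⁻¹ * a⁻¹ := by rw [← h]
    _ = b * (a * c) * a⁻¹ := by rw [hc]; group
    _ = b * (c * a) * a⁻¹ := by rw [hac]
    _ = b * c := by group

/-- commuting elements: conjugation is trivial -/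
theorem b1_conj_of_comm {G : Type*} [Group G] {a b : G} (h : a * b = b * a) : a * b * a⁻¹ = b := by
  rw [h]; group

/-- conjugation distributes over a triple product -/
theorem b1_conj_mul3 {G : Type*} [Group G] (a p q r : G) :
    a * (p * (q * r)) * a⁻¹ = (a * p * a⁻¹) * ((a * q * a⁻¹) * (a * r * a⁻¹)) := by group

variable {F : Type*} [Field F] [CharP F 2] {G : Type*} [Group G] (D : UData F G)

theorem b1_c79 (c a : F) : D.x 7 c * D.x 9 a * (D.x 7 c)⁻¹ = D.x 9 a * D.x 10 (c * a) :=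
  b1_conj_of_rel (D.r79 c a) (D.x_inv _ _) (D.c710 _ _)

theorem b1_c89 (c a : F) : D.x 8 c * D.x 9 a * (D.x 8 c)⁻¹ = D.x 9 a * D.x 11 (c * a) :=
  b1_conj_of_rel (D.r89 c a) (D.x_inv _ _) (D.c811 _ _)

theorem b1_c610 (c b : F) : D.x 6 c * D.x 10 b * (D.x 6 c)⁻¹ = D.x 10 b * D.x 11 (c * b) :=
  b1_conj_of_rel (D.r610 c b) (D.x_inv _ _) (D.c611 _ _)

theorem b1_z_conj7 (c α β γ : F) :
    D.x 7 c * D.z α β γ * (D.x 7 c)⁻¹ = D.z α (β + c * α) γ := by
  unfold UData.z
  rw [b1_conj_mul3, b1_c79, b1_conj_of_comm (D.c710 c β), b1_conj_of_comm (D.c711 c γ)]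
  rw [mul_assoc, ← mul_assoc (D.x 10 (c * α)), D.add, add_comm (c * α) β]

theorem b1_z_conj8 (c α β γ : F) :
    D.x 8 c * D.z α β γ * (D.x 8 c)⁻¹ = D.z α β (γ + c * α) := by
  unfold UData.z
  rw [b1_conj_mul3, b1_c89, b1_conj_of_comm (D.c810 c β), b1_conj_of_comm (D.c811 c γ)]
  rw [mul_assoc, ← mul_assoc (D.x 11 (c * α)), ← D.c1011, mul_assoc (D.x 10 β), D.add,
    add_comm (c * α) γ]

theorem b1_z_conj6 (c α β γ : F) :
    D.x 6 c * D.z α β γ * (D.x 6 c)⁻¹ = D.z α β (γ + c * β) := by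
  unfold UData.z
  rw [b1_conj_mul3, b1_conj_of_comm (D.c69 c α), b1_c610, b1_conj_of_comm (D.c611 c γ)]
  rw [mul_assoc (D.x 10 β), D.add, add_comm (c * β) γ]

/-- **LEAF B1**: nontrivial elements of `Z` are conjugate to `x₉(1)` or `x₁₁(1)`. -/
theorem good_z (α β γ : F) (h : D.z α β γ ≠ 1) : D.Good (D.z α β γ) := by
  by_cases hα : α = 0
  · by_cases hβ : β = 0
    · -- `z = x₁₁(γ)`, `γ ≠ 0`
      subst hα; subst hβ
      have hz : D.z 0 0 γ = D.x 11 γ := by
        unfold UData.z; rw [D.x_zero, D.x_zero, one_mul, one_mul]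
      have hγ : γ ≠ 0 := by
        intro h0
        apply h
        rw [hz, h0, D.x_zero]
      rw [hz]
      obtain ⟨g, hg⟩ := D.torus11 γ hγ
      exact ⟨g, Or.inl hg⟩
    · -- conjugate by `x₆(γ/β)` to `x₁₀(β)`, then to `x₁₁(β)`, then `torus11`
      subst hα
      apply D.good_of_conj (D.x 6 (γ / β))
      rw [b1_z_conj6]
      have e : γ + γ / β * β = 0 := by
        rw [div_mul_cancel₀ γ hβ]; exact CharTwo.add_self_eq_zero γ
      rw [e]
      have hz : D.z 0 β 0 = D.x 10 β := by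
        unfold UData.z; rw [D.x_zero, D.x_zero, one_mul, mul_one]
      rw [hz]
      obtain ⟨g, hg⟩ := D.w10_11 β
      apply D.good_of_conj g
      rw [hg]
      obtain ⟨g', hg'⟩ := D.torus11 β hβ
      exact ⟨g', Or.inl hg'⟩
  · -- conjugate by `x₇(β/α)` then `x₈(γ/α)` to `x₉(α)`, then `torus9`
    apply D.good_of_conj (D.x 7 (β / α))
    rw [b1_z_conj7]
    have e1 : β + β / α * α = 0 := by
      rw [div_mul_cancel₀ β hα]; exact CharTwo.add_self_eq_zero β
    rw [e1]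
    apply D.good_of_conj (D.x 8 (γ / α))
    rw [b1_z_conj8]
    have e2 : γ + γ / α * α = 0 := by
      rw [div_mul_cancel₀ γ hα]; exact CharTwo.add_self_eq_zero γ
    rw [e2]
    have hz : D.z α 0 0 = D.x 9 α := by
      unfold UData.z; rw [D.x_zero, D.x_zero, mul_one, mul_one]
    rw [hz]
    obtain ⟨g, hg⟩ := D.torus9 α hα
    exact ⟨g, Or.inr hg⟩

end Cfsg.Agent.Lib.Helper54.G2Inv
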