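import Mathlib

/-!
# Vaughan-Lee's theorem, part (A), first half: the subgroup `R_M`

For a normal subgroup `M` of `G` let `R_M` be the preimage of the centre of `G / [M, M]`.
* `mem_RM`: if `M` has prime index, `u ∈ M`, `v ∉ M` and `u v = v u` then `u ∈ R_M`.
* `card_RM`: in a finite `p`-group, if `[M, M] < G'` then `p ^ 2 * |R_M| ≤ |G|`.
* `card_diff_le`: `p * #(R ∖ M₀) ≤ (p - 1) * |R|` for a subgroup `M₀` of index `p`.
-/

set_option autoImplicit false

namespace Cfsg.Agent.Lib.Helper54.VLReg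

open scoped commutatorElement

variable {G : Type*} [Group G]

/-- the preimage of the centre of `G / [M, M]` -/
def RM (M : Subgroup G) [M.Normal] : Subgroup G :=
  (Subgroup.center (G ⧸ ⁅M, M⁆)).comap (QuotientGroup.mk' ⁅M, M⁆)

theorem mem_RM_iff (M : Subgroup G) [M.Normal] (u : G) :
    u ∈ RM M ↔ ∀ g : G, ⁅u⁻¹, g⁻¹⁆ ∈ ⁅M, M⁆ := by
  unfold RM
  rw [Subgroup.mem_comap, Subgroup.mem_center_iff]
  constructor
  · intro h g
    have h1 := h (QuotientGroup.mk' ⁅M, M⁆ g)
    simp only [QuotientGroup.mk'_apply] at h1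
    rw [← QuotientGroup.mk_mul, ← QuotientGroup.mk_mul, QuotientGroup.eq] at h1
    have e : (g * u)⁻¹ * (u * g) = ⁅u⁻¹, g⁻¹⁆ := by
      rw [commutatorElement_def]; group
    rw [e] at h1
    exact h1
  · intro h q
    induction q using QuotientGroup.induction_on with
    | H g =>
      simp only [QuotientGroup.mk'_apply]
      rw [← QuotientGroup.mk_mul, ← QuotientGroup.mk_mul, QuotientGroup.eq]
      have e : (g * u)⁻¹ * (u * g) = ⁅u⁻¹, g⁻¹⁆ := by
        rw [commutatorElement_def]; group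
      rw [e]
      exact h g

/-- an element of `M` commuting with an element outside `M` lies in `R_M` (`M` of prime index) -/
theorem mem_RM {p : ℕ} [hp : Fact p.Prime] (M : Subgroup G) [M.Normal] (hM : M.index = p)
    {u v : G} (hu : u ∈ M) (hv : v ∉ M) (huv : u * v = v * u) : u ∈ RM M := by
  rw [mem_RM_iff]
  intro g
  -- write `g = v ^ k * m`
  have hcard : Nat.card (G ⧸ M) = p := by
    rw [← hM]; rfl
  have hv1 : (QuotientGroup.mk v : G ⧸ M) ≠ 1 := by
    intro h
    exact hv ((QuotientGroup.eq_one_iff v).mp h)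
  have htop := zpowers_eq_top_of_prime_card hcard hv1
  have hg : (QuotientGroup.mk g : G ⧸ M) ∈ Subgroup.zpowers (QuotientGroup.mk v : G ⧸ M) := by
    rw [htop]; exact Subgroup.mem_top _
  obtain ⟨k, hk⟩ := Subgroup.mem_zpowers_iff.mp hg
  have hm : (v ^ k)⁻¹ * g ∈ M := by
    rw [← QuotientGroup.eq]
    rw [← hk]; simp
  set m := (v ^ k)⁻¹ * g with hmdef
  have hgm : g = v ^ k * m := by rw [hmdef]; group
  have hcomm : Commute u (v ^ k) := (show Commute u v from huv).zpow_right k
  have hcomm' : Commute u⁻¹ (v ^ k)⁻¹ := hcomm.inv_inv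
  have e : ⁅u⁻¹, g⁻¹⁆ = ⁅u⁻¹, m⁻¹⁆ := by
    rw [hgm, commutatorElement_def, commutatorElement_def]
    have h1 : u⁻¹ * (v ^ k * m)⁻¹ * u⁻¹⁻¹ * (v ^ k * m)⁻¹⁻¹
        = u⁻¹ * m⁻¹ * ((v ^ k)⁻¹ * u) * (v ^ k) * m := by group
    have h2 : (v ^ k)⁻¹ * u = u * (v ^ k)⁻¹ := by
      have := hcomm.inv_right
      exact this.eq.symm
    rw [h1, h2]; group
  rw [e]
  exact Subgroup.commutator_mem_commutator (M.inv_mem hu) (M.inv_mem hm)

/-- `p ^ 2 * |R_M| ≤ |G|` when `G / [M, M]` is not abelian -/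
theorem card_RM [Finite G] {p : ℕ} [hp : Fact p.Prime] (hG : IsPGroup p G) (M : Subgroup G)
    [M.Normal] (hlt : ⁅M, M⁆ < commutator G) : p ^ 2 * Nat.card (RM M) ≤ Nat.card G := by
  set D : Subgroup G := ⁅M, M⁆ with hD
  have hidx : (RM M).index = (Subgroup.center (G ⧸ D)).index := by
    unfold RM
    exact Subgroup.index_comap_of_surjective _ (QuotientGroup.mk'_surjective D)
  have hQ : IsPGroup p (G ⧸ D) := hG.to_quotient D
  obtain ⟨k, hk⟩ := hQ.index (Subgroup.center (G ⧸ D))
  have hnc : ¬ IsMulCommutative (G ⧸ D) := by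
    intro h
    have := Subgroup.Normal.quotient_commutative_iff_commutator_le.mp h
    exact absurd this (not_le_of_gt hlt)
  have hk2 : 2 ≤ k := by
    by_contra hcon
    push_neg at hcon
    interval_cases k
    · -- centre everything
      rw [pow_zero, Subgroup.index_eq_one] at hk
      apply hnc
      constructor; constructor
      intro a b
      have ha : a ∈ Subgroup.center (G ⧸ D) := by rw [hk]; exact Subgroup.mem_top _
      exact ((Subgroup.mem_center_iff.mp ha) b).symm
    · rw [pow_one] at hk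
      have hcardq : Nat.card ((G ⧸ D) ⧸ Subgroup.center (G ⧸ D)) = p := by
        rw [← hk]; rfl
      haveI : IsCyclic ((G ⧸ D) ⧸ Subgroup.center (G ⧸ D)) := isCyclic_of_prime_card hcardq
      apply hnc
      exact (QuotientGroup.mk' (Subgroup.center (G ⧸ D))).isMulCommutative_of_isCyclic_of_ker_le_center
        (by rw [QuotientGroup.ker_mk'])
  have hdvd : p ^ 2 ∣ (RM M).index := by
    rw [hidx, hk]
    exact pow_dvd_pow p hk2
  obtain ⟨c, hc⟩ := hdvd
  have hmul := (RM M).card_mul_index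
  have hcpos : 0 < c := by
    rcases Nat.eq_zero_or_pos c with h | h
    · rw [h, mul_zero] at hc
      exact absurd hc (Subgroup.index_ne_zero_of_finite)
    · exact h
  calc p ^ 2 * Nat.card (RM M) ≤ p ^ 2 * Nat.card (RM M) * c := Nat.le_mul_of_pos_right _ hcpos
    _ = Nat.card (RM M) * (p ^ 2 * c) := by ring
    _ = Nat.card G := by rw [← hc, hmul]

end Cfsg.Agent.Lib.Helper54.VLReg
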