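import Mathlib
import Cfsg.Agent.Lib.Helper54.VLRegA
import Cfsg.Agent.Lib.Helper03.PGroupFrattini

/-!
# Vaughan-Lee's theorem, part (A), second half: separating homomorphisms and fibre counts
-/

set_option autoImplicit false

namespace Cfsg.Agent.Lib.Helper54.VLReg

open scoped commutatorElement

variable {G : Type*} [Group G]

/-- evaluation at `u` as a homomorphism on `G →* N` -/
def evalHom {N : Type*} [CommGroup N] (u : G) : (G →* N) →* N where
  toFun f := f u
  map_one' := rfl
  map_mul' _ _ := rfl

@[simp] theorem evalHom_apply {N : Type*} [CommGroup N] (u : G) (f : G →* N) :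
    evalHom u f = f u := rfl

/-- `p * #(R ∖ M₀) ≤ (p - 1) * |R|` for a subgroup `M₀` of index `p`. -/
theorem card_diff_le [Finite G] {p : ℕ} (hp1 : 1 ≤ p) (R M₀ : Subgroup G) (hM₀ : M₀.index = p) :
    p * Nat.card {u : G // u ∈ R ∧ u ∉ M₀} ≤ (p - 1) * Nat.card R := by
  classical
  have h1 : Nat.card (R ⊓ M₀ : Subgroup G) * M₀.relIndex R = Nat.card R := by
    have := Subgroup.relIndex_mul_relIndex (H := (⊥ : Subgroup G)) (K := R ⊓ M₀) (L := R) bot_le inf_le_left
    rw [Subgroup.relIndex_bot_left, Subgroup.relIndex_bot_left, Subgroup.inf_relIndex_left] at this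
    exact this
  have hp0 : p ≠ 0 := by omega
  have h2 : M₀.relIndex R ≤ p := by
    have := Subgroup.relIndex_le_of_le_right (H := M₀) (K := R) (L := ⊤) le_top
      (by rw [Subgroup.relIndex_top_right, hM₀]; exact hp0)
    rwa [Subgroup.relIndex_top_right, hM₀] at this
  -- partition of `R`
  have h3 : Nat.card {u : G // u ∈ R ∧ u ∉ M₀} + Nat.card (R ⊓ M₀ : Subgroup G) = Nat.card R := by
    haveI : Fintype G := Fintype.ofFinite G
    rw [Nat.card_eq_fintype_card, Nat.card_eq_fintype_card, Nat.card_eq_fintype_card]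
    rw [Fintype.card_subtype, Fintype.card_subtype, Fintype.card_subtype]
    have hdisj : Disjoint (Finset.univ.filter (fun u : G => u ∈ R ∧ u ∉ M₀))
        (Finset.univ.filter (fun u : G => u ∈ (R ⊓ M₀ : Subgroup G))) := by
      rw [Finset.disjoint_filter]
      intro x _ hx hx'
      exact hx.2 hx'.2
    rw [← Finset.card_union_of_disjoint hdisj]
    congr 1
    ext x
    simp only [Finset.mem_union, Finset.mem_filter, Finset.mem_univ, true_and, Subgroup.mem_inf]
    constructor
    · rintro (h | h)
      · exact h.1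
      · exact h.1
    · intro h
      by_cases hx : x ∈ M₀
      · exact Or.inr ⟨h, hx⟩
      · exact Or.inl ⟨h, hx⟩
  set a := Nat.card (R ⊓ M₀ : Subgroup G)
  set b := Nat.card {u : G // u ∈ R ∧ u ∉ M₀}
  set r := Nat.card R
  have h4 : r ≤ a * p := by
    rw [← h1]; exact Nat.mul_le_mul_left a h2
  obtain ⟨q, rfl⟩ : ∃ q, p = q + 1 := ⟨p - 1, by omega⟩
  simp only [Nat.add_sub_cancel]
  have : (q + 1) * b + (q + 1) * a = (q + 1) * r := by rw [← h3]; ring
  nlinarith

/-- the separating homomorphism -/
theorem exists_sep [Finite G] {p : ℕ} [hp : Fact p.Prime] (hG : IsPGroup p G) {u v : G}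
    (hv : v ∉ Subgroup.zpowers u ⊔ frattini G) :
    ∃ f : G →* Multiplicative (ZMod p), f u = 1 ∧ f v ≠ 1 := by
  classical
  set K : Subgroup G := Subgroup.zpowers u ⊔ frattini G with hK
  have hcK : commutator G ≤ K :=
    (Cfsg.Agent.Lib.Helper03.commutator_le_frattini_of_isPGroup hG).trans le_sup_right
  haveI hKn : K.Normal := by
    constructor
    intro n hn g
    have e : g * n * g⁻¹ = ⁅g, n⁆ * n := by rw [commutatorElement_def]; group
    rw [e]
    refine K.mul_mem (hcK ?_) hn
    rw [commutator_def]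
    exact Subgroup.commutator_mem_commutator (Subgroup.mem_top g) (Subgroup.mem_top n)
  have hcomm : IsMulCommutative (G ⧸ K) :=
    Subgroup.Normal.quotient_commutative_iff_commutator_le.mpr hcK
  letI : CommGroup (G ⧸ K) :=
    { (inferInstance : Group (G ⧸ K)) with mul_comm := fun a b => hcomm.is_comm.comm a b }
  have hpow : ∀ x : Additive (G ⧸ K), p • x = 0 := by
    intro x
    induction x using Additive.rec with
    | ofMul e =>
      induction e using QuotientGroup.induction_on with
      | H g =>
        rw [← ofMul_pow]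
        have : ((g : G ⧸ K)) ^ p = 1 := by
          rw [← QuotientGroup.mk_pow, QuotientGroup.eq_one_iff]
          exact le_sup_right (a := Subgroup.zpowers u)
            (Cfsg.Agent.Lib.Helper03.pow_mem_frattini_of_isPGroup hG g)
        rw [this]; rfl
  obtain ⟨inst⟩ : Nonempty (Module (ZMod p) (Additive (G ⧸ K))) := ⟨AddCommGroup.zmodModule hpow⟩
  set vbar : Additive (G ⧸ K) := Additive.ofMul ((v : G ⧸ K)) with hvbar
  have hvne : vbar ≠ 0 := by
    intro h
    apply hv
    have h1 : ((v : G ⧸ K)) = 1 := by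
      have h2 := congrArg Additive.toMul h
      rw [hvbar] at h2
      exact h2
    exact (QuotientGroup.eq_one_iff v).mp h1
  obtain ⟨φ, hφ⟩ : ∃ φ : Additive (G ⧸ K) →ₗ[ZMod p] ZMod p, φ vbar ≠ 0 := by
    by_contra hno
    push Not at hno
    exact hvne ((Module.forall_dual_apply_eq_zero_iff (ZMod p) vbar).mp hno)
  refine ⟨{ toFun := fun g => Multiplicative.ofAdd (φ (Additive.ofMul ((g : G ⧸ K)))),
            map_one' := ?_, map_mul' := ?_ }, ?_, ?_⟩
  · show Multiplicative.ofAdd (φ (Additive.ofMul (((1 : G) : G ⧸ K)))) = 1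
    rw [QuotientGroup.mk_one, ofMul_one, map_zero]; rfl
  · intro a b
    show Multiplicative.ofAdd (φ (Additive.ofMul (((a * b : G) : G ⧸ K)))) = _
    rw [QuotientGroup.mk_mul, ofMul_mul, map_add, ofAdd_add]
  · show Multiplicative.ofAdd (φ (Additive.ofMul ((u : G ⧸ K)))) = 1
    have : ((u : G ⧸ K)) = 1 := by
      rw [QuotientGroup.eq_one_iff]
      exact le_sup_left (b := frattini G) (Subgroup.mem_zpowers u)
    rw [this, ofMul_one, map_zero]; rfl
  · show Multiplicative.ofAdd (φ vbar) ≠ 1
    intro h
    apply hφ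
    have := congrArg Multiplicative.toAdd h
    simpa using this

end Cfsg.Agent.Lib.Helper54.VLReg
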