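import Mathlib
import Cfsg.Agent.Lib.Helper54.VLRegB

/-!
# Vaughan-Lee's theorem, part (A): fibre count for homomorphisms to `ZMod p`
-/

set_option autoImplicit false

namespace Cfsg.Agent.Lib.Helper54.VLReg

variable {G : Type*} [Group G]

/-- a nonzero homomorphism to a group of prime order has kernel of index `p` -/
theorem index_ker_of_ne_one {p : ℕ} [hp : Fact p.Prime] (f : G →* Multiplicative (ZMod p))
    (hf : f ≠ 1) : f.ker.index = p := by
  rw [Subgroup.index_ker]
  have hcard : Nat.card (Multiplicative (ZMod p)) = p := by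
    rw [Nat.card_congr (Multiplicative.toAdd : Multiplicative (ZMod p) ≃ ZMod p), Nat.card_zmod]
  have hdvd : Nat.card f.range ∣ p := by
    have := Subgroup.card_subgroup_dvd_card f.range
    rwa [hcard] at this
  rcases (Nat.dvd_prime hp.out).mp hdvd with h | h
  · exfalso
    apply hf
    ext g
    have hbot : f.range = ⊥ := Subgroup.card_eq_one.mp h
    have : f g ∈ f.range := ⟨g, rfl⟩
    rw [hbot, Subgroup.mem_bot] at this
    rw [this]; rfl
  · exact h

/-- the index of the kernel of a homomorphism to a group of order `p` is at most `p` -/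
theorem index_ker_le {A : Type*} [Group A] {p : ℕ} [hp : Fact p.Prime]
    (e : A →* Multiplicative (ZMod p)) : e.ker.index ∣ p := by
  rw [Subgroup.index_ker]
  have hcard : Nat.card (Multiplicative (ZMod p)) = p := by
    rw [Nat.card_congr (Multiplicative.toAdd : Multiplicative (ZMod p) ≃ ZMod p), Nat.card_zmod]
  have := Subgroup.card_subgroup_dvd_card e.range
  rwa [hcard] at this

/-- fibre count: if some `f` has `f u = 1`, `f v ≠ 1`, then at least `(p-1)/p²` of all
homomorphisms do. -/
theorem card_sep_ge [Finite G] {p : ℕ} [hp : Fact p.Prime] (u v : G)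
    (hex : ∃ f : G →* Multiplicative (ZMod p), f u = 1 ∧ f v ≠ 1) :
    (p - 1) * Nat.card (G →* Multiplicative (ZMod p)) ≤
      p ^ 2 * Nat.card {f : G →* Multiplicative (ZMod p) // f u = 1 ∧ f v ≠ 1} := by
  classical
  set A := G →* Multiplicative (ZMod p) with hA
  haveI : Finite A := DFunLike.finite A
  set Au : Subgroup A := (evalHom (N := Multiplicative (ZMod p)) u).ker with hAu
  set Av : Subgroup A := (evalHom (N := Multiplicative (ZMod p)) v).ker with hAv
  have hp0 : p ≠ 0 := hp.out.ne_zero
  -- `|A| ≤ p |A_u|`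
  have h1 : Nat.card A ≤ Nat.card Au * p := by
    rw [← Au.card_mul_index]
    exact Nat.mul_le_mul_left _ (Nat.le_of_dvd hp.out.pos (index_ker_le _))
  -- `|A_u| = p |A_u ⊓ A_v|`
  have h2 : Nat.card (Au ⊓ Av : Subgroup A) * Av.relIndex Au = Nat.card Au := by
    have := Subgroup.relIndex_mul_relIndex (H := (⊥ : Subgroup A)) (K := Au ⊓ Av) (L := Au)
      bot_le inf_le_left
    rw [Subgroup.relIndex_bot_left, Subgroup.relIndex_bot_left, Subgroup.inf_relIndex_left] at this
    exact this
  have h3 : Av.relIndex Au = p := by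
    have hdvd : Av.relIndex Au ∣ p :=
      (Subgroup.relIndex_dvd_index_of_normal Av Au).trans (index_ker_le _)
    rcases (Nat.dvd_prime hp.out).mp hdvd with h | h
    · exfalso
      obtain ⟨f, hfu, hfv⟩ := hex
      have hle : Au ≤ Av := Subgroup.relIndex_eq_one.mp h
      have hfAu : f ∈ Au := by
        rw [hAu, MonoidHom.mem_ker]; exact hfu
      have := hle hfAu
      rw [hAv, MonoidHom.mem_ker] at this
      exact hfv this
    · exact h
  -- partition of `A_u`
  have h4 : Nat.card {f : A // f u = 1 ∧ f v ≠ 1} + Nat.card (Au ⊓ Av : Subgroup A) = Nat.card Au := by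
    haveI : Fintype A := Fintype.ofFinite A
    rw [Nat.card_eq_fintype_card, Nat.card_eq_fintype_card, Nat.card_eq_fintype_card]
    rw [Fintype.card_subtype, Fintype.card_subtype, Fintype.card_subtype]
    have hdisj : Disjoint (Finset.univ.filter (fun f : A => f u = 1 ∧ f v ≠ 1))
        (Finset.univ.filter (fun f : A => f ∈ (Au ⊓ Av : Subgroup A))) := by
      rw [Finset.disjoint_filter]
      intro x _ hx hx'
      apply hx.2
      have hxv : x ∈ Av := hx'.2
      rw [hAv, MonoidHom.mem_ker] at hxv
      exact hxv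
    rw [← Finset.card_union_of_disjoint hdisj]
    congr 1
    ext x
    simp only [Finset.mem_union, Finset.mem_filter, Finset.mem_univ, true_and, Subgroup.mem_inf]
    constructor
    · rintro (h | h)
      · rw [hAu, MonoidHom.mem_ker]; exact h.1
      · exact h.1
    · intro h
      have hxu : x u = 1 := by
        rw [hAu, MonoidHom.mem_ker] at h; exact h
      by_cases hx : x v = 1
      · right
        refine ⟨h, ?_⟩
        rw [hAv, MonoidHom.mem_ker]; exact hx
      · left
        exact ⟨hxu, hx⟩
  set a := Nat.card (Au ⊓ Av : Subgroup A)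
  set c := Nat.card {f : A // f u = 1 ∧ f v ≠ 1}
  set au := Nat.card Au
  set n := Nat.card A
  rw [h3] at h2
  obtain ⟨q, hq⟩ : ∃ q, p = q + 1 := ⟨p - 1, by have := hp.out.pos; omega⟩
  have hq1 : p - 1 = q := by omega
  rw [hq1]
  -- `c = q * a`, `au = a * p`, `n ≤ au * p`
  have hc : c = q * a := by
    have : c + a = a * (q + 1) := by rw [h4, ← h2, hq]
    nlinarith
  rw [hc]
  calc q * n ≤ q * (au * p) := Nat.mul_le_mul_left q h1
    _ = q * (a * p * p) := by rw [← h2]
    _ = p ^ 2 * (q * a) := by ring

end Cfsg.Agent.Lib.Helper54.VLReg
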