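import Mathlib
import Cfsg.Agent.Lib.Helper54.VLRegC

/-!
# Vaughan-Lee's theorem, part (A): regular elements exist outside every maximal subgroup

Let `G` be a finite `p`-group in which every subgroup `M` of index `p` has `[M, M] < G'`.
Then for every subgroup `M₀` of index `p` there is an element `u ∉ M₀` which is *regular*:
`C_G(u) ≤ ⟨u⟩ Φ(G)`.  The proof is a double count over pairs `(u, f)` with
`f : G →* ZMod p` a nonzero homomorphism and `u ∈ R_{ker f} ∖ M₀`.
-/

set_option autoImplicit false

namespace Cfsg.Agent.Lib.Helper54.VLReg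

open scoped commutatorElement

variable {G : Type*} [Group G]

set_option maxHeartbeats 800000 in
theorem exists_regular_not_mem [Finite G] {p : ℕ} [hp : Fact p.Prime] (hG : IsPGroup p G)
    (hmin : ∀ M : Subgroup G, M.index = p → ⁅M, M⁆ < commutator G)
    (M₀ : Subgroup G) (hM₀ : M₀.index = p) :
    ∃ u : G, u ∉ M₀ ∧
      Subgroup.centralizer ({u} : Set G) ≤ Subgroup.zpowers u ⊔ frattini G := by
  classical
  by_contra hcon
  push Not at hcon
  set A := G →* Multiplicative (ZMod p) with hA
  haveI : Finite A := DFunLike.finite A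
  haveI : Fintype A := Fintype.ofFinite A
  haveI : Fintype G := Fintype.ofFinite G
  obtain ⟨q, hq⟩ : ∃ q, p = q + 1 := ⟨p - 1, by have := hp.out.pos; omega⟩
  have hq1 : p - 1 = q := by omega
  have hqpos : 1 ≤ q := by have := hp.out.two_le; omega
  -- the relation
  let P : G → A → Prop := fun u f => u ∉ M₀ ∧ f ≠ 1 ∧ u ∈ RM f.ker
  let cntU : G → ℕ := fun u => (Finset.univ.filter (fun f : A => P u f)).card
  let cntF : A → ℕ := fun f => (Finset.univ.filter (fun u : G => P u f)).card
  have hdouble : ∑ u : G, cntU u = ∑ f : A, cntF f := by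
    simp only [cntU, cntF, Finset.card_filter]
    exact Finset.sum_comm
  -- lower bound for `u ∉ M₀`
  have hlow : ∀ u : G, u ∉ M₀ → q * Nat.card A ≤ p ^ 2 * cntU u := by
    intro u hu
    obtain ⟨v, hvc, hvK⟩ := SetLike.not_le_iff_exists.mp (hcon u hu)
    have huv : u * v = v * u := by
      have := Subgroup.mem_centralizer_iff.mp hvc u (Set.mem_singleton u)
      exact this
    have hex := exists_sep hG hvK
    have h1 := card_sep_ge u v hex
    rw [hq1] at h1
    refine h1.trans (Nat.mul_le_mul_left _ ?_)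
    rw [Nat.card_eq_fintype_card, Fintype.card_subtype]
    apply Finset.card_le_card
    intro f hf
    rw [Finset.mem_filter] at hf ⊢
    refine ⟨Finset.mem_univ _, hu, ?_, ?_⟩
    · intro h1
      apply hf.2.2
      rw [h1]; rfl
    · have hne : f ≠ 1 := by
        intro h1
        apply hf.2.2
        rw [h1]; rfl
      exact mem_RM f.ker (index_ker_of_ne_one f hne) (MonoidHom.mem_ker.mpr hf.2.1)
        (fun h => hf.2.2 (MonoidHom.mem_ker.mp h)) huv
  -- upper bound for `f ≠ 1`
  have hupp : ∀ f : A, f ≠ 1 → p ^ 3 * cntF f ≤ q * Nat.card G := by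
    intro f hf
    have hidx := index_ker_of_ne_one f hf
    have h1 := card_RM hG f.ker (hmin f.ker hidx)
    have h2 := card_diff_le hp.out.one_le (RM f.ker) M₀ hM₀
    rw [hq1] at h2
    have h3 : cntF f ≤ Nat.card {u : G // u ∈ RM f.ker ∧ u ∉ M₀} := by
      rw [Nat.card_eq_fintype_card, Fintype.card_subtype]
      apply Finset.card_le_card
      intro u hu
      rw [Finset.mem_filter] at hu ⊢
      exact ⟨Finset.mem_univ _, hu.2.2.2, hu.2.1⟩
    calc p ^ 3 * cntF f ≤ p ^ 3 * Nat.card {u : G // u ∈ RM f.ker ∧ u ∉ M₀} :=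
          Nat.mul_le_mul_left _ h3
      _ = p ^ 2 * (p * Nat.card {u : G // u ∈ RM f.ker ∧ u ∉ M₀}) := by ring
      _ ≤ p ^ 2 * (q * Nat.card (RM f.ker)) := Nat.mul_le_mul_left _ h2
      _ = q * (p ^ 2 * Nat.card (RM f.ker)) := by ring
      _ ≤ q * Nat.card G := Nat.mul_le_mul_left _ h1
  have hzero : ∀ f : A, f = 1 → cntF f = 0 := by
    intro f hf
    simp only [cntF, P]
    rw [Finset.card_eq_zero, Finset.filter_eq_empty_iff]
    intro u _ h
    exact h.2.1 hf
  -- sums
  have hsumF : p ^ 3 * ∑ f : A, cntF f ≤ (Nat.card A - 1) * (q * Nat.card G) := by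
    rw [Finset.mul_sum]
    have h1 : ∑ f : A, p ^ 3 * cntF f
        ≤ ∑ f : A, if f = 1 then 0 else q * Nat.card G := by
      apply Finset.sum_le_sum
      intro f _
      by_cases hf : f = 1
      · rw [if_pos hf, hzero f hf, mul_zero]
      · rw [if_neg hf]; exact hupp f hf
    refine h1.trans ?_
    rw [Finset.sum_ite, Finset.sum_const_zero, zero_add, Finset.sum_const, smul_eq_mul]
    apply Nat.mul_le_mul_right
    rw [Finset.filter_not, Finset.card_sdiff_of_subset (Finset.subset_univ _)]
    rw [Finset.filter_eq', if_pos (Finset.mem_univ _), Finset.card_singleton, Finset.card_univ,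
      Nat.card_eq_fintype_card]
  -- number of elements outside `M₀`
  have hout : (Finset.univ.filter (fun u : G => u ∉ M₀)).card * p = q * Nat.card G := by
    have h1 := M₀.card_mul_index
    rw [hM₀] at h1
    have h2 : (Finset.univ.filter (fun u : G => u ∉ M₀)).card + Nat.card M₀ = Nat.card G := by
      rw [Nat.card_eq_fintype_card, Nat.card_eq_fintype_card, Fintype.card_subtype]
      have := Finset.card_filter_add_card_filter_not (s := (Finset.univ : Finset G))
        (fun u : G => u ∈ M₀)
      rw [Finset.card_univ] at this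
      rw [← this]; ring
    rw [← h1, hq] at h2 ⊢
    nlinarith
  have hsumU : q * Nat.card G * (q * Nat.card A) ≤ p ^ 3 * ∑ u : G, cntU u := by
    have h1 : ∑ u : G, (if u ∉ M₀ then q * Nat.card A else 0) ≤ ∑ u : G, p ^ 2 * cntU u := by
      apply Finset.sum_le_sum
      intro u _
      by_cases hu : u ∉ M₀
      · rw [if_pos hu]; exact hlow u hu
      · rw [if_neg hu]; exact Nat.zero_le _
    rw [Finset.sum_ite, Finset.sum_const_zero, add_zero, Finset.sum_const, smul_eq_mul,
      ← Finset.mul_sum] at h1
    calc q * Nat.card G * (q * Nat.card A)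
        = (Finset.univ.filter (fun u : G => u ∉ M₀)).card * p * (q * Nat.card A) := by rw [hout]
      _ = p * ((Finset.univ.filter (fun u : G => u ∉ M₀)).card * (q * Nat.card A)) := by ring
      _ ≤ p * (p ^ 2 * ∑ u : G, cntU u) := Nat.mul_le_mul_left _ h1
      _ = p ^ 3 * ∑ u : G, cntU u := by ring
  rw [hdouble] at hsumU
  have hfin := hsumU.trans hsumF
  have hGpos : 0 < Nat.card G := Nat.card_pos
  have hApos : 0 < Nat.card A := Nat.card_pos
  have hqG : 0 < q * Nat.card G := Nat.mul_pos hqpos hGpos
  have h5 : q * Nat.card A ≤ Nat.card A - 1 := by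
    have : q * Nat.card G * (q * Nat.card A) ≤ q * Nat.card G * (Nat.card A - 1) := by
      rw [mul_comm (q * Nat.card G) (Nat.card A - 1)]; exact hfin
    exact Nat.le_of_mul_le_mul_left this hqG
  have h6 : Nat.card A ≤ q * Nat.card A := Nat.le_mul_of_pos_left _ hqpos
  omega

end Cfsg.Agent.Lib.Helper54.VLReg
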