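import Mathlib
import Cfsg.Prelude.Def_Solvable
import Cfsg.Agent.Lib.Helper75.FrobQuot

/-!
# K-GAG-G12b `frobenius_of_fpf` (keystone leaf 483915 for S4839)

A complement `H` acting fixed-point-freely on the normal subgroup `N` is a Frobenius complement
whose Frobenius kernel is exactly `N`.  Wrapper around `Helper75.FrobQuot.frob_of_complement`
(which gives the complement property and `kernel ⊆ N`) plus the easy inclusion `N ⊆ kernel`.
-/

set_option autoImplicit false

namespace Cfsg.Agent.Lib.Helper54.Gag

variable {G : Type*} [Group G] [Finite G]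

/-- G12b (HARD, standard Frobenius): a complement acting fixed-point-freely on the abelian normal
subgroup `N` is a Frobenius complement with Frobenius kernel `N`. -/
theorem frobenius_of_fpf (N : Subgroup G) [N.Normal] (hN1 : N ≠ ⊥)
    (H : Subgroup G) (hc : N.IsComplement' H) (hH1 : H ≠ ⊥)
    (hcomm : ∀ a ∈ N, ∀ b ∈ N, a * b = b * a)
    (hfpf : ∀ h ∈ H, h ≠ 1 → ∀ n ∈ N, h * n = n * h → n = 1) :
    Cfsg.IsFrobeniusComplement H ∧ Cfsg.frobeniusKernel H = (N : Set G) := by
  have hdisj : ∀ x : G, x ∈ N → x ∈ H → x = 1 := by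
    intro x hxN hxH
    have := hc.disjoint
    rw [Subgroup.disjoint_def] at this
    exact this hxN hxH
  have hN2 : N ≠ ⊤ := by
    intro hN
    apply hH1
    rw [eq_bot_iff]
    intro x hx
    rw [Subgroup.mem_bot]
    exact hdisj x (by rw [hN]; exact Subgroup.mem_top x) hx
  obtain ⟨hF, hK⟩ :=
    Cfsg.Agent.Lib.Helper75.FrobQuot.frob_of_complement N H hc hN1 hN2 hfpf
  refine ⟨hF, ?_⟩
  apply Set.Subset.antisymm
  · intro x hx
    exact hK x hx
  · intro x hx
    by_cases hx1 : x = 1
    · exact Or.inl hx1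
    · refine Or.inr ?_
      intro g hg
      rw [Cfsg.Agent.Lib.Helper77.mem_conj_smul_iff] at hg
      apply hx1
      have hxN : x ∈ N := hx
      have h1 : g⁻¹ * x * g ∈ N := by
        have := Subgroup.Normal.conj_mem (inferInstance : N.Normal) x hxN g⁻¹
        rwa [inv_inv] at this
      have h2 := hdisj _ h1 hg
      have : x = g * (g⁻¹ * x * g) * g⁻¹ := by group
      rw [this, h2]
      group

end Cfsg.Agent.Lib.Helper54.Gag
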