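import Mathlib
import Cfsg.Prelude.Def_GeometricClasses
import Cfsg.Prelude.Def_ClassicalGeometry
import Cfsg.Agent.Lib.Helper78.OMb9

/-!
# K-OMb-10 (keystone 599110, architect helper32, row S5991): `case_p_minus_odd`

`d` odd: a unipotent derangement of `Ω⁻_{2d}(q)` on the nondegenerate `m`-spaces (`m` odd).  LEAF 9
(`Helper78.OMb.exists_bad_partition_odd`) + helper32's `exists_unipotent_minus`, which is taken here as the HYPOTHESIS `HU`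
(its statement for the given `F, p, d, a, b`, verbatim), since it is not on main yet.
-/

set_option autoImplicit false

namespace Cfsg.Agent.Lib.Helper54.OMb

open Module
open scoped MatrixGroups

universe u
variable {F : Type u} [Field F]

/-- the statement of helper32's `exists_unipotent_minus` (spec `notes/S5991_keystones.lean.txt`) for fixed `F, p, d, a, b` -/
def UnipotentMinusStmt (F : Type u) [Field F] (p d : ℕ) (a b : F) : Prop :=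
  ∀ (μ' : Multiset ℕ) (k k' : ℕ), (∀ e ∈ μ', 0 < e ∧ e ≤ p) → (∀ e : ℕ, Even e → Even (μ'.count e)) →
    2 * k + 1 ≤ p → 2 * k' + 1 ≤ p → μ'.sum + (2 * k + 1) + (2 * k' + 1) = 2 * d →
    (∃ e ∈ (2 * k + 1) ::ₘ (2 * k' + 1) ::ₘ μ', e ≠ 1) → ∀ τ : F, τ ≠ 0 →
    ∃ x : GL ((Fin (d - 1) ⊕ Fin (d - 1)) ⊕ Fin 2) F, x ∈ Cfsg.Geo.omegaGL (Cfsg.quadFormMinus (d - 1) F a b) ∧
      ((x ^ p : GL ((Fin (d - 1) ⊕ Fin (d - 1)) ⊕ Fin 2) F) : Matrix ((Fin (d - 1) ⊕ Fin (d - 1)) ⊕ Fin 2) ((Fin (d - 1) ⊕ Fin (d - 1)) ⊕ Fin 2) F) = (1 : F) • (1 : Matrix ((Fin (d - 1) ⊕ Fin (d - 1)) ⊕ Fin 2) ((Fin (d - 1) ⊕ Fin (d - 1)) ⊕ Fin 2) F) ∧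
      (∀ z : F, (x : Matrix ((Fin (d - 1) ⊕ Fin (d - 1)) ⊕ Fin 2) ((Fin (d - 1) ⊕ Fin (d - 1)) ⊕ Fin 2) F) ≠ z • (1 : Matrix ((Fin (d - 1) ⊕ Fin (d - 1)) ⊕ Fin 2) ((Fin (d - 1) ⊕ Fin (d - 1)) ⊕ Fin 2) F)) ∧
      (∀ j : ℕ, finrank F (LinearMap.ker ((Matrix.toLin' (x : Matrix ((Fin (d - 1) ⊕ Fin (d - 1)) ⊕ Fin 2) ((Fin (d - 1) ⊕ Fin (d - 1)) ⊕ Fin 2) F) - 1) ^ j)) =
        (((2 * k + 1) ::ₘ (2 * k' + 1) ::ₘ μ').map (fun e => min e j)).sum) ∧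
      (∀ W : Submodule F (((Fin (d - 1) ⊕ Fin (d - 1)) ⊕ Fin 2) → F), Cfsg.Geo.IsNondegenerateOn (QuadraticMap.polar (Cfsg.quadFormMinus (d - 1) F a b)) W →
        W.map (Matrix.toLin' (x : Matrix ((Fin (d - 1) ⊕ Fin (d - 1)) ⊕ Fin 2) ((Fin (d - 1) ⊕ Fin (d - 1)) ⊕ Fin 2) F)) ≤ W →
        ∃ ν : Multiset ℕ, ν ≤ (2 * k + 1) ::ₘ (2 * k' + 1) ::ₘ μ' ∧ ν.sum = finrank F W ∧
          (∀ e : ℕ, Even e → Even (ν.count e)) ∧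
          ∀ j : ℕ, finrank F ↥(W ⊓ LinearMap.ker ((Matrix.toLin' (x : Matrix ((Fin (d - 1) ⊕ Fin (d - 1)) ⊕ Fin 2) ((Fin (d - 1) ⊕ Fin (d - 1)) ⊕ Fin 2) F) - 1) ^ j)) =
            (ν.map (fun e => min e j)).sum) ∧
      (k = 0 → 0 < k' → (∀ e ∈ μ', e ≠ 1) →
        ∃ v : (((Fin (d - 1) ⊕ Fin (d - 1)) ⊕ Fin 2) → F), Matrix.toLin' (x : Matrix ((Fin (d - 1) ⊕ Fin (d - 1)) ⊕ Fin 2) ((Fin (d - 1) ⊕ Fin (d - 1)) ⊕ Fin 2) F) v = v ∧ QuadraticMap.polar (Cfsg.quadFormMinus (d - 1) F a b) v v = τ)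

/-- **LEAF 10 (599110)**, with `exists_unipotent_minus` as the hypothesis `HU`. -/
theorem case_p_minus_odd_of [Fintype F] {p : ℕ} [Fact p.Prime] [CharP F p] (hodd : Odd (Fintype.card F))
    (d m : ℕ) (hd : 4 ≤ d) (hdo : Odd d) (hm : Odd m) (hmd : m < d) (a b : F)
    (HU : UnipotentMinusStmt F p d a b) :
    ∃ x : GL ((Fin (d - 1) ⊕ Fin (d - 1)) ⊕ Fin 2) F, x ∈ Cfsg.Geo.omegaGL (Cfsg.quadFormMinus (d - 1) F a b) ∧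
      ((x ^ p : GL ((Fin (d - 1) ⊕ Fin (d - 1)) ⊕ Fin 2) F) : Matrix ((Fin (d - 1) ⊕ Fin (d - 1)) ⊕ Fin 2) ((Fin (d - 1) ⊕ Fin (d - 1)) ⊕ Fin 2) F) = (1 : F) • (1 : Matrix ((Fin (d - 1) ⊕ Fin (d - 1)) ⊕ Fin 2) ((Fin (d - 1) ⊕ Fin (d - 1)) ⊕ Fin 2) F) ∧
      (∀ z : F, (x : Matrix ((Fin (d - 1) ⊕ Fin (d - 1)) ⊕ Fin 2) ((Fin (d - 1) ⊕ Fin (d - 1)) ⊕ Fin 2) F) ≠ z • (1 : Matrix ((Fin (d - 1) ⊕ Fin (d - 1)) ⊕ Fin 2) ((Fin (d - 1) ⊕ Fin (d - 1)) ⊕ Fin 2) F)) ∧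
      ∀ W : Submodule F (((Fin (d - 1) ⊕ Fin (d - 1)) ⊕ Fin 2) → F), Module.finrank F ↥W = m →
        Cfsg.Geo.IsNondegenerateOn (QuadraticMap.polar (Cfsg.quadFormMinus (d - 1) F a b)) W →
        ¬ W.map (Matrix.toLin' (x : Matrix ((Fin (d - 1) ⊕ Fin (d - 1)) ⊕ Fin 2) ((Fin (d - 1) ⊕ Fin (d - 1)) ⊕ Fin 2) F)) ≤ W := by
  have hpp : p.Prime := Fact.out
  have hp2 : p ≠ 2 := by
    rintro rfl
    have h2 : (2 : ℕ) ∣ Fintype.card F := by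
      obtain ⟨n, hn⟩ := FiniteField.card F 2
      rw [hn.2]
      exact dvd_pow_self 2 n.ne_zero
    exact (Nat.not_even_iff_odd.mpr hodd) (even_iff_two_dvd.mpr h2)
  have hp3 : 3 ≤ p := by
    have := hpp.two_le
    omega
  obtain ⟨μ', k, hμ1, hμ2, hk, hsum, ⟨e₀, he₀, he₀1⟩, hbad⟩ :=
    Cfsg.Agent.Lib.Helper78.OMb.exists_bad_partition_odd p d m hp3 hd hdo hm
  have hne : ∃ e ∈ (2 * k + 1) ::ₘ (2 * k + 1) ::ₘ μ', e ≠ 1 :=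
    ⟨e₀, Multiset.mem_cons_of_mem (Multiset.mem_cons_of_mem he₀), he₀1⟩
  obtain ⟨x, hxΩ, hxp, hxns, -, hW, -⟩ := HU μ' k k hμ1 hμ2 hk hk hsum hne 1 one_ne_zero
  refine ⟨x, hxΩ, hxp, hxns, ?_⟩
  intro W hWm hWnd hWinv
  obtain ⟨ν, hν, hνsum, hνev, -⟩ := hW W hWnd hWinv
  exact hbad ν hν hνev (hνsum.trans hWm)

end Cfsg.Agent.Lib.Helper54.OMb
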