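import Mathlib
import Cfsg.Prelude.Def_HallClasses
import Cfsg.Agent.Lib.Helper06.HallSym.Defs
import Cfsg.Agent.Lib.Helper20.HallSymG1
import Cfsg.Agent.Lib.Helper38.HallAlt.Defs

/-!
# K-HB-D3 (keystone 253828, architect helper38): `typeA_counter`

For `n = |α| ≥ 5` of type A (`n` prime, the primes of `π` up to `n` are the primes `< n`), the even permutations
stabilising a 2-set form a `π`-subgroup of the alternating group fixing no point.
-/

set_option autoImplicit false
open Cfsg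
open scoped Pointwise

namespace Cfsg.Agent.Lib.Helper54.HallAlt

open Cfsg.Agent.Lib.Helper06.HallSym Cfsg.Agent.Lib.Helper38.HallAlt Cfsg.Agent.Lib.Helper20.HallSym

theorem swap_mem_stabilizer_of_mem {α : Type} [DecidableEq α] (Δ : Set α) {a b : α} (ha : a ∈ Δ)
    (hb : b ∈ Δ) : Equiv.swap a b ∈ MulAction.stabilizer (Equiv.Perm α) Δ := by
  rw [mem_stabilizer_set_iff']
  intro w
  by_cases hwa : w = a
  · subst hwa
    rw [Equiv.swap_apply_left]
    exact ⟨fun _ => ha, fun _ => hb⟩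
  by_cases hwb : w = b
  · subst hwb
    rw [Equiv.swap_apply_right]
    exact ⟨fun _ => hb, fun _ => ha⟩
  rw [Equiv.swap_apply_of_ne_of_ne hwa hwb]

theorem swap_mem_stabilizer_of_not_mem {α : Type} [DecidableEq α] (Δ : Set α) {a b : α} (ha : a ∉ Δ)
    (hb : b ∉ Δ) : Equiv.swap a b ∈ MulAction.stabilizer (Equiv.Perm α) Δ := by
  rw [mem_stabilizer_set_iff']
  intro w
  by_cases hwa : w = a
  · subst hwa
    rw [Equiv.swap_apply_left]
    exact ⟨fun h => absurd h hb, fun h => absurd h ha⟩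
  by_cases hwb : w = b
  · subst hwb
    rw [Equiv.swap_apply_right]
    exact ⟨fun h => absurd h ha, fun h => absurd h hb⟩
  rw [Equiv.swap_apply_of_ne_of_ne hwa hwb]

/-- the double transposition `(x₀ x₁)(y z)` lies in `Stab {x₀, x₁} ∩ Alt` -/
theorem double_swap_mem {α : Type} [Fintype α] [DecidableEq α] {x₀ x₁ y z : α} (h01 : x₀ ≠ x₁)
    (hyz : y ≠ z) (hy0 : y ≠ x₀) (hy1 : y ≠ x₁) (hz0 : z ≠ x₀) (hz1 : z ≠ x₁) :
    Equiv.swap x₀ x₁ * Equiv.swap y z ∈
      MulAction.stabilizer (Equiv.Perm α) ({x₀, x₁} : Set α) ⊓ altSub α := by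
  refine Subgroup.mem_inf.2 ⟨Subgroup.mul_mem _ ?_ ?_, ?_⟩
  · exact swap_mem_stabilizer_of_mem _ (by simp) (by simp)
  · refine swap_mem_stabilizer_of_not_mem _ ?_ ?_
    · simp [hy0, hy1]
    · simp [hz0, hz1]
  · rw [mem_altSub_iff, Equiv.Perm.sign_mul, Equiv.Perm.sign_swap h01, Equiv.Perm.sign_swap hyz]
    norm_num

/-- **K-HB-D3** (253828). -/
theorem typeA_counter (π : Set ℕ) {α : Type} [Finite α] (h5 : 5 ≤ Nat.card α)
    (hA : TypeA π (Nat.card α)) :
    ∃ K : Subgroup (Equiv.Perm α), K ≤ altSub α ∧ (∀ p : ℕ, p.Prime → p ∣ Nat.card K → p ∈ π) ∧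
      ∀ x : α, ¬ K ≤ MulAction.stabilizer (Equiv.Perm α) x := by
  classical
  let _ := Fintype.ofFinite α
  have hcard : Fintype.card (Fin 5) ≤ Fintype.card α := by
    rw [Fintype.card_fin, ← Nat.card_eq_fintype_card]; exact h5
  obtain ⟨f⟩ := Function.Embedding.nonempty_of_card_le hcard
  have hf : ∀ i j : Fin 5, i ≠ j → f i ≠ f j := fun i j hij h => hij (f.injective h)
  set x₀ := f 0 with hx₀
  set x₁ := f 1 with hx₁
  have h01 : x₀ ≠ x₁ := hf 0 1 (by decide)
  refine ⟨MulAction.stabilizer (Equiv.Perm α) ({x₀, x₁} : Set α) ⊓ altSub α, inf_le_right, ?_, ?_⟩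
  · intro p hp hpd
    have h1 : p ∣ Nat.card (MulAction.stabilizer (Equiv.Perm α) ({x₀, x₁} : Set α)) :=
      hpd.trans (Subgroup.card_dvd_of_le inf_le_left)
    rw [card_stabilizer_set, Set.ncard_pair h01] at h1
    have hlt : p < Nat.card α := by
      rcases (Nat.Prime.dvd_mul hp).1 h1 with h2 | h2
      · have := (Nat.Prime.dvd_factorial hp).1 h2
        omega
      · have := (Nat.Prime.dvd_factorial hp).1 h2
        omega
    exact (hA.2 p hp hlt.le).2 hlt
  · intro x hK
    by_cases hx : x = x₀ ∨ x = x₁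
    · -- `(x₀ x₁)(f 2 f 3)` moves `x`
      have hmem := double_swap_mem (α := α) h01 (hf 2 3 (by decide)) (hf 2 0 (by decide))
        (hf 2 1 (by decide)) (hf 3 0 (by decide)) (hf 3 1 (by decide))
      have hfix := MulAction.mem_stabilizer_iff.1 (hK hmem)
      rw [Equiv.Perm.smul_def, Equiv.Perm.mul_apply] at hfix
      rcases hx with rfl | rfl
      · rw [Equiv.swap_apply_of_ne_of_ne (hf 0 2 (by decide)) (hf 0 3 (by decide)),
          Equiv.swap_apply_left] at hfix
        exact h01 hfix.symm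
      · rw [Equiv.swap_apply_of_ne_of_ne (hf 1 2 (by decide)) (hf 1 3 (by decide)),
          Equiv.swap_apply_right] at hfix
        exact h01 hfix
    · push_neg at hx
      -- a further point `z ∉ {x₀, x₁, x}`
      obtain ⟨z, hz0, hz1, hzx⟩ : ∃ z : α, z ≠ x₀ ∧ z ≠ x₁ ∧ z ≠ x := by
        by_cases h2 : f 2 = x
        · refine ⟨f 3, hf 3 0 (by decide), hf 3 1 (by decide), ?_⟩
          rw [← h2]
          exact hf 3 2 (by decide)
        · exact ⟨f 2, hf 2 0 (by decide), hf 2 1 (by decide), h2⟩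
      have hmem := double_swap_mem (α := α) h01 hzx.symm hx.1 hx.2 hz0 hz1
      have hfix := MulAction.mem_stabilizer_iff.1 (hK hmem)
      rw [Equiv.Perm.smul_def, Equiv.Perm.mul_apply, Equiv.swap_apply_left,
        Equiv.swap_apply_of_ne_of_ne hz0 hz1] at hfix
      exact hzx hfix

end Cfsg.Agent.Lib.Helper54.HallAlt
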