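import Mathlib
import Cfsg.Agent.Lib.Helper76.TwistPerf

/-!
# K-SQ-2F4 (keystone 462515, architect helper38), field part: every element of `F_{2^(2m+1)}`, `m ≥ 1`, is a value
`θ x * y + θ y * x` of the commutator form of the Suzuki-type root groups (`θ = (·)^(2^m)`).
-/

set_option autoImplicit false

namespace Cfsg.Agent.Lib.Helper54.SQ

open Cfsg.Agent.Lib.Helper76.TwistPerf

variable {K : Type*} [Field K] [Fintype K]

theorem exp_arith (a : ℕ) (ha : 2 ≤ a) : 2 * (a - 1) * (a + 1) + 1 = 2 * a * a - 1 := by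
  obtain ⟨b, rfl⟩ : ∃ b, a = b + 2 := ⟨a - 2, by omega⟩
  have h1 : b + 2 - 1 = b + 1 := by omega
  rw [h1]
  have h2 : 2 * (b + 2) * (b + 2) = 2 * (b + 1) * (b + 2 + 1) + 1 + 1 := by ring
  omega

theorem exists_comm_form {m : ℕ} (hK : Fintype.card K = 2 ^ (2 * m + 1)) (hm : 1 ≤ m)
    (θ : K →+* K) (hθ : ∀ x, θ x = x ^ (2 ^ m)) (c : K) :
    ∃ x y : K, θ x * y + θ y * x = c := by
  have h2 : (2 : K) = 0 := by
    have : Fact (Nat.Prime 2) := ⟨Nat.prime_two⟩
    have : CharP K 2 := charP_of_card_eq_prime_pow hK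
    exact CharTwo.two_eq_zero
  have hadd : ∀ x : K, x + x = 0 := fun x => by rw [← two_mul, h2, zero_mul]
  set a : ℕ := 2 ^ m with ha
  have ha2 : 2 ≤ a := by
    calc 2 = 2 ^ 1 := by norm_num
      _ ≤ 2 ^ m := Nat.pow_le_pow_right (by norm_num) hm
  have hq : Fintype.card K = 2 * a * a := by
    rw [hK, ha, show 2 * m + 1 = m + m + 1 by ring, pow_succ, pow_add]; ring
  -- an element not fixed by `θ`
  have hlt : a - 1 + 1 < Fintype.card K := by
    have h1 : a - 1 + 1 = a := by omega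
    rw [h1, hq]
    nlinarith
  obtain ⟨γ, hγ⟩ := exists_pow_ne_one (K := K) (a - 1) (by omega) hlt
  set y0 : K := (γ : K) with hy0
  have hy00 : y0 ≠ 0 := γ.ne_zero
  set w0 : K := θ y0 + y0 with hw0
  have hw00 : w0 ≠ 0 := by
    intro h
    apply hγ
    apply Units.ext
    rw [Units.val_pow_eq_pow_val, Units.val_one]
    have h1 : y0 ^ a = y0 := by
      have := hadd y0
      rw [hw0, hθ] at h
      linear_combination h - this
    have h3 : y0 ^ (a - 1) * y0 = 1 * y0 := by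
      rw [← pow_succ, one_mul]
      have : a - 1 + 1 = a := by omega
      rw [this, h1]
    exact mul_right_cancel₀ hy00 h3
  -- `x ↦ θ x * x` is onto
  have honto : ∀ c' : K, ∃ x : K, θ x * x = c' := by
    intro c'
    by_cases hc : c' = 0
    · exact ⟨0, by rw [hc, map_zero, zero_mul]⟩
    · refine ⟨(c' ^ (2 * (a - 1)))⁻¹, ?_⟩
      rw [hθ, ← pow_succ, inv_pow, ← pow_mul]
      have hexp : 2 * (a - 1) * (a + 1) + 1 = Fintype.card K - 1 := by
        rw [hq]
        exact exp_arith a ha2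
      have h1 : c' ^ (Fintype.card K - 1) = 1 := FiniteField.pow_card_sub_one_eq_one c' hc
      rw [← hexp, pow_succ] at h1
      have hne : c' ^ (2 * (a - 1) * (a + 1)) ≠ 0 := pow_ne_zero _ hc
      rw [inv_eq_iff_eq_inv]
      exact (eq_inv_of_mul_eq_one_left h1)
  obtain ⟨x, hx⟩ := honto (c / w0)
  refine ⟨x, x * y0, ?_⟩
  rw [map_mul]
  have : θ x * (x * y0) + θ x * θ y0 * x = (θ x * x) * w0 := by rw [hw0]; ring
  rw [this, hx]
  field_simp

end Cfsg.Agent.Lib.Helper54.SQ
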