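import Mathlib
import Cfsg.Agent.Lib.Helper54.SQ2F4a
import Cfsg.Agent.Lib.Helper76.F4TwoElts
import Cfsg.Agent.Lib.Helper76.TwistPerfF4
import Cfsg.Agent.Lib.Helper33.F4Final
import Cfsg.Agent.Lib.Helper38.SQ.Defs

/-!
# K-SQ-2F4 (keystone 462515, architect helper38): squares of a Sylow 2-subgroup of `²F₄(2^(2m+1))`, `m ≥ 1`, lie in the
derived subgroup.  `U¹ = U ⊓ G¹` (`Helper76.F4X.U1`) is generated by the twisted root elements
(`Helper33.F4.CountLeavesF.fix_peel`); pair type ones are involutions, the square of a Suzuki type one is a commutator.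
-/

set_option autoImplicit false
set_option linter.unusedSimpArgs false
set_option linter.unusedSectionVars false
set_option linter.unusedVariables false

namespace Cfsg.Agent.Lib.Helper54.SQ

open Cfsg.Lie Cfsg.Agent.Lib.Helper24 Cfsg.Agent.Lib.Helper33.F4 Cfsg.Agent.Lib.Helper33.TwBN
  Cfsg.Agent.Lib.Helper76.Twist Cfsg.Agent.Lib.Helper38.SQ
open scoped commutatorElement

variable {K : Type*} [Field K]

/-- the generators: conjugates of the fundamental twisted root elements -/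
noncomputable def genF4 (K : Type*) [Field K] (e : ℕ) (k : ℕ) (c : K × K × K) : GL chevF4.Idx K :=
  (envF4 K).hF.nW (wordsF.getD k []) * yForm K e c k * ((envF4 K).hF.nW (wordsF.getD k []))⁻¹

/-- the generating set -/
def genSetF4 (K : Type*) [Field K] (e : ℕ) : Set (GL chevF4.Idx K) :=
  {g | ∃ k < 8, ∃ c : K × K × K, g = genF4 K e k c}

section gens

variable {e : ℕ} {S : SigmaF K e} (C : CountLeavesF S)
include C

theorem genF4_mem (k : ℕ) (hk : k < 8) (c : K × K × K) :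
    genF4 K e k c ∈ chevF4.posUnipotent K ⊓ twistedF4 K e := by
  constructor
  · have hmem : genF4 K e k c ∈ rootClosure chevF4 K (· ∈ classesF.getD k []) := by
      rw [C.conj_class k hk]
      unfold genF4
      have : ((envF4 K).hF.nW (wordsF.getD k []))⁻¹ * ((envF4 K).hF.nW (wordsF.getD k []) *
          yForm K e c k * ((envF4 K).hF.nW (wordsF.getD k []))⁻¹) *
          (envF4 K).hF.nW (wordsF.getD k []) = yForm K e c k := by group
      rw [this]
      exact yForm_mem _ _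
    exact Cfsg.Agent.Lib.Helper33.F4.rootClosure_pos_le chevF4 K _
      (fun r hr => (isPos_iff r).2 (classesF_pos k hk r hr)) hmem
  · exact Subgroup.mul_mem _ (Subgroup.mul_mem _ (C.nW_mem k hk) (yForm_mem_twisted _ _))
      (Subgroup.inv_mem _ (C.nW_mem k hk))

/-- `U ⊓ G¹` is generated by the twisted root elements -/
theorem inf_eq_closure_genSet :
    chevF4.posUnipotent K ⊓ twistedF4 K e = Subgroup.closure (genSetF4 K e) := by
  apply le_antisymm
  · rintro g ⟨hgU, hgG⟩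
    obtain ⟨x, hx, hgx⟩ := C.fix_peel g hgU (C.G1_fix g hgG)
    have hc : ∀ k, k < 8 → ∃ c : K × K × K, x k = genF4 K e k c := by
      intro k hk8
      obtain ⟨hxk, hfk⟩ := hx k hk8
      set n := (envF4 K).hF.nW (F := K) (wordsF.getD k []) with hn
      have hnG := C.nW_mem k hk8
      have hnF := twistedF4_le_group hnG
      have hxF := rootClosure_le_groupF _ hxk
      have hy1 := (C.conj_class k hk8 _).1 hxk
      have hyfix : S.ext (n⁻¹ * x k * n) = n⁻¹ * x k * n := by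
        rw [S.ext_mul (Subgroup.mul_mem _ (Subgroup.inv_mem _ hnF) hxF) hnF,
          S.ext_mul (Subgroup.inv_mem _ hnF) hxF, S.ext_inv hnF, C.G1_fix n hnG, hfk]
      have hyc : ∃ c : K × K × K, n⁻¹ * x k * n = yForm K e c k := by
        unfold fundF at hy1
        unfold yForm
        by_cases hk2 : k % 2 = 0
        · rw [if_pos hk2] at hy1
          obtain ⟨t, ht⟩ := C.fix_J1 _ hy1 hyfix
          exact ⟨(t, 0, 0), by rw [if_pos hk2, ht]⟩
        · rw [if_neg hk2] at hy1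
          obtain ⟨t, u, ht⟩ := C.fix_J2 _ hy1 hyfix
          exact ⟨(0, t, u), by rw [if_neg hk2, ht]⟩
      obtain ⟨c, hc⟩ := hyc
      refine ⟨c, ?_⟩
      show x k = n * yForm K e c k * n⁻¹
      rw [← hc]; group
    rw [hgx]
    apply Subgroup.list_prod_mem
    intro y hy
    obtain ⟨k, hk, rfl⟩ := List.mem_map.mp hy
    have hk8 := List.mem_range.mp hk
    obtain ⟨c, hc⟩ := hc k hk8
    exact Subgroup.subset_closure ⟨k, hk8, c, hc⟩
  · rw [Subgroup.closure_le]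
    rintro g ⟨k, hk, c, rfl⟩
    exact genF4_mem C k hk c

end gens

section squares

variable [Fintype K] {m : ℕ}

/-- squares in `U ⊓ G¹` are products of commutators -/
theorem sq_mem_commutator_inf (hK : Fintype.card K = 2 ^ (2 * m + 1)) (hm : 1 ≤ m) :
    ∀ x ∈ chevF4.posUnipotent K ⊓ twistedF4 K (2 ^ m), x ^ 2 ∈
      ⁅chevF4.posUnipotent K ⊓ twistedF4 K (2 ^ m), chevF4.posUnipotent K ⊓ twistedF4 K (2 ^ m)⁆ := by
  obtain ⟨S, _, C, _⟩ := exists_leavesF hK
  have h2 : (2 : K) = 0 := Cfsg.Agent.Lib.Helper76.TwistPerf.two_eq_zero_of_card hK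
  have hadd : ∀ x : K, x + x = 0 := fun x => by rw [← two_mul, h2, zero_mul]
  have : Fact (Nat.Prime 2) := ⟨Nat.prime_two⟩
  have : CharP K 2 := charP_of_card_eq_prime_pow hK
  set θ : K →+* K := iterateFrobenius K 2 m with hθdef
  have hθ : ∀ x, θ x = x ^ (2 ^ m) := fun x => iterateFrobenius_def ..
  have hcardpow : 2 ^ m * 2 ^ m * 2 = 2 ^ (2 * m + 1) := by
    rw [← pow_add, ← pow_succ]; congr 1; omega
  have hθ2 : ∀ x, θ (θ x) ^ 2 = x := by
    intro x
    rw [hθ, hθ, ← pow_mul, ← pow_mul, ← mul_assoc, hcardpow, ← hK]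
    exact FiniteField.pow_card x
  have R := suzRel_pos_F4 (K := K) (envF4 K).hF h2
  -- `bGL` is `suz`
  have hb : ∀ t u : K, bGL K (2 ^ m) t u = suz (envF4 K).hF θ 27 25 28 30 t u := by
    intro t u
    rw [bGL_eq]
    unfold suz
    rw [hθ, hθ]
    have e1 : t ^ (2 ^ m + 1) = t ^ 2 ^ m * t := pow_succ t (2 ^ m)
    have e2 : u ^ (2 * 2 ^ m) = (u ^ 2 ^ m) ^ 2 := by rw [← pow_mul, mul_comm]
    rw [e1, e2]
    simp only [mul_one, mul_assoc, xF]
  have hmul := suz_mul (envF4 K).hF θ h2 hθ2 R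
  have hzero := suz_zero (K := K) (envF4 K).hF θ 27 25 28 30
  apply sq_mem_commutator_of_closure _ (genSetF4 K (2 ^ m)) (inf_eq_closure_genSet C)
  rintro s ⟨k, hk, c, rfl⟩
  set n := (envF4 K).hF.nW (F := K) (wordsF.getD k []) with hn
  have hsq : (genF4 K (2 ^ m) k c) ^ 2 = n * (yForm K (2 ^ m) c k * yForm K (2 ^ m) c k) * n⁻¹ := by
    show (n * yForm K (2 ^ m) c k * n⁻¹) ^ 2 = _
    rw [sq]; group
  rw [hsq]
  unfold yForm
  by_cases hk2 : k % 2 = 0
  · -- pair type: an involution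
    rw [if_pos hk2]
    have h1 : pGL K (2 ^ m) c.1 * pGL K (2 ^ m) c.1 = 1 := by
      rw [pGL_eq]
      simp only [mul_one, xF]
      have hc := commute_F4 (K := K) (envF4 K).hF 33 24 (by decide) (c.1 ^ 2 ^ m) c.1
      calc (envF4 K).hF.xGL 33 (c.1 ^ 2 ^ m) * (envF4 K).hF.xGL 24 c.1 * ((envF4 K).hF.xGL 33 (c.1 ^ 2 ^ m) * (envF4 K).hF.xGL 24 c.1)
          = (envF4 K).hF.xGL 33 (c.1 ^ 2 ^ m) * ((envF4 K).hF.xGL 24 c.1 * (envF4 K).hF.xGL 33 (c.1 ^ 2 ^ m)) * (envF4 K).hF.xGL 24 c.1 := by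
            simp only [mul_assoc]
        _ = (envF4 K).hF.xGL 33 (c.1 ^ 2 ^ m) * ((envF4 K).hF.xGL 33 (c.1 ^ 2 ^ m) * (envF4 K).hF.xGL 24 c.1) * (envF4 K).hF.xGL 24 c.1 := by
            rw [hc.eq]
        _ = ((envF4 K).hF.xGL 33 (c.1 ^ 2 ^ m) * (envF4 K).hF.xGL 33 (c.1 ^ 2 ^ m)) * ((envF4 K).hF.xGL 24 c.1 * (envF4 K).hF.xGL 24 c.1) := by
            simp only [mul_assoc]
        _ = 1 := by rw [(envF4 K).hF.xGL_mul, (envF4 K).hF.xGL_mul, hadd, hadd, (envF4 K).hF.xGL_zero, (envF4 K).hF.xGL_zero, mul_one]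
    rw [h1, mul_one, mul_inv_cancel]
    exact Subgroup.one_mem _
  · -- Suzuki type: the square is a commutator
    rw [if_neg hk2]
    obtain ⟨x, y, hxy⟩ := exists_comm_form hK hm θ hθ (θ c.2.1 * c.2.1)
    have h1 : bGL K (2 ^ m) c.2.1 c.2.2 * bGL K (2 ^ m) c.2.1 c.2.2 =
        ⁅bGL K (2 ^ m) x 0, bGL K (2 ^ m) y 0⁆ := by
      rw [hb, hb, hb, hmul]
      have hab : suz (envF4 K).hF θ 27 25 28 30 x 0 * suz (envF4 K).hF θ 27 25 28 30 y 0 =
          suz (envF4 K).hF θ 27 25 28 30 (c.2.1 + c.2.1) (c.2.2 + c.2.2 + θ c.2.1 * c.2.1) *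
            (suz (envF4 K).hF θ 27 25 28 30 y 0 * suz (envF4 K).hF θ 27 25 28 30 x 0) := by
        rw [hmul, hmul, hmul]
        congr 1
        · rw [hadd, zero_add, add_comm]
        · rw [hadd c.2.1, hadd c.2.2, map_zero]
          linear_combination hxy - hadd (θ y * x)
      rw [commutatorElement_def, hab]
      group
    rw [h1]
    have hconj : n * ⁅bGL K (2 ^ m) x 0, bGL K (2 ^ m) y 0⁆ * n⁻¹ =
        ⁅n * bGL K (2 ^ m) x 0 * n⁻¹, n * bGL K (2 ^ m) y 0 * n⁻¹⁆ := by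
      simp only [commutatorElement_def]; group
    rw [hconj]
    have hgx : n * bGL K (2 ^ m) x 0 * n⁻¹ = genF4 K (2 ^ m) k (0, x, 0) := by
      unfold genF4 yForm
      rw [if_neg hk2]
    have hgy : n * bGL K (2 ^ m) y 0 * n⁻¹ = genF4 K (2 ^ m) k (0, y, 0) := by
      unfold genF4 yForm
      rw [if_neg hk2]
    rw [hgx, hgy]
    exact Subgroup.commutator_mem_commutator (genF4_mem C k hk _) (genF4_mem C k hk _)

end squares

/-- **K-SQ-2F4** (462515). -/
theorem sylSq_twistedF4 (K : Type) [Field K] [Fintype K] (m : ℕ) (hm : 1 ≤ m)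
    (hK : Fintype.card K = 2 ^ (2 * m + 1)) :
    SylSq (Cfsg.Lie.twistedF4 K (2 ^ m)) := by
  have : Fact (Nat.Prime 2) := ⟨Nat.prime_two⟩
  refine ⟨Cfsg.Agent.Lib.Helper76.F4X.U1 K (2 ^ m),
    IsPGroup.of_card (Cfsg.Agent.Lib.Helper76.F4X.card_U1 hK),
    Cfsg.Agent.Lib.Helper76.F4X.index_U1 hK, ?_⟩
  intro x hx
  have hU1 : Cfsg.Agent.Lib.Helper76.F4X.U1 K (2 ^ m) =
      (chevF4.posUnipotent K ⊓ twistedF4 K (2 ^ m)).subgroupOf (twistedF4 K (2 ^ m)) := rfl
  have hmapU : ((chevF4.posUnipotent K ⊓ twistedF4 K (2 ^ m)).subgroupOf (twistedF4 K (2 ^ m))).map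
      (twistedF4 K (2 ^ m)).subtype = chevF4.posUnipotent K ⊓ twistedF4 K (2 ^ m) := by
    rw [Subgroup.subgroupOf_map_subtype]
    exact inf_eq_left.mpr inf_le_right
  have hxV : (x : GL chevF4.Idx K) ∈ chevF4.posUnipotent K ⊓ twistedF4 K (2 ^ m) := by
    rw [hU1, Subgroup.mem_subgroupOf] at hx
    exact hx
  have h1 := sq_mem_commutator_inf hK hm (x : GL chevF4.Idx K) hxV
  rw [hU1]
  have h2 : ((x ^ 2 : ↥(twistedF4 K (2 ^ m))) : GL chevF4.Idx K) ∈
      (⁅(chevF4.posUnipotent K ⊓ twistedF4 K (2 ^ m)).subgroupOf (twistedF4 K (2 ^ m)),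
        (chevF4.posUnipotent K ⊓ twistedF4 K (2 ^ m)).subgroupOf (twistedF4 K (2 ^ m))⁆).map
        (twistedF4 K (2 ^ m)).subtype := by
    rw [Subgroup.map_commutator, hmapU, Subgroup.coe_pow]
    exact h1
  obtain ⟨t, ht, hts⟩ := h2
  have : t = x ^ 2 := Subtype.ext (by simpa using hts)
  rw [← this]; exact ht


end Cfsg.Agent.Lib.Helper54.SQ
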