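import Mathlib
import Cfsg.Prelude.Def_GeometricClasses
import Cfsg.Agent.Lib.Helper61.AschDefs
import Cfsg.Agent.Lib.Helper43.SpAschDefs
import Cfsg.Agent.Lib.Helper43.SpAschDefs2

/-!
# K-SpAsch-S4sw (keystone 566211, architect helper43): swapping the two tensor factors in `IsKronForm`.
-/

set_option autoImplicit false

namespace Cfsg.Agent.Lib.Helper54.SpAsch

open Cfsg Cfsg.Geo Cfsg.Agent.Lib.Helper61.Asch Cfsg.Agent.Lib.Helper43.SpAsch
open scoped Matrix Kronecker MatrixGroups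

variable {F : Type*} [Field F] [Fintype F] {n : ℕ}

local notation "V" => (Fin n → F)
local notation "Mat" => Matrix (Fin n) (Fin n) F
local notation "Z" => scalars (Fin n) F

/-- The Gram form of `G₁ ⊗ G₂` read through the swap of the two index factors is the Gram form of `G₂ ⊗ G₁`. -/
theorem formOfGram_kronecker_swap {a b : ℕ} (G₁ : Matrix (Fin a) (Fin a) F) (G₂ : Matrix (Fin b) (Fin b) F)
    (x y : Fin b × Fin a → F) :
    formOfGram id (G₁ ⊗ₖ G₂) (x ∘ Prod.swap) (y ∘ Prod.swap) = formOfGram id (G₂ ⊗ₖ G₁) x y := by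
  unfold formOfGram
  refine Fintype.sum_equiv (Equiv.prodComm _ _) _ _ fun p => ?_
  refine Fintype.sum_equiv (Equiv.prodComm _ _) _ _ fun q => ?_
  simp only [Function.comp_apply, Matrix.kroneckerMap_apply, Equiv.prodComm_apply, Prod.fst_swap,
    Prod.snd_swap, id]
  ring

/-- **K-SpAsch-S4sw**. Swap the two tensor factors. -/
theorem kronForm_swap {f : V → V → F} (a b : ℕ) (e : Fin n ≃ Fin a × Fin b) (P : GL (Fin n) F)
    (G₁ : Matrix (Fin a) (Fin a) F) (G₂ : Matrix (Fin b) (Fin b) F) (h : IsKronForm f a b e P G₁ G₂) :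
    IsKronForm f b a (e.trans (Equiv.prodComm _ _)) P G₂ G₁ := by
  intro x y
  have hx : x ∘ (e.trans (Equiv.prodComm (Fin a) (Fin b))) = (x ∘ Prod.swap) ∘ e := by
    funext i; simp [Function.comp]
  have hy : y ∘ (e.trans (Equiv.prodComm (Fin a) (Fin b))) = (y ∘ Prod.swap) ∘ e := by
    funext i; simp [Function.comp]
  rw [hx, hy, h (x ∘ Prod.swap) (y ∘ Prod.swap)]
  exact formOfGram_kronecker_swap G₁ G₂ x y

end Cfsg.Agent.Lib.Helper54.SpAsch
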