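import Mathlib
import Cfsg.Agent.Lib.Helper49.OInvDefs
import Cfsg.Agent.Lib.Helper43.Dickson
import Cfsg.Agent.Lib.Helper43.OrthModels
import Cfsg.Agent.Lib.Helper43.OrthSingular
import Cfsg.Agent.Lib.Helper43.OmegaCountSplit

/-!
# K-OInv-4 (keystone 268306, architect helper49): passage from `C_O(x)` to `C_Ω(x)` for
`O = O⁺_{2m}(q)`, `q` even, on top of helper43's Dickson library.

The four statements are first proved for a general quadratic form `Q` on `ι → F`
(`…_gen`), then specialised to `Q = qfPlus m F`, whose coercion is `Cfsg.quadFormPlus m F`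
definitionally.
-/

set_option autoImplicit false

namespace Cfsg.Agent.Lib.Helper54.OInv

open Matrix Cfsg.Agent.Lib.Helper49.SpInv Cfsg.Agent.Lib.Helper49.OInv
open Cfsg.Agent.Lib.Helper43

section general

variable {F : Type*} [Field F] [Fintype F] [CharP F 2] {ι : Type} [Fintype ι] [DecidableEq ι]
variable (Q : QuadraticForm F (ι → F))

theorem not_mem_Omega_of_odd_rank_gen (hQ : (QuadraticMap.polarBilin Q).Nondegenerate)
    (hgen : ReflGenerated Q) (x : ↥(Cfsg.isometryGroup F ⇑Q))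
    (hodd : Odd (((x : GL ι F) : Matrix ι ι F) - 1).rank) :
    x ∉ Cfsg.Omega F ⇑Q := by
  intro hx
  have h1 := (mem_Omega_iff_even_rank Q hQ hgen x).1 hx
  exact (Nat.not_even_iff_odd.2 hodd) h1

theorem exists_comm_not_mem_Omega_gen (hQ : (QuadraticMap.polarBilin Q).Nondegenerate)
    (hgen : ReflGenerated Q) (x : ↥(Cfsg.isometryGroup F ⇑Q)) (u : ι → F)
    (hu : Q u ≠ 0) (hxu : ((x : GL ι F) : Matrix ι ι F) *ᵥ u = u) :
    ∃ g : ↥(Cfsg.isometryGroup F ⇑Q), g * x = x * g ∧ g ∉ Cfsg.Omega F ⇑Q := by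
  refine ⟨reflO Q u, ?_, ?_⟩
  · have h1 := reflO_comm_of_fixed Q x u hu (by rw [linOf_apply]; exact hxu)
    exact h1.symm
  · exact reflO_notMem_Omega Q hQ hgen u hu

theorem two_mul_card_centralizer_Omega_gen (hQ : (QuadraticMap.polarBilin Q).Nondegenerate)
    (hgen : ReflGenerated Q) (x g : ↥(Cfsg.isometryGroup F ⇑Q)) (hg : g * x = x * g)
    (hgΩ : g ∉ Cfsg.Omega F ⇑Q) :
    2 * Nat.card {g : ↥(Cfsg.Omega F ⇑Q) //
        (g : ↥(Cfsg.isometryGroup F ⇑Q)) * x = x * (g : ↥(Cfsg.isometryGroup F ⇑Q))} =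
      Nat.card {g : ↥(Cfsg.isometryGroup F ⇑Q) // g * x = x * g} := by
  classical
  have hΩ : Cfsg.Omega F ⇑Q = (dickson Q hQ hgen).ker := Omega_eq_ker_dickson Q hQ hgen
  have hmemΩ : ∀ y : ↥(Cfsg.isometryGroup F ⇑Q),
      y ∈ Cfsg.Omega F ⇑Q ↔ dickson Q hQ hgen y = 1 := by
    intro y
    rw [hΩ, MonoidHom.mem_ker]
  let C : Subgroup ↥(Cfsg.isometryGroup F ⇑Q) := Subgroup.centralizer {x}
  have hmemC : ∀ y : ↥(Cfsg.isometryGroup F ⇑Q), y ∈ C ↔ y * x = x * y := by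
    intro y
    rw [Subgroup.mem_centralizer_iff]
    constructor
    · intro hy; exact (hy x rfl).symm
    · intro hy z hz; rw [Set.mem_singleton_iff.1 hz]; exact hy.symm
  let φ : ↥C →* Multiplicative (ZMod 2) := (dickson Q hQ hgen).comp C.subtype
  have hφ : ∀ y : ↥C, φ y = dickson Q hQ hgen (y : ↥(Cfsg.isometryGroup F ⇑Q)) := fun _ => rfl
  have h01 : ∀ y : Multiplicative (ZMod 2), y ≠ 1 → y = Multiplicative.ofAdd 1 := by decide
  have hsurj : Function.Surjective φ := by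
    intro y
    by_cases hy : y = 1
    · exact ⟨1, by rw [map_one, hy]⟩
    · refine ⟨⟨g, (hmemC g).2 hg⟩, ?_⟩
      have hne : φ ⟨g, (hmemC g).2 hg⟩ ≠ 1 := by
        intro h1
        apply hgΩ
        rw [hmemΩ]
        exact h1
      rw [h01 _ hne, h01 _ hy]
  have hidx : φ.ker.index = 2 := by
    rw [Subgroup.index_ker, MonoidHom.range_eq_top.2 hsurj,
      Nat.card_congr (Subgroup.topEquiv (G := Multiplicative (ZMod 2))).toEquiv,
      Nat.card_eq_fintype_card]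
    rfl
  have hcard : Nat.card φ.ker * 2 = Nat.card ↥C := by
    have h2 := Subgroup.card_mul_index φ.ker
    rw [hidx] at h2
    exact h2
  have e1 : {y : ↥(Cfsg.isometryGroup F ⇑Q) // y * x = x * y} ≃ ↥C :=
    Equiv.subtypeEquivRight (fun y => (hmemC y).symm)
  have e2 : {y : ↥(Cfsg.Omega F ⇑Q) //
      (y : ↥(Cfsg.isometryGroup F ⇑Q)) * x = x * (y : ↥(Cfsg.isometryGroup F ⇑Q))} ≃ ↥φ.ker :=
    { toFun := fun y => ⟨⟨(y.1 : ↥(Cfsg.isometryGroup F ⇑Q)), (hmemC _).2 y.2⟩, by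
        rw [MonoidHom.mem_ker, hφ]
        exact (hmemΩ _).1 y.1.2⟩
      invFun := fun y => ⟨⟨(y.1 : ↥(Cfsg.isometryGroup F ⇑Q)), by
        rw [hmemΩ, ← hφ]
        exact MonoidHom.mem_ker.1 y.2⟩, (hmemC _).1 y.1.2⟩
      left_inv := fun y => by
        apply Subtype.ext; apply Subtype.ext; rfl
      right_inv := fun y => by
        apply Subtype.ext; apply Subtype.ext; rfl }
  rw [Nat.card_congr e1, Nat.card_congr e2, ← hcard, mul_comm]

theorem card_centralizer_Omega_eq_gen (hQ : (QuadraticMap.polarBilin Q).Nondegenerate)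
    (hgen : ReflGenerated Q) (m : ℕ) (hcard : Fintype.card ι = 2 * m)
    (x : ↥(Cfsg.isometryGroup F ⇑Q))
    (hr : (((x : GL ι F) : Matrix ι ι F) - 1).rank = m)
    (halt : ∀ v : ι → F, Q ((((x : GL ι F) : Matrix ι ι F) - 1).mulVec v) = 0) :
    Nat.card {g : ↥(Cfsg.Omega F ⇑Q) //
        (g : ↥(Cfsg.isometryGroup F ⇑Q)) * x = x * (g : ↥(Cfsg.isometryGroup F ⇑Q))} =
      Nat.card {g : ↥(Cfsg.isometryGroup F ⇑Q) // g * x = x * g} := by
  classical
  have halt' : ∀ v, Q (v + linOf Q x v) = 0 := by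
    intro v
    have h1 : v + linOf Q x v = (((x : GL ι F) : Matrix ι ι F) - 1).mulVec v := by
      rw [linOf_apply, Matrix.sub_mulVec, Matrix.one_mulVec]
      funext i
      simp only [Pi.add_apply, Pi.sub_apply]
      rw [CharTwo.sub_eq_add, add_comm]
    rw [h1]
    exact halt v
  have hle : ∀ c : ↥(Cfsg.isometryGroup F ⇑Q), c * x = x * c → c ∈ Cfsg.Omega F ⇑Q := by
    intro c hc
    refine centralizer_le_Omega Q hQ hgen m hcard x hr halt' c ?_
    rw [hc, mul_inv_cancel_right]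
  refine Nat.card_congr
    { toFun := fun y => ⟨(y.1 : ↥(Cfsg.isometryGroup F ⇑Q)), y.2⟩
      invFun := fun y => ⟨⟨y.1, hle y.1 y.2⟩, y.2⟩
      left_inv := fun y => by apply Subtype.ext; apply Subtype.ext; rfl
      right_inv := fun y => by apply Subtype.ext; rfl }

end general

variable {F : Type*} [Field F] [Fintype F] [CharP F 2]

omit [CharP F 2] in
/-- the hypothesis `q ≠ 2 ∨ m ≠ 2` in the form needed by `reflGenerated_char_two`. -/
theorem h24_of {m : ℕ} (h : Fintype.card F ≠ 2 ∨ m ≠ 2) :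
    Fintype.card F ≠ 2 ∨ Fintype.card (Fin m ⊕ Fin m) ≠ 4 := by
  rcases h with h | h
  · exact Or.inl h
  · right
    rw [Fintype.card_sum, Fintype.card_fin]
    omega

/-- reflections generate the isometry group of the hyperbolic form. -/
theorem hgen_of {m : ℕ} (h : Fintype.card F ≠ 2 ∨ m ≠ 2) : ReflGenerated (qfPlus m F) :=
  reflGenerated_char_two (qfPlus m F) (qfPlus_nondegenerate m F) (h24_of h)

theorem not_mem_Omega_of_odd_rank {m : ℕ} (h : Fintype.card F ≠ 2 ∨ m ≠ 2)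
    (x : ↥(Cfsg.isometryGroup F (Cfsg.quadFormPlus m F)))
    (hodd : Odd (((x : Matrix.GeneralLinearGroup (Fin m ⊕ Fin m) F) :
      Matrix (Fin m ⊕ Fin m) (Fin m ⊕ Fin m) F) - 1).rank) :
    x ∉ Cfsg.Omega F (Cfsg.quadFormPlus m F) :=
  not_mem_Omega_of_odd_rank_gen (qfPlus m F) (qfPlus_nondegenerate m F) (hgen_of h) x hodd

/-- the reflection in a nonsingular vector fixed by `x` commutes with `x` and is not in `Ω`. -/
theorem exists_comm_not_mem_Omega {m : ℕ} (h : Fintype.card F ≠ 2 ∨ m ≠ 2)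
    (x : ↥(Cfsg.isometryGroup F (Cfsg.quadFormPlus m F))) (u : Fin m ⊕ Fin m → F)
    (hu : Cfsg.quadFormPlus m F u ≠ 0)
    (hxu : ((x : Matrix.GeneralLinearGroup (Fin m ⊕ Fin m) F) :
      Matrix (Fin m ⊕ Fin m) (Fin m ⊕ Fin m) F) *ᵥ u = u) :
    ∃ g : ↥(Cfsg.isometryGroup F (Cfsg.quadFormPlus m F)),
      g * x = x * g ∧ g ∉ Cfsg.Omega F (Cfsg.quadFormPlus m F) :=
  exists_comm_not_mem_Omega_gen (qfPlus m F) (qfPlus_nondegenerate m F) (hgen_of h) x u hu hxu

/-- `Ω` has index 2, so a centraliser not contained in `Ω` meets `Ω` in a subgroup of index 2. -/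
theorem two_mul_card_centralizer_Omega {m : ℕ} (h : Fintype.card F ≠ 2 ∨ m ≠ 2)
    (x g : ↥(Cfsg.isometryGroup F (Cfsg.quadFormPlus m F))) (hg : g * x = x * g)
    (hgΩ : g ∉ Cfsg.Omega F (Cfsg.quadFormPlus m F)) :
    2 * Nat.card {g : ↥(Cfsg.Omega F (Cfsg.quadFormPlus m F)) //
        (g : ↥(Cfsg.isometryGroup F (Cfsg.quadFormPlus m F))) * x =
          x * (g : ↥(Cfsg.isometryGroup F (Cfsg.quadFormPlus m F)))} =
      Nat.card {g : ↥(Cfsg.isometryGroup F (Cfsg.quadFormPlus m F)) // g * x = x * g} :=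
  two_mul_card_centralizer_Omega_gen (qfPlus m F) (qfPlus_nondegenerate m F) (hgen_of h) x g hg hgΩ

/-- type `a_m`: the whole centraliser lies in `Ω` (`Helper43.OmegaCountSplit.centralizer_le_Omega`). -/
theorem card_centralizer_Omega_eq {m : ℕ} (h : Fintype.card F ≠ 2 ∨ m ≠ 2)
    (x : ↥(Cfsg.isometryGroup F (Cfsg.quadFormPlus m F))) (hx : x ^ 2 = 1)
    (hr : (((x : Matrix.GeneralLinearGroup (Fin m ⊕ Fin m) F) :
      Matrix (Fin m ⊕ Fin m) (Fin m ⊕ Fin m) F) - 1).rank = m)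
    (halt : ∀ v : Fin m ⊕ Fin m → F, Cfsg.quadFormPlus m F
      ((((x : Matrix.GeneralLinearGroup (Fin m ⊕ Fin m) F) :
        Matrix (Fin m ⊕ Fin m) (Fin m ⊕ Fin m) F) - 1).mulVec v) = 0) :
    Nat.card {g : ↥(Cfsg.Omega F (Cfsg.quadFormPlus m F)) //
        (g : ↥(Cfsg.isometryGroup F (Cfsg.quadFormPlus m F))) * x =
          x * (g : ↥(Cfsg.isometryGroup F (Cfsg.quadFormPlus m F)))} =
      Nat.card {g : ↥(Cfsg.isometryGroup F (Cfsg.quadFormPlus m F)) // g * x = x * g} :=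
  card_centralizer_Omega_eq_gen (qfPlus m F) (qfPlus_nondegenerate m F) (hgen_of h) m
    (by rw [Fintype.card_sum, Fintype.card_fin]; omega) x hr halt

end Cfsg.Agent.Lib.Helper54.OInv
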