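import Cfsg.Agent.Lib.Helper49.StSUDefs

/-!
# K-StSU-E0 (254601): the finite-field facts for `|F| = q^2`

`q` is a power of the characteristic, `x ↦ x^q` is an additive involution, the trace `u ↦ u + u^q`
is onto the fixed field, and `aPar F q` is a nonzero element with `a^q = -a`.
-/

set_option autoImplicit false

namespace Cfsg.Agent.Lib.Helper54.StSU

open Cfsg Cfsg.Agent.Lib.Helper49.StSU Polynomial

variable {F : Type*} [Field F] {q : ℕ}

/-- a polynomial `X^q + c X` with `2 ≤ q`, `q < |F|` does not vanish everywhere -/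
theorem exists_eval_ne_zero [Fintype F] (hq : 2 ≤ q) (hlt : q < Fintype.card F) (c : F) :
    ∃ v : F, v ^ q + c * v ≠ 0 := by
  by_contra hcon
  push Not at hcon
  set P : F[X] := X ^ q + C c * X with hP
  have hdeg : P.natDegree ≤ q := by
    rw [hP]
    refine (natDegree_add_le _ _).trans ?_
    rw [natDegree_X_pow]
    refine max_le le_rfl ?_
    refine (natDegree_C_mul_le _ _).trans ?_
    rw [natDegree_X]
    omega
  have hzero : P = 0 := by
    refine eq_zero_of_natDegree_lt_card_of_eval_eq_zero P (f := (id : F → F))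
      Function.injective_id ?_ (lt_of_le_of_lt hdeg hlt)
    intro v
    simp only [hP, id, eval_add, eval_pow, eval_X, eval_mul, eval_C]
    exact hcon v
  have hcoeff : P.coeff q = 1 := by
    rw [hP, coeff_add, coeff_X_pow, if_pos rfl, coeff_C_mul, coeff_X]
    have : ¬ (1 = q) := by omega
    simp [this]
  rw [hzero, coeff_zero] at hcoeff
  exact zero_ne_one hcoeff

theorem field_facts [Fintype F] (p : ℕ) [Fact p.Prime] [CharP F p] (hF : Fintype.card F = q ^ 2) :
    (∀ x y : F, (x + y) ^ q = x ^ q + y ^ q) ∧ (∀ x : F, (x ^ q) ^ q = x) ∧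
      (∀ c : F, c ^ q = c → ∃ u : F, u + u ^ q = c) ∧ aPar F q ≠ 0 ∧ aPar F q ^ q = -aPar F q := by
  have hp : p.Prime := Fact.out
  -- `q` is a power of `p`
  obtain ⟨k, -, hk⟩ := FiniteField.card F p
  have hqdvd : q ∣ p ^ (k : ℕ) := by
    rw [← hk, hF]
    exact Dvd.intro_left (q ^ 1) (by ring)
  obtain ⟨j, -, hj⟩ := (Nat.dvd_prime_pow hp).1 hqdvd
  have hcard2 : 2 ≤ Fintype.card F := Fintype.one_lt_card
  have hq2 : 2 ≤ q := by
    rcases Nat.lt_or_ge q 2 with h | h
    · exfalso
      interval_cases q <;> omega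
    · exact h
  have hlt : q < Fintype.card F := by
    rw [hF]
    nlinarith
  have hadd : ∀ x y : F, (x + y) ^ q = x ^ q + y ^ q := by
    intro x y
    rw [hj]
    exact add_pow_char_pow x y p j
  have hsub : ∀ x y : F, (x - y) ^ q = x ^ q - y ^ q := by
    intro x y
    rw [hj]
    exact sub_pow_char_pow x y j
  have hfrob : ∀ x : F, (x ^ q) ^ q = x := by
    intro x
    rw [← pow_mul, ← sq, ← hF]
    exact FiniteField.pow_card x
  refine ⟨hadd, hfrob, ?_, ?_⟩
  · -- the trace is onto the fixed field
    intro c hc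
    obtain ⟨v, hv⟩ := exists_eval_ne_zero (F := F) hq2 hlt 1
    rw [one_mul] at hv
    set d : F := v ^ q + v with hd
    have hdq : d ^ q = d := by
      rw [hd, hadd, hfrob]
      ring
    refine ⟨c * v / d, ?_⟩
    have h1 : (c * v / d) ^ q = c * v ^ q / d := by
      rw [div_pow, mul_pow, hc, hdq]
    rw [h1]
    field_simp
    rw [hd]
    ring
  · -- `aPar`
    obtain ⟨w, hw⟩ := exists_eval_ne_zero (F := F) hq2 hlt (-1)
    have hex : ∃ a : F, a ≠ 0 ∧ a ^ q = -a := by
      refine ⟨w ^ q - w, ?_, ?_⟩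
      · intro h0
        apply hw
        rw [← h0]
        ring
      · rw [hsub, hfrob]
        ring
    have hval : aPar F q = Classical.choose hex := by
      unfold aPar
      rw [dif_pos hex]
    rw [hval]
    exact Classical.choose_spec hex

end Cfsg.Agent.Lib.Helper54.StSU
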