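import Cfsg.Agent.Lib.Helper54.Conj

set_option autoImplicit false

namespace Cfsg.Agent.Lib.Helper54

open Cfsg
open scoped commutatorElement

variable {G : Type*} [Group G]

/-- the elements normalising `N` and acting trivially on `V` modulo `N` -/
def commStab (V N : Subgroup G) : Subgroup G where
  carrier := {l | l ∈ Subgroup.normalizer (N : Set G) ∧ ∀ v ∈ V, ⁅v, l⁆ ∈ N}
  one_mem' := ⟨Subgroup.one_mem _, fun v _ => by simp [commutatorElement_def]⟩
  mul_mem' := by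
    rintro a b ⟨ha1, ha2⟩ ⟨hb1, hb2⟩
    refine ⟨Subgroup.mul_mem _ ha1 hb1, fun v hv => ?_⟩
    have h1 : ⁅v, a * b⁆ = ⁅v, a⁆ * (a * ⁅v, b⁆ * a⁻¹) := by
      simp [commutatorElement_def, mul_assoc]
    rw [h1]
    exact Subgroup.mul_mem _ (ha2 v hv)
      ((Subgroup.mem_normalizer_iff.1 ha1 _).1 (hb2 v hv))
  inv_mem' := by
    rintro a ⟨ha1, ha2⟩
    refine ⟨Subgroup.inv_mem _ ha1, fun v hv => ?_⟩
    have h1 : ⁅v, a⁻¹⁆ = a⁻¹ * (⁅v, a⁆)⁻¹ * a⁻¹⁻¹ := by
      simp [commutatorElement_def, mul_assoc]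
    rw [h1]
    exact (Subgroup.mem_normalizer_iff.1 (Subgroup.inv_mem _ ha1) _).1
      (Subgroup.inv_mem _ (ha2 v hv))

theorem mem_commStab {V N : Subgroup G} {l : G} :
    l ∈ commStab V N ↔ l ∈ Subgroup.normalizer (N : Set G) ∧ ∀ v ∈ V, ⁅v, l⁆ ∈ N := Iff.rfl

theorem le_commStab {V N S : Subgroup G} (hS : S ≤ Subgroup.normalizer (N : Set G))
    (h : ⁅V, S⁆ ≤ N) : S ≤ commStab V N := fun s hs =>
  ⟨hS hs, fun _ hv => h (Subgroup.commutator_mem_commutator hv hs)⟩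

theorem commutator_le_of_le_commStab {V N S : Subgroup G} (h : S ≤ commStab V N) :
    ⁅V, S⁆ ≤ N := by
  rw [Subgroup.commutator_le]
  intro v hv s hs
  exact (h hs).2 v hv

/-- `[V, ⨆ S i] ≤ N` when all `S i` normalise `N` and `[V, S i] ≤ N` -/
theorem commutator_iSup_le {ι : Sort*} {V N : Subgroup G} {S : ι → Subgroup G}
    (hS : ∀ i, S i ≤ Subgroup.normalizer (N : Set G)) (h : ∀ i, ⁅V, S i⁆ ≤ N) :
    ⁅V, ⨆ i, S i⁆ ≤ N :=
  commutator_le_of_le_commStab (iSup_le fun i => le_commStab (hS i) (h i))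

/-- `[⨆ S i, V] ≤ N` when all `S i` normalise `N` and `[S i, V] ≤ N` -/
theorem iSup_commutator_le {ι : Sort*} {V N : Subgroup G} {S : ι → Subgroup G}
    (hS : ∀ i, S i ≤ Subgroup.normalizer (N : Set G)) (h : ∀ i, ⁅S i, V⁆ ≤ N) :
    ⁅⨆ i, S i, V⁆ ≤ N := by
  rw [Subgroup.commutator_comm]
  apply commutator_iSup_le hS
  intro i
  rw [Subgroup.commutator_comm]
  exact h i

/-- the normaliser of a join contains what normalises every member up to permutation -/
theorem mem_normalizer_iSup {ι : Sort*} {S : ι → Subgroup G} {g : G}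
    (h : ∀ i, ∃ j, (S i).map (MulAut.conj g).toMonoidHom = S j)
    (h' : ∀ i, ∃ j, (S i).map (MulAut.conj g⁻¹).toMonoidHom = S j) :
    g ∈ Subgroup.normalizer ((⨆ i, S i : Subgroup G) : Set G) := by
  apply mem_normalizer_of_map_conj_eq
  apply le_antisymm
  · rw [Subgroup.map_iSup]
    apply iSup_le
    intro i
    obtain ⟨j, hj⟩ := h i
    rw [hj]
    exact le_iSup S j
  · have e : (⨆ i, S i).map (MulAut.conj g).toMonoidHom =
        (⨆ i, S i).map (MulAut.conj g⁻¹⁻¹).toMonoidHom := by rw [inv_inv]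
    rw [e, ← map_conj_le_iff]
    rw [Subgroup.map_iSup]
    apply iSup_le
    intro i
    obtain ⟨j, hj⟩ := h' i
    rw [hj]
    exact le_iSup S j

theorem le_normalizer_inf {X A B : Subgroup G} (hA : X ≤ Subgroup.normalizer (A : Set G))
    (hB : X ≤ Subgroup.normalizer (B : Set G)) :
    X ≤ Subgroup.normalizer ((A ⊓ B : Subgroup G) : Set G) := by
  intro x hx
  apply mem_normalizer_of_map_conj_eq
  rw [Subgroup.map_inf_eq _ _ _ (MulAut.conj x).injective,
    map_conj_eq_of_mem_normalizer (hA hx), map_conj_eq_of_mem_normalizer (hB hx)]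

end Cfsg.Agent.Lib.Helper54
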