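import Cfsg.Agent.Lib.Helper54.PReduced
import Cfsg.Agent.Lib.Helper54.CommStab

set_option autoImplicit false

namespace Cfsg.Agent.Lib.Helper54

open Cfsg

variable {H : Type*} [Group H] {p : ℕ}

/-- elements of `D X` are `p`-power into `C` when those of `D` are and `X ≤ C` -/
theorem exists_pow_mem_of_mem_sup {D X C : Subgroup H}
    (hDX : D ≤ Subgroup.normalizer (X : Set H)) (hXC : X ≤ C)
    (hDC : D ≤ Subgroup.normalizer (C : Set H))
    (hpow : ∀ d ∈ D, ∃ k : ℕ, d ^ (p ^ k) ∈ C) :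
    ∀ x ∈ D ⊔ X, ∃ k : ℕ, x ^ (p ^ k) ∈ C := by
  intro x hx
  obtain ⟨a, ha, b, hb, rfl⟩ := exists_mul_of_mem_sup_of_le_normalizer (A := X) (B := D) hDX
    (by rw [sup_comm]; exact hx)
  obtain ⟨k, hk⟩ := hpow b hb
  have hc : b⁻¹ * a * b⁻¹⁻¹ ∈ C :=
    hXC ((Subgroup.mem_normalizer_iff.1 (Subgroup.inv_mem _ (hDX hb)) a).1 ha)
  obtain ⟨c', hc', h⟩ := exists_mul_pow_eq (hDC hb) hc (p ^ k)
  refine ⟨k, ?_⟩
  have e : a * b = b * (b⁻¹ * a * b⁻¹⁻¹) := by group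
  rw [e, h]
  exact C.mul_mem hk hc'

/-- the `p`-reducedness criterion without the containment hypothesis -/
theorem le_centralizer_of_pow_mem {L Y D : Subgroup H} (hYL : Y ≤ L)
    (hY : IsPReducedNormal p (Y.subgroupOf L)) (hDL : D ≤ L)
    (hLD : L ≤ Subgroup.normalizer (D : Set H))
    (hpow : ∀ d ∈ D, ∃ k : ℕ, d ^ (p ^ k) ∈ Subgroup.centralizer (Y : Set H)) :
    D ≤ Subgroup.centralizer (Y : Set H) := by
  obtain ⟨hLY, _, hcrit⟩ := (isPReducedNormal_subgroupOf_iff hYL).1 hY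
  have hLC : L ≤ Subgroup.normalizer ((Subgroup.centralizer (Y : Set H) : Subgroup H) : Set H) :=
    hLY.trans (normalizer_le_normalizer_centralizer' Y)
  have hLX : L ≤ Subgroup.normalizer ((L ⊓ Subgroup.centralizer (Y : Set H) : Subgroup H) : Set H) :=
    le_normalizer_inf Subgroup.le_normalizer hLC
  have := hcrit (D ⊔ (L ⊓ Subgroup.centralizer (Y : Set H))) (sup_le hDL inf_le_left)
    (le_normalizer_sup hLD hLX) le_sup_right
    (exists_pow_mem_of_mem_sup (hDL.trans hLX) inf_le_right (hDL.trans hLC) hpow)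
  exact le_sup_left.trans this

/-- characteristic `p`, in the ambient group -/
theorem inf_centralizer_pCoreOf_le {L : Subgroup H}
    (hL : Subgroup.centralizer (pCore p ↥L : Set ↥L) ≤ pCore p ↥L) :
    L ⊓ Subgroup.centralizer ((pCoreOf p L : Subgroup H) : Set H) ≤ pCoreOf p L := by
  intro x hx
  obtain ⟨hxL, hxC⟩ := Subgroup.mem_inf.1 hx
  refine ⟨⟨x, hxL⟩, hL ?_, rfl⟩
  rw [Subgroup.mem_centralizer_iff]
  intro y hy
  apply Subtype.ext
  exact (Subgroup.mem_centralizer_iff.1 hxC) (y : H) ⟨y, hy, rfl⟩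

/-- if `D/N` is a `p`-group then `D = N (T ∩ D)` for a Sylow `p`-subgroup `T` normalising `D` -/
theorem exists_mul_of_pow_mem [Finite H] [Fact p.Prime] (T : Sylow p H) {D N : Subgroup H}
    (hTD : (T : Subgroup H) ≤ Subgroup.normalizer (D : Set H)) (hND : N ≤ D)
    (hDN : D ≤ Subgroup.normalizer (N : Set H))
    (hpow : ∀ d ∈ D, ∃ k : ℕ, d ^ (p ^ k) ∈ N) :
    ∀ d ∈ D, ∃ n ∈ N, ∃ t ∈ (T : Subgroup H) ⊓ D, d = n * t := by
  obtain ⟨PD, hPD⟩ := exists_sylow_eq_subgroupOf T D hTD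
  haveI hn : (N.subgroupOf D).Normal := (Subgroup.normal_subgroupOf_iff_le_normalizer hND).2 hDN
  have h1 : pResidual p ↥D ≤ N.subgroupOf D := by
    apply pResidual_le_of_forall_pow_mem
    intro g
    obtain ⟨k, hk⟩ := hpow g g.2
    exact ⟨k, by rw [Subgroup.mem_subgroupOf]; simpa using hk⟩
  have h2 := pResidual_sup_sylow PD
  have h3 : N.subgroupOf D ⊔ (PD : Subgroup ↥D) = ⊤ := by
    rw [eq_top_iff, ← h2]
    exact sup_le_sup_right h1 _
  intro d hd
  have h4 : (⟨d, hd⟩ : ↥D) ∈ N.subgroupOf D ⊔ (PD : Subgroup ↥D) := by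
    rw [h3]; exact Subgroup.mem_top _
  obtain ⟨a, ha, b, hb, hab⟩ := exists_mul_of_mem_sup_of_le_normalizer
    (by rw [Subgroup.normalizer_eq_top]; exact le_top) h4
  rw [hPD] at hb
  refine ⟨(a : H), Subgroup.mem_subgroupOf.1 ha, (b : H),
    Subgroup.mem_inf.2 ⟨Subgroup.mem_subgroupOf.1 hb, b.2⟩, ?_⟩
  have := congrArg Subtype.val hab
  simpa using this

end Cfsg.Agent.Lib.Helper54
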