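import Cfsg.Agent.Lib.Helper54.PRedSubnormal
import Cfsg.Agent.Lib.Helper54.WeaklyClosed
import Cfsg.Agent.Lib.Helper55.Coprime

set_option autoImplicit false

namespace Cfsg.Agent.Lib.Helper54

open Cfsg
open scoped commutatorElement

variable {H : Type*} [Group H] {p : ℕ}

theorem centralizer_map_conj (K : Subgroup H) (g : H) :
    (Subgroup.centralizer (K : Set H)).map (MulAut.conj g).toMonoidHom =
      Subgroup.centralizer ((K.map (MulAut.conj g).toMonoidHom : Subgroup H) : Set H) := by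
  ext y
  rw [mem_map_conj_iff, Subgroup.mem_centralizer_iff, Subgroup.mem_centralizer_iff]
  constructor
  · rintro h _ ⟨k, hk, rfl⟩
    have := h k hk
    simp only [MulEquiv.coe_toMonoidHom, MulAut.conj_apply]
    calc g * k * g⁻¹ * y = g * (k * (g⁻¹ * y * g)) * g⁻¹ := by group
      _ = g * ((g⁻¹ * y * g) * k) * g⁻¹ := by rw [this]
      _ = y * (g * k * g⁻¹) := by group
  · intro h k hk
    have := h (g * k * g⁻¹) (conj_mem_map_conj hk)
    calc k * (g⁻¹ * y * g) = g⁻¹ * (g * k * g⁻¹ * y) * g := by group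
      _ = g⁻¹ * (y * (g * k * g⁻¹)) * g := by rw [this]
      _ = g⁻¹ * y * g * k := by group

/-- conjugation invariance of `p`-reducedness (ambient form) -/
theorem isPReducedNormal_map_conj {L Y : Subgroup H} (hYL : Y ≤ L)
    (hY : IsPReducedNormal p (Y.subgroupOf L)) (g : H) :
    IsPReducedNormal p ((Y.map (MulAut.conj g).toMonoidHom).subgroupOf
      (L.map (MulAut.conj g).toMonoidHom)) := by
  obtain ⟨hLY, hel, hcrit⟩ := (isPReducedNormal_subgroupOf_iff hYL).1 hY
  rw [isPReducedNormal_subgroupOf_iff (Subgroup.map_mono hYL)]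
  refine ⟨?_, ?_, ?_⟩
  · rw [normalizer_map_conj]; exact Subgroup.map_mono hLY
  · refine ⟨isMulCommutative_of_comm ?_, ?_⟩
    · rintro _ ⟨a, ha, rfl⟩ _ ⟨b, hb, rfl⟩
      have := hel.1.is_comm.comm (⟨a, ha⟩ : ↥Y) ⟨b, hb⟩
      have h2 : a * b = b * a := congrArg Subtype.val this
      simp only [MulEquiv.coe_toMonoidHom, MulAut.conj_apply]
      calc g * a * g⁻¹ * (g * b * g⁻¹) = g * (a * b) * g⁻¹ := by group
        _ = g * (b * a) * g⁻¹ := by rw [h2]
        _ = g * b * g⁻¹ * (g * a * g⁻¹) := by group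
    · rintro _ ⟨a, ha, rfl⟩
      simp only [MulEquiv.coe_toMonoidHom, MulAut.conj_apply]
      rw [conj_pow, hel.2 a ha]; simp
  · intro D hDL hLD hCD hpow
    rw [← centralizer_map_conj] at hCD hpow ⊢
    have h1 := hcrit (D.map (MulAut.conj g⁻¹).toMonoidHom) ?_ ?_ ?_ ?_
    · have := Subgroup.map_mono (f := (MulAut.conj g).toMonoidHom) h1
      rwa [map_conj_map_conj_inv] at this
    · have := Subgroup.map_mono (f := (MulAut.conj g⁻¹).toMonoidHom) hDL
      rwa [map_conj_inv_map_conj] at this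
    · rw [normalizer_map_conj]
      have := Subgroup.map_mono (f := (MulAut.conj g⁻¹).toMonoidHom) hLD
      rwa [map_conj_inv_map_conj] at this
    · have h2 : (L ⊓ Subgroup.centralizer (Y : Set H)).map (MulAut.conj g).toMonoidHom ≤ D := by
        rw [Subgroup.map_inf_eq _ _ _ (MulAut.conj g).injective]
        exact hCD
      have := Subgroup.map_mono (f := (MulAut.conj g⁻¹).toMonoidHom) h2
      rwa [map_conj_inv_map_conj] at this
    · rintro _ ⟨d, hd, rfl⟩
      obtain ⟨k, hk⟩ := hpow d hd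
      refine ⟨k, ?_⟩
      rw [mem_map_conj_iff] at hk
      simp only [MulEquiv.coe_toMonoidHom, MulAut.conj_apply]
      rw [conj_pow]
      convert hk using 1
      group

/-- a group acting as a `p`-group on a nontrivial `p`-subgroup has nontrivial fixed points -/
theorem inf_centralizer_ne_bot_of_pow_mem [Finite H] [Fact p.Prime] {U D : Subgroup H}
    (hDU : D ≤ Subgroup.normalizer (U : Set H)) (hUp : IsPGroup p ↥U) (hU1 : U ≠ ⊥)
    (hpow : ∀ d ∈ D, ∃ k : ℕ, d ^ (p ^ k) ∈ Subgroup.centralizer (U : Set H)) :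
    U ⊓ Subgroup.centralizer (D : Set H) ≠ ⊥ := by
  obtain ⟨PD⟩ : Nonempty (Sylow p ↥D) := inferInstance
  have hPp : IsPGroup p ↥((PD : Subgroup ↥D).map D.subtype) := PD.isPGroup'.map _
  have hPD : (PD : Subgroup ↥D).map D.subtype ≤ D := Subgroup.map_subtype_le _
  have h1 := Cfsg.Agent.Lib.Helper55.inf_centralizer_ne_bot_of_le_normalizer hPp hUp hU1
    (hPD.trans hDU)
  haveI hn : ((D ⊓ Subgroup.centralizer (U : Set H)).subgroupOf D).Normal :=
    (Subgroup.normal_subgroupOf_iff_le_normalizer inf_le_left).2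
      (le_normalizer_inf Subgroup.le_normalizer
        (hDU.trans (normalizer_le_normalizer_centralizer' U)))
  have h2 : pResidual p ↥D ≤ (D ⊓ Subgroup.centralizer (U : Set H)).subgroupOf D := by
    apply pResidual_le_of_forall_pow_mem
    intro g
    obtain ⟨k, hk⟩ := hpow g g.2
    refine ⟨k, ?_⟩
    rw [Subgroup.mem_subgroupOf]
    refine Subgroup.mem_inf.2 ⟨?_, by simpa using hk⟩
    simpa using D.pow_mem g.2 (p ^ k)
  have h3 := pResidual_sup_sylow PD
  have h4 : (D ⊓ Subgroup.centralizer (U : Set H)).subgroupOf D ⊔ (PD : Subgroup ↥D) = ⊤ := by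
    rw [eq_top_iff, ← h3]
    exact sup_le_sup_right h2 _
  have h5 : U ⊓ Subgroup.centralizer (((PD : Subgroup ↥D).map D.subtype : Subgroup H) : Set H) ≤
      U ⊓ Subgroup.centralizer (D : Set H) := by
    intro u hu
    obtain ⟨huU, huC⟩ := Subgroup.mem_inf.1 hu
    refine Subgroup.mem_inf.2 ⟨huU, ?_⟩
    rw [Subgroup.mem_centralizer_iff]
    intro d hd
    have h6 : (⟨d, hd⟩ : ↥D) ∈
        (D ⊓ Subgroup.centralizer (U : Set H)).subgroupOf D ⊔ (PD : Subgroup ↥D) := by
      rw [h4]; exact Subgroup.mem_top _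
    obtain ⟨a, ha, b, hb, hab⟩ := exists_mul_of_mem_sup_of_le_normalizer
      (A := (D ⊓ Subgroup.centralizer (U : Set H)).subgroupOf D) (B := (PD : Subgroup ↥D))
      (le_of_le_of_eq le_top (Subgroup.normalizer_eq_top
        (H := (D ⊓ Subgroup.centralizer (U : Set H)).subgroupOf D)).symm) h6
    have hd_eq : d = (a : H) * (b : H) := by
      have := congrArg Subtype.val hab
      simpa using this
    have ha' : (a : H) ∈ Subgroup.centralizer (U : Set H) :=
      (Subgroup.mem_inf.1 (Subgroup.mem_subgroupOf.1 ha)).2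
    have e1 : u * (a : H) = (a : H) * u := (Subgroup.mem_centralizer_iff.1 ha') u huU
    have e2 : (b : H) * u = u * (b : H) :=
      (Subgroup.mem_centralizer_iff.1 huC) (b : H) ⟨b, hb, rfl⟩
    rw [hd_eq]
    calc (a : H) * (b : H) * u = (a : H) * ((b : H) * u) := by group
      _ = (a : H) * (u * (b : H)) := by rw [e2]
      _ = ((a : H) * u) * (b : H) := by group
      _ = (u * (a : H)) * (b : H) := by rw [e1]
      _ = u * ((a : H) * (b : H)) := by group
  intro hbot
  apply h1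
  rw [eq_bot_iff]
  exact h5.trans hbot.le

/-- the commutators `[v, x]`, `v ∈ V`, form a subgroup when `V` is abelian and normalised by `x` -/
theorem exists_commutator_subgroup {V : Subgroup H}
    (hcomm : ∀ a ∈ V, ∀ b ∈ V, a * b = b * a) {x : H}
    (hx : x ∈ Subgroup.normalizer (V : Set H)) :
    ∃ U : Subgroup H, U ≤ V ∧ ∀ u, u ∈ U ↔ ∃ v ∈ V, u = ⁅v, x⁆ := by
  have hcV : ∀ v ∈ V, ⁅v, x⁆ ∈ V := by
    intro v hv
    have h2 : x * v⁻¹ * x⁻¹ ∈ V := (Subgroup.mem_normalizer_iff.1 hx _).1 (V.inv_mem hv)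
    have e : ⁅v, x⁆ = v * (x * v⁻¹ * x⁻¹) := by rw [commutatorElement_def]; group
    rw [e]; exact V.mul_mem hv h2
  have hmul : ∀ v ∈ V, ∀ w ∈ V, ⁅v * w, x⁆ = ⁅v, x⁆ * ⁅w, x⁆ := by
    intro v hv w hw
    have h2 : x * v⁻¹ * x⁻¹ ∈ V := (Subgroup.mem_normalizer_iff.1 hx _).1 (V.inv_mem hv)
    have h3 := hcomm _ (hcV w hw) _ h2
    calc ⁅v * w, x⁆ = v * (⁅w, x⁆ * (x * v⁻¹ * x⁻¹)) := by
          simp only [commutatorElement_def]; group
      _ = v * ((x * v⁻¹ * x⁻¹) * ⁅w, x⁆) := by rw [h3]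
      _ = ⁅v, x⁆ * ⁅w, x⁆ := by simp only [commutatorElement_def]; group
  refine ⟨{ carrier := {u | ∃ v ∈ V, u = ⁅v, x⁆}
            one_mem' := ⟨1, V.one_mem, by simp⟩
            mul_mem' := ?_
            inv_mem' := ?_ }, ?_, ?_⟩
  · rintro _ _ ⟨v, hv, rfl⟩ ⟨w, hw, rfl⟩
    exact ⟨v * w, V.mul_mem hv hw, (hmul v hv w hw).symm⟩
  · rintro _ ⟨v, hv, rfl⟩
    refine ⟨v⁻¹, V.inv_mem hv, ?_⟩
    have h1 := hmul v⁻¹ (V.inv_mem hv) v hv
    rw [inv_mul_cancel] at h1
    have h2 : ⁅(1 : H), x⁆ = 1 := by simp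
    rw [h2] at h1
    exact inv_eq_of_mul_eq_one_left h1.symm
  · rintro _ ⟨v, hv, rfl⟩
    exact hcV v hv
  · intro u
    exact Iff.rfl

/-- `p`-reduced normal subgroups of `⊤` -/
theorem isPReducedNormal_subgroupOf_top_iff {Y : Subgroup H} :
    IsPReducedNormal p (Y.subgroupOf ⊤) ↔ IsPReducedNormal p Y := by
  rw [isPReducedNormal_subgroupOf_iff le_top]
  constructor
  · rintro ⟨h1, h2, h3⟩
    haveI hn : Y.Normal := Subgroup.normalizer_eq_top_iff.1 (top_le_iff.1 h1)
    refine ⟨hn, h2, Subgroup.normal_centralizer, ?_⟩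
    rw [pCore_quotient_eq_bot_iff]
    intro D hD hCD hpow
    exact h3 D le_top (by rw [Subgroup.normalizer_eq_top_iff.2 hD]) (inf_le_right.trans hCD) hpow
  · rintro ⟨hn, h2, hCn, hO⟩
    refine ⟨by rw [Subgroup.normalizer_eq_top_iff.2 hn], h2, ?_⟩
    intro D _ hD hCD hpow
    exact (pCore_quotient_eq_bot_iff _).1 hO D
      (Subgroup.normalizer_eq_top_iff.1 (top_le_iff.1 hD)) (le_trans (le_inf le_top le_rfl) hCD) hpow

theorem largestPReducedOf_top [Fact p.Prime] :
    largestPReducedOf p (⊤ : Subgroup H) = largestPReduced p H := by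
  apply le_antisymm
  · exact le_sSup (isPReducedNormal_subgroupOf_top_iff.1 (isPReducedNormal_largestPReducedOf ⊤))
  · exact le_largestPReducedOf le_top
      (isPReducedNormal_subgroupOf_top_iff.2 isPReducedNormal_largestPReduced)

end Cfsg.Agent.Lib.Helper54
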