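import Cfsg.Agent.Lib.Helper54.FStarGlue
import Cfsg.Agent.Lib.Helper28.FStar

set_option autoImplicit false

namespace Cfsg.Agent.Lib.Helper54

open Cfsg
open scoped commutatorElement

variable {G : Type*} [Group G] {p : ℕ}

/-- For a subnormal subgroup `S` of a finite group, `F*(S) = F*(G) ∩ S`. -/
theorem genFitting_map_subtype_of_subnormal [Finite G] {S : Subgroup G} (hS : S.IsSubnormal) :
    (Cfsg.generalizedFittingSubgroup ↥S).map S.subtype =
      Cfsg.generalizedFittingSubgroup G ⊓ S := by
  have hmap : (Cfsg.generalizedFittingSubgroup ↥S).map S.subtype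
      = (Cfsg.layer ↥S).map S.subtype ⊔ (Cfsg.fittingSubgroup G ⊓ S) := by
    unfold Cfsg.generalizedFittingSubgroup
    rw [Subgroup.map_sup, Helper30.fitting_map_subtype_of_subnormal hS]
  rw [hmap]
  refine le_antisymm ?_ ?_
  · refine sup_le (le_inf ?_ (Subgroup.map_subtype_le _))
      (inf_le_inf_right _ Helper30.fitting_le_genFitting)
    exact (Helper30.layer_map_subtype_le hS).trans Helper30.layer_le_genFitting
  · have hn : (Cfsg.generalizedFittingSubgroup G).Normal := Helper30.genFitting_normal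
    have hSsn : (Cfsg.generalizedFittingSubgroup G ⊓ S).IsSubnormal :=
      hn.isSubnormal.inf hS
    refine (Helper30.subnormal_le_genFitting_decomp inf_le_left hSsn).trans (sup_le_sup ?_ ?_)
    · refine le_trans (sSup_le_sSup ?_) (Helper30.sSup_components_le_layer_map S)
      rintro L ⟨hL, hLS⟩
      exact ⟨hL, hLS.trans inf_le_right⟩
    · exact inf_le_inf_left _ inf_le_right

/-- a subgroup `D = [D,Y]` lies in every subnormal subgroup containing `Y` -/
theorem le_of_isSubnormal_of_commutator_eq {K : Subgroup G} (hK : K.IsSubnormal) :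
    ∀ {D Y : Subgroup G}, Y ≤ K → ⁅D, Y⁆ = D → D ≤ K := by
  induction hK with
  | top => intro D Y _ _; exact le_top
  | step L K hLK hKsn hLn ih =>
    intro D Y hYL hD
    have h1 : D ≤ K := ih (hYL.trans hLK) hD
    have h2 : K ≤ Subgroup.normalizer (L : Set G) :=
      (Subgroup.normal_subgroupOf_iff_le_normalizer hLK).1 hLn
    have h3 : ⁅L, K⁆ ≤ L := Subgroup.le_normalizer_iff_commutator_le_left.1 h2
    calc D = ⁅D, Y⁆ := hD.symm
      _ ≤ ⁅K, L⁆ := Subgroup.commutator_mono h1 hYL
      _ = ⁅L, K⁆ := Subgroup.commutator_comm K L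
      _ ≤ L := h3

/-- a `p`-subgroup centralising `F*(G)` is trivial when `O_p(G) = 1` -/
theorem eq_bot_of_le_centralizer_genFitting [Finite G] [Fact p.Prime] (hO : Cfsg.pCore p G = ⊥)
    {Y : Subgroup G} (hY : IsPGroup p ↥Y)
    (hc : Y ≤ Subgroup.centralizer (Cfsg.generalizedFittingSubgroup G : Set G)) : Y = ⊥ := by
  have hn : (Cfsg.generalizedFittingSubgroup G).Normal := Helper30.genFitting_normal
  have hZn : (Subgroup.centralizer (Cfsg.generalizedFittingSubgroup G : Set G)).Normal :=
    inferInstance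
  have hZle := Helper28.centralizer_genFitting_le (G := G)
  have hZc : IsMulCommutative
      ↥(Subgroup.centralizer (Cfsg.generalizedFittingSubgroup G : Set G)) := by
    refine ⟨⟨fun a b => Subtype.ext ?_⟩⟩
    have := (Subgroup.mem_centralizer_iff.1 a.2) b (hZle b.2)
    exact this.symm
  have hZF := Helper30.le_fitting_of_normal_comm hZn hZc
  have hYF : Y ≤ Cfsg.fittingSubgroup G := hc.trans hZF
  have hcop := card_fitting_coprime (p := p) hO
  have hdvd : Nat.card ↥Y ∣ Nat.card ↥(Cfsg.fittingSubgroup G) := Subgroup.card_dvd_of_le hYF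
  obtain ⟨k, hk⟩ := IsPGroup.iff_card.1 hY
  have h1 : (Nat.card ↥Y).Coprime p := Nat.Coprime.coprime_dvd_left hdvd hcop
  rw [hk] at h1
  have hk0 : k = 0 := by
    by_contra hk0
    have := (Nat.coprime_pow_left_iff (Nat.pos_of_ne_zero hk0) p p).1 h1
    exact (Fact.out : p.Prime).one_lt.ne' ((Nat.coprime_self p).1 this)
  rw [hk0, pow_zero] at hk
  exact Subgroup.card_eq_one.1 hk

end Cfsg.Agent.Lib.Helper54
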