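import Mathlib
import Cfsg.Agent.Lib.Helper73.RUDefs
import Cfsg.Agent.Lib.Helper73.RUHub

set_option autoImplicit false

/-!
# K-RU4 leaf B (S2279): the triple commutator `[d₋₁,[d₋₁,d₀]] = 1 + l³ c₁ φ₋₁ᵀ`

The definitions `pen`, `g4`, `v4`, `c1`, `f1` are verbatim copies of those of the spec
`notes/S2279_primecore_helper2.lean.txt`.
-/

namespace Cfsg.Agent.Lib.Helper54.RU4B

open Matrix Cfsg.Agent.Lib.Helper73.RU Cfsg.Agent.Lib.Helper73.RUSpec

section defs
variable (m : ℕ) (F : Type*) [Field F]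

/-- the index `last - 1` -/
def pen : Fin (m + 3) := ⟨m + 1, by omega⟩

/-- the conjugator `g = 1 + l E_{last,0}` (a transvection) -/
def g4 (l : F) : Matrix (Fin (m + 3)) (Fin (m + 3)) F :=
  1 + Matrix.single (Fin.last (m + 2)) 0 l

/-- `v = g a g⁻¹ = a + l E_{last,1} - l E_{last-1,0}` -/
def v4 (l : F) : Matrix (Fin (m + 3)) (Fin (m + 3)) F :=
  aMat m F + Matrix.single (Fin.last (m + 2)) 1 l - Matrix.single (pen m) 0 l

/-- `c₁ = a e_last = e_last + e_{last-1}` -/
def c1 : Fin (m + 3) → F := Pi.single (Fin.last (m + 2)) 1 + Pi.single (pen m) 1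

/-- `φ₋₁ = e_0ᵀ a = e_0 + e_1` -/
def f1 : Fin (m + 3) → F := Pi.single 0 1 + Pi.single 1 1

/-- the alternating column `c₋₁`, `a c₋₁ = e_last` -/
def cm : Fin (m + 3) → F := fun i => (-1) ^ (m + 2 - i.val)

/-- the alternating row `φ₁`, `φ₁ a = e_0` -/
def p1 : Fin (m + 3) → F := fun i => (-1) ^ i.val

/-- the three columns `c₋₁, c₀, c₁` -/
def cols : Fin 3 → Fin (m + 3) → F := ![cm m F, Pi.single (Fin.last (m + 2)) 1, c1 m F]

/-- the three rows `φ₋₁, φ₀, φ₁` -/
def rows : Fin 3 → Fin (m + 3) → F := ![f1 m F, Pi.single 0 1, p1 m F]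

/-- the matrix with columns `c₋₁, c₀, c₁` -/
def CM : Matrix (Fin (m + 3)) (Fin 3) F := Matrix.of fun i k => cols m F k i

/-- the matrix with rows `φ₋₁, φ₀, φ₁` -/
def PM : Matrix (Fin 3) (Fin (m + 3)) F := Matrix.of fun k j => rows m F k j

/-- `1 + C X P` -/
def MX (X : Matrix (Fin 3) (Fin 3) F) : Matrix (Fin (m + 3)) (Fin (m + 3)) F :=
  1 + CM m F * X * PM m F

end defs


section amat
variable (m : ℕ) (F : Type*) [Field F]

theorem aMat_apply' (i j : Fin (m + 3)) :
    aMat m F i j = (if i = j then 1 else 0) + (if i.val + 1 = j.val then 1 else 0) := by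
  unfold aMat
  simp only [of_apply]
  by_cases h1 : i = j
  · subst h1
    simp
  · by_cases h2 : i.val + 1 = j.val
    · simp [h1, h2]
    · simp [h1, h2]

theorem aMat_mulVec_apply (v : Fin (m + 3) → F) (i : Fin (m + 3)) :
    (aMat m F *ᵥ v) i = v i + (if h : i.val + 1 < m + 3 then v ⟨i.val + 1, h⟩ else 0) := by
  simp only [mulVec, dotProduct, aMat_apply', add_mul, Finset.sum_add_distrib]
  congr 1
  · simp
  · split_ifs with h
    · rw [Finset.sum_eq_single (⟨i.val + 1, h⟩ : Fin (m + 3))]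
      · simp
      · intro b _ hb
        rw [if_neg, zero_mul]
        intro h'
        apply hb
        ext
        exact h'.symm
      · simp
    · apply Finset.sum_eq_zero
      intro j _
      rw [if_neg, zero_mul]
      have := j.2
      omega

theorem vecMul_aMat_apply (v : Fin (m + 3) → F) (j : Fin (m + 3)) :
    (v ᵥ* aMat m F) j = v j + (if h : 0 < j.val then v ⟨j.val - 1, by omega⟩ else 0) := by
  simp only [vecMul, dotProduct, aMat_apply', mul_add, Finset.sum_add_distrib]
  congr 1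
  · simp
  · split_ifs with h
    · rw [Finset.sum_eq_single (⟨j.val - 1, by omega⟩ : Fin (m + 3))]
      · have : j.val - 1 + 1 = j.val := by omega
        simp [this]
      · intro b _ hb
        rw [if_neg, mul_zero]
        intro h'
        apply hb
        ext
        simp only
        omega
      · simp
    · apply Finset.sum_eq_zero
      intro i _
      rw [if_neg, mul_zero]
      omega

/-- `a c₋₁ = e_last` -/
theorem aMat_mulVec_cm : aMat m F *ᵥ cm m F = Pi.single (Fin.last (m + 2)) 1 := by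
  ext i
  rw [aMat_mulVec_apply]
  unfold cm
  split_ifs with h
  · have hne : i ≠ Fin.last (m + 2) := by
      intro h'
      rw [h'] at h
      simp at h
    rw [Pi.single_apply, if_neg hne]
    have : m + 2 - i.val = (m + 2 - (i.val + 1)) + 1 := by omega
    simp only [this, pow_succ]
    ring
  · have hi : i = Fin.last (m + 2) := by
      ext
      have := i.2
      simp only [Fin.val_last]
      omega
    subst hi
    simp

/-- `a e_last = c₁` -/
theorem aMat_mulVec_last : aMat m F *ᵥ (Pi.single (Fin.last (m + 2)) 1 : Fin (m + 3) → F) = c1 m F := by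
  ext i
  rw [aMat_mulVec_apply]
  unfold c1 pen
  simp only [Pi.add_apply, Pi.single_apply]
  congr 1
  by_cases h : i.val + 1 < m + 3
  · rw [dif_pos h]
    by_cases h1 : i.val = m + 1
    · have e1 : (⟨i.val + 1, h⟩ : Fin (m + 3)) = Fin.last (m + 2) := by
        ext
        simp only [Fin.val_last]
        omega
      have e2 : i = (⟨m + 1, by omega⟩ : Fin (m + 3)) := by
        ext
        exact h1
      rw [if_pos e1, if_pos e2]
    · have e1 : (⟨i.val + 1, h⟩ : Fin (m + 3)) ≠ Fin.last (m + 2) := by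
        intro h'
        have := congrArg Fin.val h'
        simp only [Fin.val_last] at this
        omega
      have e2 : i ≠ (⟨m + 1, by omega⟩ : Fin (m + 3)) := by
        intro h'
        exact h1 (congrArg Fin.val h')
      rw [if_neg e1, if_neg e2]
  · rw [dif_neg h]
    have e2 : i ≠ (⟨m + 1, by omega⟩ : Fin (m + 3)) := by
      intro h'
      have := congrArg Fin.val h'
      simp only at this
      omega
    rw [if_neg e2]

/-- `φ₁ a = e_0` -/
theorem p1_vecMul_aMat : p1 m F ᵥ* aMat m F = Pi.single 0 1 := by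
  ext j
  rw [vecMul_aMat_apply]
  unfold p1
  split_ifs with h
  · have hne : j ≠ 0 := by
      intro h'
      rw [h'] at h
      simp at h
    rw [Pi.single_apply, if_neg hne]
    have : j.val = (j.val - 1) + 1 := by omega
    simp only
    conv_lhs => rw [this, pow_succ]
    simp
  · have hj : j = 0 := by
      ext
      simp only [Fin.val_zero]
      omega
    subst hj
    simp

/-- row `0` of `aMat` -/
theorem e0_vecMul_aMat :
    (Pi.single 0 1 : Fin (m + 3) → F) ᵥ* aMat m F = f1 m F := by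
  ext j
  rw [vecMul_aMat_apply]
  unfold f1
  simp only [Pi.add_apply, Pi.single_apply]
  congr 1
  by_cases h : 0 < j.val
  · rw [dif_pos h]
    by_cases h1 : j.val = 1
    · have e1 : (⟨j.val - 1, by omega⟩ : Fin (m + 3)) = 0 := by
        ext
        simp only [Fin.val_zero]
        omega
      have e2 : j = 1 := by
        ext
        simp only [Fin.val_one]
        exact h1
      rw [if_pos e1, if_pos e2]
    · have e1 : (⟨j.val - 1, by omega⟩ : Fin (m + 3)) ≠ 0 := by
        intro h'
        have := congrArg Fin.val h'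
        simp only [Fin.val_zero] at this
        omega
      have e2 : j ≠ 1 := by
        intro h'
        apply h1
        rw [h']
        simp
      rw [if_neg e1, if_neg e2]
  · rw [dif_neg h]
    have e2 : j ≠ 1 := by
      intro h'
      apply h
      rw [h']
      simp
    rw [if_neg e2]

end amat


section pairing
variable (m : ℕ) (F : Type*) [Field F]

theorem f1_dot (v : Fin (m + 3) → F) : f1 m F ⬝ᵥ v = v 0 + v 1 := by
  unfold f1
  rw [add_dotProduct, single_dotProduct, single_dotProduct, one_mul, one_mul]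

theorem e0_dot (v : Fin (m + 3) → F) : (Pi.single 0 1 : Fin (m + 3) → F) ⬝ᵥ v = v 0 := by
  rw [single_dotProduct, one_mul]

theorem dot_last (w : Fin (m + 3) → F) :
    w ⬝ᵥ (Pi.single (Fin.last (m + 2)) 1 : Fin (m + 3) → F) = w (Fin.last (m + 2)) := by
  rw [dotProduct_single, mul_one]

theorem dot_c1 (w : Fin (m + 3) → F) : w ⬝ᵥ c1 m F = w (Fin.last (m + 2)) + w (pen m) := by
  unfold c1
  rw [dotProduct_add, dotProduct_single, dotProduct_single, mul_one, mul_one]

/-- `ε = (-1)^m` -/
def eps : F := (-1) ^ m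

/-- `ν = φ₁ ⬝ c₋₁` -/
def nu : F := p1 m F ⬝ᵥ cm m F

theorem eps_mul_eps : eps m F * eps m F = 1 := by
  unfold eps
  rw [← pow_add, ← two_mul, pow_mul]
  simp

/-- the pairing table -/
def KM : Matrix (Fin 3) (Fin 3) F := !![0, 0, 0; eps m F, 0, 0; nu m F, eps m F, 0]

theorem last_ne_zero : (Fin.last (m + 2) : Fin (m + 3)) ≠ 0 := by
  intro h
  have := congrArg Fin.val h
  simp at this

theorem last_ne_one : (Fin.last (m + 2) : Fin (m + 3)) ≠ 1 := by
  intro h
  have := congrArg Fin.val h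
  simp at this

theorem pen_ne_zero : pen m ≠ 0 := by
  intro h
  have := congrArg Fin.val h
  simp [pen] at this

theorem pen_ne_one (hm : 1 ≤ m) : pen m ≠ 1 := by
  intro h
  have := congrArg Fin.val h
  simp [pen] at this
  omega

theorem k00 : f1 m F ⬝ᵥ cm m F = 0 := by
  rw [f1_dot]
  unfold cm
  simp only [Fin.val_zero, Fin.val_one, Nat.sub_zero]
  have : m + 2 = (m + 2 - 1) + 1 := by omega
  conv_lhs => rw [this, pow_succ]
  simp

theorem k01 : f1 m F ⬝ᵥ (Pi.single (Fin.last (m + 2)) 1 : Fin (m + 3) → F) = 0 := by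
  rw [f1_dot, Pi.single_apply, Pi.single_apply, if_neg (last_ne_zero m).symm,
    if_neg (last_ne_one m).symm, add_zero]

theorem k02 (hm : 1 ≤ m) : f1 m F ⬝ᵥ c1 m F = 0 := by
  rw [f1_dot]
  unfold c1
  simp only [Pi.add_apply, Pi.single_apply]
  rw [if_neg (last_ne_zero m).symm, if_neg (last_ne_one m).symm, if_neg (pen_ne_zero m).symm,
    if_neg (pen_ne_one m hm).symm]
  simp

theorem k10 : (Pi.single 0 1 : Fin (m + 3) → F) ⬝ᵥ cm m F = eps m F := by
  rw [e0_dot]
  unfold cm eps
  simp only [Fin.val_zero, Nat.sub_zero]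
  rw [pow_add]
  simp

theorem k11 : (Pi.single 0 1 : Fin (m + 3) → F) ⬝ᵥ
    (Pi.single (Fin.last (m + 2)) 1 : Fin (m + 3) → F) = 0 := by
  rw [e0_dot, Pi.single_apply, if_neg (last_ne_zero m).symm]

theorem k12 : (Pi.single 0 1 : Fin (m + 3) → F) ⬝ᵥ c1 m F = 0 := by
  rw [e0_dot]
  unfold c1
  simp only [Pi.add_apply, Pi.single_apply]
  rw [if_neg (last_ne_zero m).symm, if_neg (pen_ne_zero m).symm, add_zero]

theorem k21 : p1 m F ⬝ᵥ (Pi.single (Fin.last (m + 2)) 1 : Fin (m + 3) → F) = eps m F := by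
  rw [dot_last]
  unfold p1 eps
  simp only [Fin.val_last]
  rw [pow_add]
  simp

theorem k22 : p1 m F ⬝ᵥ c1 m F = 0 := by
  rw [dot_c1]
  unfold p1 pen
  simp only [Fin.val_last]
  rw [pow_succ]
  simp

theorem PM_mul_CM (hm : 1 ≤ m) : PM m F * CM m F = KM m F := by
  have key : ∀ i j : Fin 3, rows m F i ⬝ᵥ cols m F j = KM m F i j := by
    intro i j
    fin_cases i <;> fin_cases j
    · exact k00 m F
    · exact k01 m F
    · exact k02 m F hm
    · exact k10 m F
    · exact k11 m F
    · exact k12 m F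
    · rfl
    · exact k21 m F
    · exact k22 m F
  ext i j
  rw [← key i j]
  rfl

end pairing


section three
variable (m : ℕ) (F : Type*) [Field F]

/-- `X ∘ Y = X + Y + X K Y` -/
def op3 (X Y : Matrix (Fin 3) (Fin 3) F) : Matrix (Fin 3) (Fin 3) F := X + Y + X * KM m F * Y

def X1 (l : F) : Matrix (Fin 3) (Fin 3) F := !![l, 0, 0; 0, -l, 0; 0, 0, 0]

def X0 (l : F) : Matrix (Fin 3) (Fin 3) F := !![0, 0, 0; 0, l, 0; 0, 0, -l]

def YX (l : F) : Matrix (Fin 3) (Fin 3) F :=
  !![0, 0, 0; -(l ^ 2 * eps m F), 0, 0; l ^ 2 * nu m F + l ^ 3, -(l ^ 2 * eps m F), 0]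

def TX (l : F) : Matrix (Fin 3) (Fin 3) F := !![0, 0, 0; 0, 0, 0; l ^ 3, 0, 0]

theorem id1 (l : F) :
    op3 m F (X1 F l) (X0 F l) = op3 m F (op3 m F (YX m F l) (X0 F l)) (X1 F l) := by
  have he := eps_mul_eps m F
  unfold op3 X1 X0 YX KM
  generalize eps m F = e at he ⊢
  generalize nu m F = n
  ext i j
  fin_cases i <;> fin_cases j <;>
    simp [Matrix.mul_apply, Fin.sum_univ_three] <;>
    first
      | ring1
      | linear_combination (l ^ 3) * he
      | linear_combination (-(l ^ 3)) * he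

theorem id2 (l : F) :
    op3 m F (X1 F l) (YX m F l) = op3 m F (op3 m F (TX F l) (YX m F l)) (X1 F l) := by
  have he := eps_mul_eps m F
  unfold op3 X1 TX YX KM
  generalize eps m F = e at he ⊢
  generalize nu m F = n
  ext i j
  fin_cases i <;> fin_cases j <;>
    simp [Matrix.mul_apply, Fin.sum_univ_three] <;>
    first
      | ring1
      | linear_combination (l ^ 3) * he
      | linear_combination (-(l ^ 3)) * he

end three


section glue
variable (m : ℕ) (F : Type*) [Field F]

theorem key_sub (l : F) :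
    l • (vecMulVec (Pi.single (Fin.last (m + 2)) 1 : Fin (m + 3) → F) (f1 m F) -
      vecMulVec (c1 m F) (Pi.single 0 1 : Fin (m + 3) → F)) =
    Matrix.single (Fin.last (m + 2)) 1 l - Matrix.single (pen m) 0 l := by
  unfold f1 c1
  rw [vecMulVec_add, add_vecMulVec, ← single_eq_single_vecMulVec_single,
    ← single_eq_single_vecMulVec_single, ← single_eq_single_vecMulVec_single,
    add_sub_add_left_eq_sub, smul_sub, smul_single, smul_single, smul_eq_mul, mul_one]

theorem CXP_X1 (l : F) :
    CM m F * X1 F l * PM m F =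
      l • (vecMulVec (cm m F) (f1 m F) -
        vecMulVec (Pi.single (Fin.last (m + 2)) 1 : Fin (m + 3) → F) (Pi.single 0 1)) := by
  ext a b
  simp only [Matrix.mul_apply, Fin.sum_univ_three, X1, CM, PM, cols, rows, vecMulVec_apply,
    Matrix.smul_apply, Matrix.sub_apply, Matrix.of_apply, smul_eq_mul]
  simp
  ring

theorem CXP_X0 (l : F) :
    CM m F * X0 F l * PM m F =
      l • (vecMulVec (Pi.single (Fin.last (m + 2)) 1 : Fin (m + 3) → F) (Pi.single 0 1) -
        vecMulVec (c1 m F) (p1 m F)) := by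
  ext a b
  simp only [Matrix.mul_apply, Fin.sum_univ_three, X0, CM, PM, cols, rows, vecMulVec_apply,
    Matrix.smul_apply, Matrix.sub_apply, Matrix.of_apply, smul_eq_mul]
  simp
  ring

theorem CXP_TX (l : F) :
    CM m F * TX F l * PM m F = vecMulVec (l ^ 3 • c1 m F) (f1 m F) := by
  ext a b
  simp only [Matrix.mul_apply, Fin.sum_univ_three, TX, CM, PM, cols, rows, vecMulVec_apply,
    Matrix.of_apply, Pi.smul_apply, smul_eq_mul]
  simp
  left
  ring

theorem aMat_mul_MX1 (l : F) : aMat m F * MX m F (X1 F l) = v4 m F l := by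
  unfold MX
  rw [CXP_X1, Matrix.mul_add, Matrix.mul_one, Matrix.mul_smul, Matrix.mul_sub, mul_vecMulVec,
    mul_vecMulVec, aMat_mulVec_cm, aMat_mulVec_last, key_sub]
  unfold v4
  abel

theorem MX0_mul_aMat (l : F) : MX m F (X0 F l) * aMat m F = v4 m F l := by
  unfold MX
  rw [CXP_X0, Matrix.add_mul, Matrix.one_mul, Matrix.smul_mul, Matrix.sub_mul, vecMulVec_mul,
    vecMulVec_mul, e0_vecMul_aMat, p1_vecMul_aMat, key_sub]
  unfold v4
  abel

theorem MX_TX (l : F) : MX m F (TX F l) = tvm (l ^ 3 • c1 m F) (f1 m F) := by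
  unfold MX tvm
  rw [CXP_TX]

end glue

section calc3
variable {m : ℕ} {F : Type*} [Field F]

theorem MX_mul (K : Matrix (Fin 3) (Fin 3) F) (hK : PM m F * CM m F = K)
    (X Y : Matrix (Fin 3) (Fin 3) F) :
    MX m F X * MX m F Y = MX m F (X + Y + X * K * Y) := by
  unfold MX
  rw [← hK]
  simp only [Matrix.mul_add, Matrix.add_mul, Matrix.mul_one, Matrix.one_mul, Matrix.mul_assoc]
  abel

end calc3

section final
variable {m : ℕ} {F : Type*} [Field F]

/-- LEAF B of K-RU4 (S2279): the transvection `[d₋₁,[d₋₁,d₀]] = 1 + l³ c₁ φ₋₁ᵀ` lies in `G` -/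
theorem tv_mem (hm : 1 ≤ m)
    {G : Subgroup (SpecialLinearGroup (Fin (m + 3)) F)} (l : F)
    (ha : InG G (aMat m F)) (hv : InG G (v4 m F l)) :
    InG G (tvm (l ^ 3 • c1 m F) (f1 m F)) := by
  have hK := PM_mul_CM m F hm
  have hD1 : InG G (MX m F (X1 F l)) :=
    inG_of_mul_left ha (by rw [aMat_mul_MX1]; exact hv)
  have hD0 : InG G (MX m F (X0 F l)) :=
    inG_of_mul_right ha (by rw [MX0_mul_aMat]; exact hv)
  have hY : InG G (MX m F (YX m F l)) := by
    have h1 : MX m F (X1 F l) * MX m F (X0 F l) =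
        MX m F (YX m F l) * (MX m F (X0 F l) * MX m F (X1 F l)) := by
      rw [← Matrix.mul_assoc, MX_mul _ hK, MX_mul _ hK, MX_mul _ hK]
      exact congrArg (MX m F) (id1 m F l)
    exact inG_of_mul_right (inG_mul hD0 hD1) (h1 ▸ inG_mul hD1 hD0)
  have hT : InG G (MX m F (TX F l)) := by
    have h1 : MX m F (X1 F l) * MX m F (YX m F l) =
        MX m F (TX F l) * (MX m F (YX m F l) * MX m F (X1 F l)) := by
      rw [← Matrix.mul_assoc, MX_mul _ hK, MX_mul _ hK, MX_mul _ hK]
      exact congrArg (MX m F) (id2 m F l)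
    exact inG_of_mul_right (inG_mul hY hD1) (h1 ▸ inG_mul hD1 hY)
  rw [MX_TX] at hT
  exact hT

end final

end Cfsg.Agent.Lib.Helper54.RU4B
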