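import Mathlib
import Cfsg.Agent.Lib.Helper72.A4ODefs

/-!
# K-A4O-L2 `isPGroup_centralizer_of_epo` (keystone 406803 for S4068)

In a group all of whose nonidentity elements have prime order, the centralizer of `g ≠ 1` is a
`p`-group for `p = orderOf g`: a commuting element of another prime order `q` would give `g * y`
of order `p * q`.
-/

set_option autoImplicit false

namespace Cfsg.Agent.Lib.Helper54.A4O

open Cfsg.Agent.Lib.Helper72.A4O

universe u

/-- 406803 A4O-L2 (EASY-MEDIUM): EPO => centralizers of nonidentity elements are p-groups. -/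
theorem isPGroup_centralizer_of_epo {G : Type u} [Group G] [Finite G] (hep : EPO G) (g : G) (hg : g ≠ 1) :
    IsPGroup (orderOf g) (Subgroup.centralizer ({g} : Set G)) := by
  have hp : (orderOf g).Prime := hep g hg
  rintro ⟨y, hy⟩
  by_cases hy1 : y = 1
  · refine ⟨0, ?_⟩
    apply Subtype.ext
    simp [hy1]
  · have hq : (orderOf y).Prime := hep y hy1
    by_cases hpq : orderOf y = orderOf g
    · refine ⟨1, ?_⟩
      apply Subtype.ext
      rw [pow_one, ← hpq]
      simp only [Subgroup.coe_pow, Subgroup.coe_one]
      exact pow_orderOf_eq_one y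
    · exfalso
      have hcomm : Commute g y := by
        have := Subgroup.mem_centralizer_iff.1 hy g (Set.mem_singleton g)
        exact this
      have hcop : Nat.Coprime (orderOf g) (orderOf y) :=
        (Nat.coprime_primes hp hq).2 (fun h => hpq h.symm)
      have hord : orderOf (g * y) = orderOf g * orderOf y :=
        hcomm.orderOf_mul_eq_mul_orderOf_of_coprime hcop
      have hgy1 : g * y ≠ 1 := by
        intro h
        rw [h, orderOf_one] at hord
        have h1 : orderOf g = 1 := Nat.eq_one_of_mul_eq_one_right hord.symm
        exact hp.one_lt.ne' h1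
      have hpr : (orderOf (g * y)).Prime := hep (g * y) hgy1
      rw [hord] at hpr
      exact Nat.not_prime_mul hp.one_lt.ne' hq.one_lt.ne' hpr

end Cfsg.Agent.Lib.Helper54.A4O
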