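import Mathlib
import Cfsg.Prelude.Def_GeometricClasses
import Cfsg.Agent.Lib.Helper61.AschDefs
import Cfsg.Agent.Lib.Helper61.AschBasic

/-!
# K-OEven-E7g (keystone 582615, architect helper46): `factor_perfect`

Pure group theory: a central product `N = (∏ Qs j) Z` which is perfect modulo the central subgroup `Z`
has every factor perfect modulo `Z`, provided the centre of every factor lies in `Z`.
-/

set_option autoImplicit false

namespace Cfsg.Agent.Lib.Helper54.AschE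

open Cfsg Cfsg.Geo Cfsg.Agent.Lib.Helper61.Asch
open scoped Matrix Kronecker MatrixGroups commutatorElement

section general

variable {G : Type*} [Group G]

/-- elements of the join of two elementwise commuting subgroups are products -/
theorem mem_sup_of_commute_e7g {A B : Subgroup G} (h : ∀ a ∈ A, ∀ b ∈ B, a * b = b * a) {g : G}
    (hg : g ∈ A ⊔ B) : ∃ a ∈ A, ∃ b ∈ B, g = a * b := by
  have hcomm : ∀ (a : A) (b : B), Commute (A.subtype a) (B.subtype b) := fun a b => h a a.2 b b.2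
  have hr := MonoidHom.noncommCoprod_range A.subtype B.subtype hcomm
  rw [Subgroup.range_subtype, Subgroup.range_subtype] at hr
  rw [← hr] at hg
  obtain ⟨⟨a, b⟩, rfl⟩ := hg
  exact ⟨a, a.2, b, b.2, by rw [MonoidHom.noncommCoprod_apply]; rfl⟩

/-- commutators of products of commuting pairs -/
theorem commutatorElement_mul_of_commute_e7g {a a' b b' : G} (h1 : a * b = b * a) (h2 : a * b' = b' * a)
    (h3 : a' * b = b * a') (h4 : a' * b' = b' * a') :
    ⁅a * b, a' * b'⁆ = ⁅a, a'⁆ * ⁅b, b'⁆ := by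
  let A : Subgroup G := Subgroup.closure {a, a'}
  let B : Subgroup G := Subgroup.centralizer (A : Set G)
  have haA : a ∈ A := Subgroup.subset_closure (by simp)
  have ha'A : a' ∈ A := Subgroup.subset_closure (by simp)
  have hBmem : ∀ y : G, a * y = y * a → a' * y = y * a' → y ∈ B := by
    intro y hy hy'
    rw [Subgroup.mem_centralizer_iff]
    intro x hx
    induction hx using Subgroup.closure_induction with
    | mem x hx =>
      rcases hx with rfl | hx
      · exact hy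
      · rw [Set.mem_singleton_iff.1 hx]; exact hy'
    | one => simp
    | mul x z _ _ hx hz => rw [mul_assoc, hz, ← mul_assoc, hx, mul_assoc]
    | inv x _ hx =>
      calc x⁻¹ * y = x⁻¹ * (y * x) * x⁻¹ := by group
        _ = x⁻¹ * (x * y) * x⁻¹ := by rw [hx]
        _ = y * x⁻¹ := by group
  have hbB : b ∈ B := hBmem b h1 h3
  have hb'B : b' ∈ B := hBmem b' h2 h4
  have hcomm : ∀ (x : A) (y : B), Commute (A.subtype x) (B.subtype y) := by
    intro x y
    have := Subgroup.mem_centralizer_iff.1 y.2 x x.2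
    exact this
  let φ := MonoidHom.noncommCoprod A.subtype B.subtype hcomm
  have e1 : a * b = φ (⟨a, haA⟩, ⟨b, hbB⟩) := by
    rw [MonoidHom.noncommCoprod_apply]; rfl
  have e2 : a' * b' = φ (⟨a', ha'A⟩, ⟨b', hb'B⟩) := by
    rw [MonoidHom.noncommCoprod_apply]; rfl
  rw [e1, e2, ← map_commutatorElement]
  have e3 : ⁅((⟨a, haA⟩ : A), (⟨b, hbB⟩ : B)), ((⟨a', ha'A⟩ : A), (⟨b', hb'B⟩ : B))⁆ =
      (⁅(⟨a, haA⟩ : A), ⟨a', ha'A⟩⁆, ⁅(⟨b, hbB⟩ : B), ⟨b', hb'B⟩⁆) := rfl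
  rw [e3, MonoidHom.noncommCoprod_apply]
  rfl

theorem commutator_sup_le_of_commute_e7g {A B : Subgroup G} (h : ∀ a ∈ A, ∀ b ∈ B, a * b = b * a) :
    ⁅A ⊔ B, A ⊔ B⁆ ≤ ⁅A, A⁆ ⊔ ⁅B, B⁆ := by
  rw [Subgroup.commutator_le]
  intro g₁ hg₁ g₂ hg₂
  obtain ⟨a, ha, b, hb, rfl⟩ := mem_sup_of_commute_e7g h hg₁
  obtain ⟨a', ha', b', hb', rfl⟩ := mem_sup_of_commute_e7g h hg₂
  rw [commutatorElement_mul_of_commute_e7g (h a ha b hb) (h a ha b' hb') (h a' ha' b hb) (h a' ha' b' hb')]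
  exact Subgroup.mul_mem _ (Subgroup.mem_sup_left (Subgroup.commutator_mem_commutator ha ha'))
    (Subgroup.mem_sup_right (Subgroup.commutator_mem_commutator hb hb'))

theorem commutator_le_self_e7g (A : Subgroup G) : ⁅A, A⁆ ≤ A := by
  rw [Subgroup.commutator_le]
  intro a ha b hb
  rw [commutatorElement_def]
  exact A.mul_mem (A.mul_mem (A.mul_mem ha hb) (A.inv_mem ha)) (A.inv_mem hb)

/-- general form of `factor_perfect`: `Z` any subgroup commuting elementwise with everything -/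
theorem factor_perfect_gen (Z : Subgroup G) (hZ : ∀ z ∈ Z, ∀ g : G, z * g = g * z)
    (N : Subgroup G) (t : ℕ) (Qs : Fin t → Subgroup G)
    (hQN : ∀ i, Qs i ≤ N) (hQcomm : ∀ i j, i ≠ j → ∀ x ∈ Qs i, ∀ y ∈ Qs j, x * y = y * x)
    (hNQ : N ≤ (⨆ i, Qs i) ⊔ Z) (hperf : ⁅N, N⁆ ⊔ Z = N)
    (hcen : ∀ i, ∀ x ∈ Qs i, (∀ y ∈ Qs i, x * y = y * x) → x ∈ Z) :
    ∀ i, Qs i ≤ ⁅Qs i, Qs i⁆ ⊔ Z := by
  intro i x hx
  -- `B` = centraliser of the factor `Qs i`
  let B : Subgroup G := Subgroup.centralizer (Qs i : Set G)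
  have hAB : ∀ a ∈ Qs i, ∀ b ∈ B, a * b = b * a := by
    intro a ha b hb
    exact Subgroup.mem_centralizer_iff.1 hb a ha
  have hZB : Z ≤ B := by
    intro z hz
    rw [Subgroup.mem_centralizer_iff]
    intro y _
    exact (hZ z hz y).symm
  have hQB : ∀ j, j ≠ i → Qs j ≤ B := by
    intro j hj y hy
    rw [Subgroup.mem_centralizer_iff]
    intro a ha
    exact hQcomm i j (Ne.symm hj) a ha y hy
  have hNle : N ≤ Qs i ⊔ B := by
    refine hNQ.trans (sup_le (iSup_le fun j => ?_) (hZB.trans le_sup_right))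
    by_cases hj : j = i
    · rw [hj]; exact le_sup_left
    · exact (hQB j hj).trans le_sup_right
  have hcomm : ⁅N, N⁆ ≤ ⁅Qs i, Qs i⁆ ⊔ B :=
    (Subgroup.commutator_mono hNle hNle).trans
      ((commutator_sup_le_of_commute_e7g hAB).trans
        (sup_le_sup_left (commutator_le_self_e7g B) _))
  have hxN : x ∈ ⁅N, N⁆ ⊔ Z := by rw [hperf]; exact hQN i hx
  have hx2 : x ∈ ⁅Qs i, Qs i⁆ ⊔ B := (sup_le hcomm (hZB.trans le_sup_right)) hxN
  have hDB : ∀ d ∈ ⁅Qs i, Qs i⁆, ∀ b ∈ B, d * b = b * d :=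
    fun d hd b hb => hAB d (commutator_le_self_e7g (Qs i) hd) b hb
  obtain ⟨d, hd, b, hb, rfl⟩ := mem_sup_of_commute_e7g hDB hx2
  have hdQ : d ∈ Qs i := commutator_le_self_e7g (Qs i) hd
  have hbQ : b ∈ Qs i := by
    have : b = d⁻¹ * (d * b) := by group
    rw [this]
    exact (Qs i).mul_mem ((Qs i).inv_mem hdQ) hx
  have hbZ : b ∈ Z := hcen i b hbQ (fun y hy => (hAB y hy b hb).symm)
  exact Subgroup.mul_mem _ (Subgroup.mem_sup_left hd) (Subgroup.mem_sup_right hbZ)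

end general

variable {F : Type*} [Field F] [Fintype F] {n : ℕ}

local notation "Z" => scalars (Fin n) F

omit [Fintype F] in
/-- K-OEven-E7g. -/
theorem factor_perfect (N : Subgroup (GL (Fin n) F)) (t : ℕ) (Qs : Fin t → Subgroup (GL (Fin n) F))
    (hQN : ∀ i, Qs i ≤ N) (hQcomm : ∀ i j, i ≠ j → ∀ x ∈ Qs i, ∀ y ∈ Qs j, x * y = y * x)
    (hNQ : N ≤ (⨆ i, Qs i) ⊔ Z) (hperf : ⁅N, N⁆ ⊔ Z = N)
    (hcen : ∀ i, ∀ x ∈ Qs i, (∀ y ∈ Qs i, x * y = y * x) → x ∈ Z) :
    ∀ i, Qs i ≤ ⁅Qs i, Qs i⁆ ⊔ Z :=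
  factor_perfect_gen Z (fun _ hz g => scalar_comm hz g) N t Qs hQN hQcomm hNQ hperf hcen

end Cfsg.Agent.Lib.Helper54.AschE
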