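import Mathlib
import Cfsg.Agent.S1405
import Cfsg.Agent.S1406
import Cfsg.Agent.Lib.Helper39.HyperplaneGen

/-! # K-S1416-K5 : `M_α = 1` (BG 12.4, step 2) -/

set_option autoImplicit false

namespace Cfsg.Agent.Lib.Helper54.BG124

open Cfsg

variable {G : Type*} [Group G] [Finite G]

/-- the image of a normal subgroup of `M` is normalized by `M` -/
theorem le_normalizer_map_subtype (M : Subgroup G) (N : Subgroup M) [hN : N.Normal] :
    M ≤ Subgroup.normalizer ((N.map M.subtype : Subgroup G) : Set G) := by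
  intro a ha
  rw [Subgroup.mem_normalizer_iff]
  intro x
  constructor
  · rintro ⟨n, hn, rfl⟩
    exact ⟨⟨a, ha⟩ * n * ⟨a, ha⟩⁻¹, hN.conj_mem n hn ⟨a, ha⟩, rfl⟩
  · rintro ⟨n, hn, hx⟩
    refine ⟨⟨a, ha⟩⁻¹ * n * ⟨a, ha⟩, ?_, ?_⟩
    · have := hN.conj_mem n hn (⟨a, ha⟩⁻¹ : M)
      simpa using this
    · have hx' : (n : G) = a * x * a⁻¹ := hx
      show (a⁻¹ * (n : G) * a : G) = x
      rw [hx']
      group

/-- a `q`-element of `M` lies in every normal subgroup of `M` of index prime to `q` -/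
theorem mem_of_pow_eq_one_of_not_dvd_index {M : Type*} [Group M] [Finite M] (N : Subgroup M) [N.Normal]
    {q : ℕ} (hq : q.Prime) (hidx : ¬ q ∣ N.index) (b : M) (hb : b ^ q = 1) : b ∈ N := by
  have h1 : orderOf (QuotientGroup.mk' N b) ∣ q := by
    apply orderOf_dvd_of_pow_eq_one
    rw [← map_pow, hb, map_one]
  have h2 : orderOf (QuotientGroup.mk' N b) ∣ N.index := by
    rw [Subgroup.index_eq_card]
    exact orderOf_dvd_natCard _
  have h3 : orderOf (QuotientGroup.mk' N b) = 1 := by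
    rcases (Nat.dvd_prime hq).mp h1 with h | h
    · exact h
    · exact absurd (h ▸ h2) hidx
  rw [orderOf_eq_one_iff] at h3
  exact (QuotientGroup.eq_one_iff b).mp h3

variable {M A : Subgroup G} {p : ℕ} [Fact p.Prime]

theorem alphaCore_eq_bot (hG : IsMinSimpleOddOrder G) (hM : IsCoatom M) (hAM : A ≤ M)
    (hAe : IsElementaryAbelian p A) (hA2 : Nat.card A = p ^ 2) (hα : p ∉ alpha M)
    (h : ∀ A₀ : Subgroup G, A₀ ≤ A → Nat.card A₀ = p → ∃ H : Subgroup G, IsCoatom H ∧ H ≠ M ∧
      Subgroup.normalizer (A₀ : Set G) ≤ H ∧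
      A ≤ Subgroup.centralizer ((alphaCore M ⊓ H : Subgroup G) : Set G)) :
    alphaCore M = ⊥ := by
  classical
  have hp : p.Prime := Fact.out
  obtain ⟨hHallM, -, -, -, -⟩ := Cfsg.Agent.S1405.result hG M hM
  obtain ⟨hαM, hαpi, hαidx⟩ := hHallM
  -- coprimality
  have hnd : ¬ p ∣ Nat.card (alphaCore M) := fun hd => hα (hαpi p hp hd)
  have hcop : (Nat.card (alphaCore M)).Coprime p :=
    Nat.Coprime.symm ((Nat.Prime.coprime_iff_not_dvd hp).mpr hnd)
  -- A normalizes M_α
  have hAN : A ≤ Subgroup.normalizer ((alphaCore M : Subgroup G) : Set G) :=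
    hAM.trans (le_normalizer_map_subtype M (piCore (alpha M) M))
  have hAc : ∀ a ∈ A, ∀ b ∈ A, a * b = b * a := by
    intro a ha b hb
    have := hAe.1.is_comm.comm (⟨a, ha⟩ : A) ⟨b, hb⟩
    exact congrArg Subtype.val this
  have hAp : ∀ a ∈ A, a ^ p = 1 := hAe.2
  -- STEP: M_α ≤ C(A)
  have hcent : alphaCore M ≤ Subgroup.centralizer (A : Set G) := by
    apply Cfsg.Agent.Lib.Helper39.le_of_hyperplane_centralizers_le (p := p) hAc hAp hcop hAN
    intro B hBA hcard
    have hdvd : Nat.card B ∣ p ^ 2 := by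
      rw [← hA2]; exact Subgroup.card_dvd_of_le hBA
    obtain ⟨k, hk2, hk⟩ := (Nat.dvd_prime_pow hp).mp hdvd
    have hkpos : 1 ≤ k := by
      by_contra hk0
      have hk0' : k = 0 := by omega
      rw [hk, hk0', pow_zero, mul_one, hA2] at hcard
      have : p < p ^ 2 := by
        calc p = p ^ 1 := (pow_one p).symm
          _ < p ^ 2 := Nat.pow_lt_pow_right hp.one_lt (by norm_num)
      omega
    have hk12 : k = 1 ∨ k = 2 := by omega
    rcases hk12 with rfl | rfl
    · rw [pow_one] at hk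
      obtain ⟨H, -, -, hN, hcen⟩ := h B hBA hk
      intro x hx
      have hxH : x ∈ H := hN (Subgroup.centralizer_le_normalizer _ hx.2)
      rw [Subgroup.mem_centralizer_iff]
      intro a ha
      have h1 := hcen ha
      rw [Subgroup.mem_centralizer_iff] at h1
      exact (h1 x ⟨hx.1, hxH⟩).symm
    · have hBA' : B = A := Subgroup.eq_of_le_of_card_ge hBA (by rw [hA2, hk])
      rw [hBA']
      exact inf_le_right
  -- suppose M_α ≠ 1
  by_contra hne
  have hcard1 : Nat.card (alphaCore M) ≠ 1 := by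
    intro h1
    exact hne (Subgroup.card_eq_one.mp h1)
  obtain ⟨q, hq, hqd⟩ := Nat.exists_prime_and_dvd hcard1
  have hqα : q ∈ alpha M := hαpi q hq hqd
  have hqidx : ¬ q ∣ (alphaCore M).relIndex M := hαidx q hq hqα
  -- an elementary abelian subgroup of M of order > q^2
  have hrank : ¬ PRankLE q 2 ↥M := hqα.2
  unfold PRankLE at hrank
  push_neg at hrank
  obtain ⟨B, hBc, hBq, hBcard⟩ := hrank
  -- index of the piCore
  have hsub : (alphaCore M).subgroupOf M = piCore (alpha M) M := by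
    unfold alphaCore Subgroup.subgroupOf
    exact Subgroup.comap_map_eq_self_of_injective M.subtype_injective _
  have hidx' : ¬ q ∣ (piCore (alpha M) ↥M).index := by
    rw [← hsub]; exact hqidx
  have hBle : B ≤ piCore (alpha M) ↥M := by
    intro b hb
    exact mem_of_pow_eq_one_of_not_dvd_index (piCore (alpha M) ↥M) hq hidx' b (hBq b hb)
  have hB' : B.map M.subtype ≤ alphaCore M ⊓ Subgroup.centralizer (A : Set G) := by
    have h1 : B.map M.subtype ≤ alphaCore M := Subgroup.map_mono hBle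
    exact le_inf h1 (h1.trans hcent)
  -- rank of M_α ∩ C(A)
  have hr : ¬ RankLE 1 ↥(alphaCore M ⊓ Subgroup.centralizer (A : Set G)) := by
    intro hR
    set K : Subgroup G := alphaCore M ⊓ Subgroup.centralizer (A : Set G) with hK
    have hcomm : IsMulCommutative ↥((B.map M.subtype).subgroupOf K) := by
      refine ⟨⟨fun x y => ?_⟩⟩
      obtain ⟨b1, hb1, hx⟩ := Subgroup.mem_subgroupOf.mp x.2
      obtain ⟨b2, hb2, hy⟩ := Subgroup.mem_subgroupOf.mp y.2
      have hc := hBc.is_comm.comm (⟨b1, hb1⟩ : B) ⟨b2, hb2⟩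
      have hc' : (b1 : ↥M) * b2 = b2 * b1 := congrArg Subtype.val hc
      apply Subtype.ext
      apply Subtype.ext
      show ((x : K) : G) * ((y : K) : G) = ((y : K) : G) * ((x : K) : G)
      have hx' : ((b1 : ↥M) : G) = ((x : K) : G) := hx
      have hy' : ((b2 : ↥M) : G) = ((y : K) : G) := hy
      rw [← hx', ← hy']
      exact congrArg Subtype.val hc'
    have hexp : ∀ a ∈ (B.map M.subtype).subgroupOf K, a ^ q = 1 := by
      intro a ha
      obtain ⟨b, hb, hab⟩ := Subgroup.mem_subgroupOf.mp ha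
      apply Subtype.ext
      show ((a ^ q : K) : G) = 1
      rw [Subgroup.coe_pow]
      have hab' : ((b : ↥M) : G) = (a : G) := hab
      rw [← hab', ← Subgroup.coe_pow, hBq b hb]
      rfl
    have hle := hR q hq ((B.map M.subtype).subgroupOf K) hcomm hexp
    have hcardeq : Nat.card ((B.map M.subtype).subgroupOf K) = Nat.card B := by
      rw [Nat.card_congr (Subgroup.subgroupOfEquivOfLe hB').toEquiv,
        Subgroup.card_map_of_injective M.subtype_injective]
    rw [hcardeq, pow_one] at hle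
    have : q ^ 2 < Nat.card B := by omega
    have hq2 : q ≤ q ^ 2 := by
      calc q = q ^ 1 := (pow_one q).symm
        _ ≤ q ^ 2 := Nat.pow_le_pow_right hq.pos (by norm_num)
    omega
  -- S1406
  have hXα : ∀ r : ℕ, r.Prime → r ∣ Nat.card A → r ∉ alpha M := by
    intro r hr' hrd
    rw [hA2] at hrd
    have : r = p := (Nat.prime_dvd_prime_iff_eq hr' hp).mp (hr'.dvd_of_dvd_pow hrd)
    rw [this]; exact hα
  obtain ⟨L, -, hLuniq⟩ := Cfsg.Agent.S1406.result hG M hM A hAM hXα hr
  -- a subgroup of order p of A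
  obtain ⟨A₀, hA₀A, hA₀p⟩ : ∃ A₀ : Subgroup G, A₀ ≤ A ∧ Nat.card A₀ = p := by
    have hdvd : p ∣ Nat.card A := by rw [hA2]; exact dvd_pow_self p two_ne_zero
    obtain ⟨x, hx⟩ := exists_prime_orderOf_dvd_card' (G := A) p hdvd
    refine ⟨(Subgroup.zpowers x).map A.subtype, Subgroup.map_subtype_le _, ?_⟩
    rw [Subgroup.card_map_of_injective A.subtype_injective, Nat.card_zpowers, hx]
  obtain ⟨H, hH, hHne, hN, -⟩ := h A₀ hA₀A hA₀p
  have hMH : M ⊓ Subgroup.centralizer (A : Set G) ≤ H :=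
    inf_le_right.trans ((Subgroup.centralizer_le (SetLike.coe_subset_coe.mpr hA₀A)).trans
      ((Subgroup.centralizer_le_normalizer _).trans hN))
  have e1 : H = L := hLuniq H ⟨hH, hMH⟩
  have e2 : M = L := hLuniq M ⟨hM, inf_le_left⟩
  exact hHne (e1.trans e2.symm)

end Cfsg.Agent.Lib.Helper54.BG124
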