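import Mathlib
import Cfsg.Agent.Lib.Helper15.BG147Defs
import Cfsg.Agent.Lib.Helper54.BG134A3a
import Cfsg.Agent.Lib.Helper12.CNMaxSub

/-!
# K-147C-C9 (keystone 147109, architect helper15): the Hall `κ(H)`-subgroup `KH ⊇ R0` of the partner `H`
-/

set_option autoImplicit false

namespace Cfsg.Agent.Lib.Helper54.BG147

open Cfsg Cfsg.Agent.Lib.Helper55 Cfsg.Agent.Lib.Helper31.BG134 Cfsg.Agent.Lib.Helper15.BG139
  Cfsg.Agent.Lib.Helper15.BG142 Cfsg.Agent.Lib.Helper15.BG147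

variable {G : Type*} [Group G] [Finite G]

/-- LEAF C9 (147109) -/
theorem exists_KH_of_R0 {M K X H R0 : Subgroup G} (c : CL M K X H) (c1 : CL1 M K X H)
    (hD : sigmaCore H ⊓ M ≤ K) (hZ : M ⊓ H = K ⊔ KStar M K)
    (hR0Z : R0 ≤ K ⊔ KStar M K) (hsup : (K ⊓ sigmaCore H) ⊔ R0 = K ⊔ KStar M K)
    (hKsR : KStar M K ≤ R0) (hR0κ : ∀ r : ℕ, r.Prime → r ∣ Nat.card R0 → r ∈ kappa H) :
    ∃ KH : Subgroup G, IsPiHallOf (kappa H) KH H ∧ KStar M K ≤ KH ∧ KH ≤ K ⊔ KStar M K ∧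
      KStar H KH = K ⊓ sigmaCore H ∧ KH ⊔ KStar H KH = K ⊔ KStar M K := by
  obtain ⟨hG, hM, hK, hK1, hXK, hXp, hH, hNH⟩ := c
  have hsolv : Group.IsSolvable ↥H := ms_solvable hG hH.1
  obtain ⟨KH, hKH, hR0KH⟩ := Cfsg.Agent.Lib.Helper54.BG134.exists_isPiHallOf_ge hsolv (kappa H)
    (hR0Z.trans c1.hZH) hR0κ
  have hKsKH : KStar M K ≤ KH := hKsR.trans hR0KH
  have hKH1 : KH ≠ ⊥ := fun h => c1.hKs (by rw [eq_bot_iff, ← h]; exact hKsKH)
  obtain ⟨E, ks⟩ := exists_ks hG hM hK hK1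
  obtain ⟨E', ks'⟩ := exists_ks hG hH hKH hKH1
  -- an element of prime order of `K*`
  obtain ⟨y, hyKs, hyq⟩ : ∃ y ∈ KStar M K, (orderOf y).Prime := by
    have hnt : Nontrivial ↥(KStar M K) := (Subgroup.nontrivial_iff_ne_bot _).mpr c1.hKs
    have h1 : Nat.card ↥(KStar M K) ≠ 1 := by
      intro h
      have := (Nat.card_eq_one_iff_unique.mp h).1
      exact not_subsingleton ↥(KStar M K) this
    obtain ⟨p, hp, hpd⟩ := Nat.exists_prime_and_dvd h1
    have : Fact p.Prime := ⟨hp⟩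
    obtain ⟨y, hy⟩ := exists_prime_orderOf_dvd_card' p hpd
    refine ⟨(y : G), y.2, ?_⟩
    rw [Subgroup.orderOf_coe, hy]; exact hp
  set Y : Subgroup G := Subgroup.zpowers y with hY
  have hYKs : Y ≤ KStar M K := by rw [hY, Subgroup.zpowers_le]; exact hyKs
  have hYc : (Nat.card Y).Prime := by rw [hY, Nat.card_zpowers]; exact hyq
  have hy1 : y ≠ 1 := by
    intro h
    rw [h, orderOf_one] at hyq
    exact Nat.not_prime_one hyq
  have hCy : Subgroup.centralizer ({y} : Set G) ≤ Subgroup.centralizer (Y : Set G) := by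
    intro g hg
    rw [Subgroup.mem_centralizer_iff] at hg ⊢
    intro z hz
    obtain ⟨n, rfl⟩ := Subgroup.mem_zpowers_iff.mp hz
    have h1 : y * g = g * y := hg y rfl
    exact (Commute.zpow_left h1 n).eq
  -- `N(Y) ≤ M`
  have hXM : X ≤ M := hXK.trans hK.1
  have hσM : sigmaCore M ≤ M := Cfsg.Agent.Lib.Helper71.BG11.sigmaCore_le M
  have hYCP : Y ≤ CP M X :=
    le_inf (hYKs.trans inf_le_left)
      ((hYKs.trans inf_le_right).trans (Subgroup.centralizer_le (by exact_mod_cast hXK)))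
  have hNYM : Subgroup.normalizer (Y : Set G) ≤ M := by
    have hY1 : Y ≠ ⊥ := by
      intro h
      rw [h, Subgroup.card_bot] at hYc
      exact Nat.not_prime_one hYc
    have hYtop : Y ≠ ⊤ := by
      intro h
      apply hM.1
      rw [eq_top_iff, ← h]
      exact (hYKs.trans inf_le_left).trans hσM
    obtain ⟨M2, hM2, hN2⟩ :=
      Cfsg.Agent.Lib.Helper12.CNMaxSub.exists_coatom_normalizer_le hG hY1 hYtop
    have h := ha hG M X Y (Nat.card X) hM hXM rfl (ks.h13 X hXK hXp) hYCP hYc M2 hM2 hN2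
    rw [← h]; exact hN2
  -- first claim
  have hpa := ks'.hpa y (hKsKH hyKs) hy1
  have hclaim1 : KStar H KH = K ⊓ sigmaCore H := by
    rw [← hpa]
    apply le_antisymm
    · intro g hg
      have hgσ : g ∈ sigmaCore H := (Subgroup.mem_inf.mp hg).1
      have hgC : g ∈ Subgroup.centralizer ({y} : Set G) := (Subgroup.mem_inf.mp hg).2
      have hgM : g ∈ M := hNYM ((Subgroup.centralizer_le_normalizer _) (hCy hgC))
      exact Subgroup.mem_inf.mpr ⟨hD (Subgroup.mem_inf.mpr ⟨hgσ, hgM⟩), hgσ⟩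
    · intro g hg
      have hgK : g ∈ K := (Subgroup.mem_inf.mp hg).1
      have hgσ : g ∈ sigmaCore H := (Subgroup.mem_inf.mp hg).2
      have hgc : g ∈ Subgroup.centralizer (KStar M K : Set G) :=
        c1.hcomm (Subgroup.mem_inf.mpr ⟨hgσ, hK.1 hgK⟩)
      refine Subgroup.mem_inf.mpr ⟨hgσ, ?_⟩
      rw [Subgroup.mem_centralizer_iff] at hgc ⊢
      intro z hz
      rw [Set.mem_singleton_iff] at hz
      rw [hz]
      exact hgc y hyKs
  -- second claim
  have hN := ks'.hN Y (hYKs.trans hKsKH) hYc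
  have hclaim2 : KH ⊔ KStar H KH = K ⊔ KStar M K := by
    apply le_antisymm
    · rw [← hN, ← hZ]
      exact le_inf (inf_le_right.trans hNYM) inf_le_left
    · rw [← hsup]
      apply sup_le
      · rw [← hclaim1]; exact le_sup_right
      · exact hR0KH.trans le_sup_left
  exact ⟨KH, hKH, hKsKH, le_sup_left.trans hclaim2.le, hclaim1, hclaim2⟩

end Cfsg.Agent.Lib.Helper54.BG147
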