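import Mathlib
import Cfsg.Agent.Lib.Helper40.Narrow
import Cfsg.Agent.Lib.Helper90.OmegaFixTwo
import Cfsg.Agent.Lib.Helper04.CoprimeAut
import Cfsg.Agent.Lib.Helper03.PGroupFrattini

/-!
# `Ω` of a critical subgroup

For a critical subgroup `H` of a finite `p`-group `R` the elements `g ∈ H` with `g ^ q = 1`
(`q = p` for odd `p`, `q = 4` for `p = 2`) form a characteristic subgroup of exponent dividing `q`
on which every automorphism of `R` of order prime to `p` acts faithfully.
-/

set_option autoImplicit false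

namespace Cfsg.Agent.Lib.Helper54.CritOmega

open Subgroup
open scoped commutatorElement
open Cfsg.Agent.Lib.Helper40.Narrow (Crit)
open Cfsg.Agent.Lib.Helper16 (Cl2)

variable {R : Type*} [Group R]

/-- the exponent `q` -/
def qexp (p : ℕ) : ℕ := if p = 2 then 4 else p

/-- the small elements are exactly those killed by `qexp p` -/
lemma small_iff (p : ℕ) (g : R) : (g ^ p = 1 ∨ (p = 2 ∧ g ^ 4 = 1)) ↔ g ^ qexp p = 1 := by
  unfold qexp
  by_cases hp : p = 2
  · subst hp
    rw [if_pos rfl]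
    constructor
    · rintro (h | ⟨-, h⟩)
      · calc g ^ 4 = (g ^ 2) ^ 2 := by rw [← pow_mul]
          _ = 1 := by rw [h, one_pow]
      · exact h
    · intro h; exact Or.inr ⟨rfl, h⟩
  · rw [if_neg hp]
    constructor
    · rintro (h | ⟨h2, -⟩)
      · exact h
      · exact absurd h2 hp
    · intro h; exact Or.inl h

lemma dvd_tri_qexp {p : ℕ} (hp : p.Prime) : p ∣ Cl2.tri (qexp p) := by
  unfold qexp
  by_cases h2 : p = 2
  · subst h2
    rw [if_pos rfl]
    exact ⟨3, by decide⟩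
  · rw [if_neg h2]
    obtain ⟨t, ht⟩ := Cfsg.Agent.Lib.Helper40.tri_odd_prime hp h2
    exact ⟨t, ht⟩

variable [Finite R] {p : ℕ} [hp : Fact p.Prime] {H : Subgroup R}

lemma pow_p_mem_center (c : Crit H) (hR : IsPGroup p R) {b : R} (hb : b ∈ H) :
    b ^ p ∈ H ⊓ centralizer (H : Set R) := by
  refine ⟨H.pow_mem hb p, ?_⟩
  apply c.fratt
  have hHp : IsPGroup p H := hR.to_subgroup H
  have h1 := Cfsg.Agent.Lib.Helper03.pow_mem_frattini_of_isPGroup hHp (⟨b, hb⟩ : H)
  exact ⟨_, h1, by simp⟩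

lemma comm_pow_eq_one (c : Crit H) (hR : IsPGroup p R) {a b : R} (ha : a ∈ H) (hb : b ∈ H) :
    ⁅b, a⁆ ^ p = 1 := by
  rw [← c.cl2.pow_left hb ha p]
  have hz := pow_p_mem_center c hR hb
  have hcomm : b ^ p * a = a * b ^ p := c.cl2.central _ hz a ha
  rw [commutatorElement_def, hcomm]; group

lemma mul_pow_qexp (c : Crit H) (hR : IsPGroup p R) {a b : R} (ha : a ∈ H) (hb : b ∈ H) :
    (a * b) ^ qexp p = a ^ qexp p * b ^ qexp p := by
  rw [c.cl2.mul_pow_formula ha hb (qexp p)]
  obtain ⟨t, ht⟩ := dvd_tri_qexp hp.out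
  rw [ht, pow_mul, comm_pow_eq_one c hR ha hb, one_pow, mul_one]

/-- the elements of `H` killed by `qexp p` -/
def omegaQ (c : Crit H) (hR : IsPGroup p R) : Subgroup R where
  carrier := {g | g ∈ H ∧ g ^ qexp p = 1}
  one_mem' := ⟨H.one_mem, one_pow _⟩
  mul_mem' := by
    rintro a b ⟨ha, ha'⟩ ⟨hb, hb'⟩
    exact ⟨H.mul_mem ha hb, by rw [mul_pow_qexp c hR ha hb, ha', hb', one_mul]⟩
  inv_mem' := by
    rintro a ⟨ha, ha'⟩
    exact ⟨H.inv_mem ha, by rw [inv_pow, ha', inv_one]⟩

lemma mem_omegaQ (c : Crit H) (hR : IsPGroup p R) {g : R} :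
    g ∈ omegaQ c hR ↔ g ∈ H ∧ g ^ qexp p = 1 := Iff.rfl

lemma map_mem_omegaQ (c : Crit H) (hR : IsPGroup p R) (φ : MulAut R) {g : R}
    (hg : g ∈ omegaQ c hR) : φ g ∈ omegaQ c hR :=
  ⟨c.map_mem φ hg.1, by rw [← map_pow, hg.2, map_one]⟩

/-- an automorphism of order prime to `p` fixing `Ω_q(H)` pointwise is trivial -/
theorem faithful_omegaQ (c : Crit H) (hR : IsPGroup p R) (a : MulAut R)
    (ha : (orderOf a).Coprime p) (hfix : ∀ g ∈ omegaQ c hR, a g = g) : a = 1 := by
  have hHp : IsPGroup p H := hR.to_subgroup H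
  have h1 : Cfsg.Agent.Lib.Helper40.Narrow.restrictAut c a = 1 := by
    apply Cfsg.Agent.Lib.Helper90.aut_trivial_of_fix_small hHp
    · apply Nat.Coprime.coprime_dvd_left _ ha
      apply orderOf_dvd_of_pow_eq_one
      refine MulEquiv.ext (fun h => ?_)
      apply Subtype.ext
      rw [Cfsg.Agent.Lib.Helper40.Narrow.restrictAut_pow, pow_orderOf_eq_one]
      rfl
    · intro x hx
      apply Subtype.ext
      show a (x : R) = x
      apply hfix
      refine ⟨x.2, (small_iff p (x : R)).mp ?_⟩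
      rcases hx with h | ⟨h2, h4⟩
      · left
        have := congrArg Subtype.val h
        simpa using this
      · right
        refine ⟨h2, ?_⟩
        have := congrArg Subtype.val h4
        simpa using this
  have hH : ∀ h ∈ H, a h = h := by
    intro h hh
    have := congrArg (fun f : MulAut H => ((f ⟨h, hh⟩ : H) : R)) h1
    exact this
  refine MulEquiv.ext (fun r => ?_)
  rw [MulAut.one_apply]
  apply Cfsg.Agent.Lib.Helper04.aut_fix_of_fix_commutator hR a ha r
  apply hH
  apply c.cent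
  rw [mem_centralizer_iff]
  intro h hh
  have hn : H.Normal := by
    haveI := c.char
    infer_instance
  have h2 : r * h * r⁻¹ ∈ H := hn.conj_mem h hh r
  have h3 := hH _ h2
  rw [map_mul, map_mul, map_inv, hH h hh] at h3
  calc h * (r⁻¹ * a r) = r⁻¹ * (r * h * r⁻¹) * a r := by group
    _ = r⁻¹ * (a r * h * (a r)⁻¹) * a r := by rw [h3]
    _ = r⁻¹ * a r * h := by group

end Cfsg.Agent.Lib.Helper54.CritOmega
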