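import Mathlib
import Cfsg.Prelude
import Cfsg.Agent.Lib.Helper70.CycSylLocal
import Cfsg.Agent.Lib.Helper91.CycSylF
import Cfsg.Agent.Lib.Helper66.CycSylC
import Cfsg.Agent.Lib.Helper01.Coprime

/-!
# S4016, keystone K-Z: the endgame (friendship graph on the involutions)
-/

set_option autoImplicit false

namespace Cfsg.Agent.Lib.Helper54.CycSyl

open Subgroup
open scoped Pointwise
open Cfsg.Agent.Lib.Helper70.CycSyl

universe u

section Basic

variable {G : Type u} [Group G]

/-- the friendship property for a pair of elements -/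
def Fr (s t : G) : Prop :=
  ∃! z : G, orderOf z = 2 ∧ z ≠ s ∧ z ≠ t ∧ Commute z s ∧ Commute z t

lemma orderOf_conj_eq (c z : G) : orderOf (c * z * c⁻¹) = orderOf z := by
  have := MulEquiv.orderOf_eq (MulAut.conj c) z
  rwa [MulAut.conj_apply] at this

lemma orderOf_conj_eq' (c z : G) : orderOf (c⁻¹ * z * c) = orderOf z := by
  have := orderOf_conj_eq c⁻¹ z
  rwa [inv_inv] at this

lemma commute_conj {c a b : G} (h : Commute (c⁻¹ * a * c) (c⁻¹ * b * c)) : Commute a b := by
  have h1 := h.eq
  show a * b = b * a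
  calc a * b = c * ((c⁻¹ * a * c) * (c⁻¹ * b * c)) * c⁻¹ := by group
    _ = c * ((c⁻¹ * b * c) * (c⁻¹ * a * c)) * c⁻¹ := by rw [h1]
    _ = b * a := by group

lemma commute_conj' {c a b : G} (h : Commute a b) : Commute (c⁻¹ * a * c) (c⁻¹ * b * c) := by
  have h1 := h.eq
  show c⁻¹ * a * c * (c⁻¹ * b * c) = c⁻¹ * b * c * (c⁻¹ * a * c)
  calc c⁻¹ * a * c * (c⁻¹ * b * c) = c⁻¹ * (a * b) * c := by group
    _ = c⁻¹ * (b * a) * c := by rw [h1]
    _ = c⁻¹ * b * c * (c⁻¹ * a * c) := by group

lemma fr_of_conj (c s t : G) (h : Fr (c⁻¹ * s * c) (c⁻¹ * t * c)) : Fr s t := by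
  obtain ⟨z, ⟨hz2, hzs, hzt, hcs, hct⟩, huniq⟩ := h
  refine ⟨c * z * c⁻¹, ⟨?_, ?_, ?_, ?_, ?_⟩, ?_⟩
  · rw [orderOf_conj_eq]; exact hz2
  · intro he; apply hzs; rw [← he]; group
  · intro he; apply hzt; rw [← he]; group
  · apply commute_conj (c := c)
    have : c⁻¹ * (c * z * c⁻¹) * c = z := by group
    rw [this]; exact hcs
  · apply commute_conj (c := c)
    have : c⁻¹ * (c * z * c⁻¹) * c = z := by group
    rw [this]; exact hct
  · rintro z' ⟨h2, h3, h4, h5, h6⟩
    have := huniq (c⁻¹ * z' * c) ⟨by rw [orderOf_conj_eq']; exact h2, ?_, ?_,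
      commute_conj' h5, commute_conj' h6⟩
    · rw [← this]; group
    · intro he; apply h3
      calc z' = c * (c⁻¹ * z' * c) * c⁻¹ := by group
        _ = c * (c⁻¹ * s * c) * c⁻¹ := by rw [he]
        _ = s := by group
    · intro he; apply h4
      calc z' = c * (c⁻¹ * z' * c) * c⁻¹ := by group
        _ = c * (c⁻¹ * t * c) * c⁻¹ := by rw [he]
        _ = t := by group

lemma mul_self_of_orderOf_two {x : G} (hx2 : orderOf x = 2) : x * x = 1 := by
  rw [← pow_two, ← hx2]; exact pow_orderOf_eq_one x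

lemma ne_one_of_orderOf_two {x : G} (hx2 : orderOf x = 2) : x ≠ 1 := by
  rintro rfl; simp at hx2

lemma mem_normalizer_zpowers {s u : G} (h : s * u * s⁻¹ = u⁻¹) :
    s ∈ normalizer ((zpowers u : Subgroup G) : Set G) := by
  have h' : s⁻¹ * u * s = u⁻¹ := by
    have h1 : u = s⁻¹ * u⁻¹ * s := by rw [← h]; group
    calc s⁻¹ * u * s = (s⁻¹ * u⁻¹ * s)⁻¹ := by group
      _ = u⁻¹ := by rw [← h1]
  rw [mem_normalizer_iff]
  intro v
  constructor
  · intro hv
    obtain ⟨k, rfl⟩ := mem_zpowers_iff.mp hv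
    rw [← conj_zpow, h]
    exact zpow_mem (inv_mem (mem_zpowers u)) k
  · intro hv
    obtain ⟨k, hk⟩ := mem_zpowers_iff.mp hv
    have h2 : v = s⁻¹ * (s * v * s⁻¹) * s := by group
    rw [h2, ← hk]
    have h3 : s⁻¹ * u ^ k * s = (s⁻¹ * u * s) ^ k := by
      have := conj_zpow (a := s⁻¹) (b := u) (i := k)
      rw [inv_inv] at this
      exact this.symm
    rw [h3, h']
    exact zpow_mem (inv_mem (mem_zpowers u)) k

end Basic

variable {G : Type u} [Group G] [Finite G]

/-- the commuting case, with `s = x` -/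
lemma fr_commute (h : SCtx 3 G) (P : Sylow 3 G) {x : G} (hx2 : orderOf x = 2)
    (hCx : centralizer ({x} : Set G) = normalizer ((P : Subgroup G) : Set G))
    (huniq : ∀ z ∈ centralizer ((P : Subgroup G) : Set G), (orderOf z).Coprime 3 → z = 1 ∨ z = x)
    (hcard : Nat.card (normalizer ((P : Subgroup G) : Set G)) ≤ 4 * Nat.card (P : Subgroup G))
    {t : G} (ht2 : orderOf t = 2) (htx : t ≠ x) (hc : Commute x t) : Fr x t := by
  have hx1 : x ≠ 1 := ne_one_of_orderOf_two hx2
  have ht1 : t ≠ 1 := ne_one_of_orderOf_two ht2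
  have hxx : x * x = 1 := mul_self_of_orderOf_two hx2
  have htt : t * t = 1 := mul_self_of_orderOf_two ht2
  have htN : t ∈ normalizer ((P : Subgroup G) : Set G) := by
    rw [← hCx]; exact mem_centralizer_singleton_iff.mpr hc.eq.symm
  have hcop2 : (orderOf t).Coprime 3 := by rw [ht2]; norm_num
  have htC : t ∉ centralizer ((P : Subgroup G) : Set G) := by
    intro htC
    rcases huniq t htC hcop2 with h1 | h1
    · exact ht1 h1
    · exact htx h1
  set D : Subgroup G := centralizer ({t} : Set G) ⊓ normalizer ((P : Subgroup G) : Set G) with hD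
  have hDN : D ≤ normalizer ((P : Subgroup G) : Set G) := inf_le_right
  have hDP : (P : Subgroup G) ⊓ D = ⊥ := by
    rw [eq_bot_iff]
    rintro u ⟨huP, huD⟩
    have hut : u * t = t * u := mem_centralizer_singleton_iff.mp huD.1
    exact mem_bot.mpr (h.eq_one_of_commute P htN hcop2 htC huP hut.symm)
  have hcardD : Nat.card D ≤ 4 := by
    have h1 := Cfsg.Agent.Lib.Helper01.card_sup_mul_card_inf_of_le_normalizer (P : Subgroup G) D hDN
    rw [hDP, Subgroup.card_bot, mul_one] at h1
    have h2 : Nat.card (D ⊔ (P : Subgroup G) : Subgroup G) ≤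
        Nat.card (normalizer ((P : Subgroup G) : Set G)) :=
      Subgroup.card_le_of_le (sup_le hDN le_normalizer)
    have hPpos : 0 < Nat.card (P : Subgroup G) := Nat.card_pos
    have h3 : Nat.card (P : Subgroup G) * Nat.card D ≤ Nat.card (P : Subgroup G) * 4 := by
      rw [← h1, mul_comm _ 4]; exact h2.trans hcard
    exact Nat.le_of_mul_le_mul_left h3 hPpos
  have hmemD : ∀ z : G, Commute z x → Commute z t → z ∈ D := by
    intro z hzx hzt
    refine ⟨mem_centralizer_singleton_iff.mpr hzt.eq, ?_⟩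
    rw [← hCx]; exact mem_centralizer_singleton_iff.mpr hzx.eq
  have hxt1 : x * t ≠ 1 := by
    intro h1
    apply htx
    calc t = x * (x * t) := by rw [← mul_assoc, hxx, one_mul]
      _ = x := by rw [h1, mul_one]
  have hxtx : x * t ≠ x := by
    intro h1; apply ht1
    exact mul_left_cancel (a := x) (by rw [h1, mul_one])
  have hxtt : x * t ≠ t := by
    intro h1; apply hx1
    exact mul_right_cancel (b := t) (by rw [h1, one_mul])
  refine ⟨x * t, ⟨?_, hxtx, hxtt, ?_, ?_⟩, ?_⟩
  · apply orderOf_eq_prime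
    · rw [pow_two]
      calc x * t * (x * t) = x * (t * x) * t := by group
        _ = x * (x * t) * t := by rw [hc.eq]
        _ = (x * x) * (t * t) := by group
        _ = 1 := by rw [hxx, htt, one_mul]
    · exact hxt1
  · exact (Commute.refl x).mul_left hc.symm
  · exact hc.mul_left (Commute.refl t)
  · rintro z ⟨hz2, hzx, hzt, hcx, hct⟩
    by_contra hne
    have hz1 : z ≠ 1 := ne_one_of_orderOf_two hz2
    classical
    have hS : ({1, x, t, x * t, z} : Finset G).card = 5 := by
      rw [Finset.card_insert_of_notMem, Finset.card_insert_of_notMem,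
        Finset.card_insert_of_notMem, Finset.card_insert_of_notMem, Finset.card_singleton]
      · simp only [Finset.mem_singleton]; exact fun h => hne h.symm
      · simp only [Finset.mem_insert, Finset.mem_singleton, not_or]
        exact ⟨fun h => hxtt h.symm, fun h => hzt h.symm⟩
      · simp only [Finset.mem_insert, Finset.mem_singleton, not_or]
        exact ⟨fun h => htx h.symm, fun h => hxtx h.symm, fun h => hzx h.symm⟩
      · simp only [Finset.mem_insert, Finset.mem_singleton, not_or]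
        exact ⟨fun h => hx1 h.symm, fun h => ht1 h.symm, fun h => hxt1 h.symm, fun h => hz1 h.symm⟩
    have hsub : ((({1, x, t, x * t, z} : Finset G)) : Set G) ⊆ (D : Set G) := by
      intro y hy
      simp only [Finset.coe_insert, Finset.coe_singleton, Set.mem_insert_iff,
        Set.mem_singleton_iff] at hy
      rcases hy with rfl | rfl | rfl | rfl | rfl
      · exact one_mem D
      · exact hmemD _ (Commute.refl _) hc
      · exact hmemD _ hc.symm (Commute.refl _)
      · exact hmemD _ ((Commute.refl _).mul_left hc.symm) (hc.mul_left (Commute.refl _))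
      · exact hmemD _ hcx hct
    have h5 : 5 ≤ Nat.card D := by
      have e1 : Nat.card D = (D : Set G).ncard := Nat.card_coe_set_eq (D : Set G)
      rw [e1, ← hS, ← Set.ncard_coe_finset]
      exact Set.ncard_le_ncard hsub (Set.toFinite _)
    omega

/-- the noncommuting case, with `u ∈ P` -/
lemma fr_noncommute (h : SCtx 3 G) (P : Sylow 3 G) {x : G}
    (hxC : x ∈ centralizer ((P : Subgroup G) : Set G)) (hx2 : orderOf x = 2)
    (hCx : centralizer ({x} : Set G) = normalizer ((P : Subgroup G) : Set G))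
    (huniq : ∀ z ∈ centralizer ((P : Subgroup G) : Set G), (orderOf z).Coprime 3 → z = 1 ∨ z = x)
    {s t u : G} (hu3 : orderOf u = 3) (huP : u ∈ (P : Subgroup G))
    (hsu : s * u * s⁻¹ = u⁻¹) (htu : t * u * t⁻¹ = u⁻¹) (hust : u ∈ zpowers (s * t)) : Fr s t := by
  have hu1 : u ≠ 1 := by rintro rfl; simp at hu3
  have hzu : zpowers u ≤ (P : Subgroup G) := by rw [zpowers_le]; exact huP
  have hzu1 : zpowers u ≠ ⊥ := by
    intro hb
    apply hu1
    have : u ∈ (⊥ : Subgroup G) := hb ▸ mem_zpowers u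
    simpa using this
  have hN := h.normalizer_le P hzu hzu1
  have hsN : s ∈ centralizer ({x} : Set G) := by
    rw [hCx]; exact hN (mem_normalizer_zpowers hsu)
  have htN : t ∈ centralizer ({x} : Set G) := by
    rw [hCx]; exact hN (mem_normalizer_zpowers htu)
  have hsx : s * x = x * s := mem_centralizer_singleton_iff.mp hsN
  have htx : t * x = x * t := mem_centralizer_singleton_iff.mp htN
  have hxu : u * x = x * u := (mem_centralizer_iff.mp hxC) u huP
  have hne : ∀ r : G, r * u * r⁻¹ = u⁻¹ → x ≠ r := by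
    rintro r hr rfl
    have h1 : u = u⁻¹ := by
      rw [← hr, ← hxu]; group
    have h2 : u ^ 2 = 1 := by
      rw [pow_two]
      calc u * u = u * u⁻¹ := by rw [← h1]
        _ = 1 := mul_inv_cancel u
    have := orderOf_dvd_of_pow_eq_one h2
    rw [hu3] at this
    omega
  refine ⟨x, ⟨hx2, hne s hsu, hne t htu, hsx.symm, htx.symm⟩, ?_⟩
  rintro z ⟨hz2, -, -, hcs, hct⟩
  have hz1 : z ≠ 1 := ne_one_of_orderOf_two hz2
  have hzst : Commute z (s * t) := hcs.mul_right hct
  obtain ⟨k, hk⟩ := mem_zpowers_iff.mp hust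
  have hzu' : Commute z u := by rw [← hk]; exact hzst.zpow_right k
  have hzC : z ∈ centralizer ((P : Subgroup G) : Set G) :=
    h.centralizer_le P huP hu1 (mem_centralizer_singleton_iff.mpr hzu'.eq)
  rcases huniq z hzC (by rw [hz2]; norm_num) with h1 | h1
  · exact absurd h1 hz1
  · exact h1

variable {p : ℕ} [hp : Fact p.Prime]

/-- K-Z (endgame). -/
theorem false_of_structure (h : SCtx p G) (P : Sylow p G) {x : G}
    (hxC : x ∈ centralizer ((P : Subgroup G) : Set G)) (hx2 : orderOf x = 2) (hp3 : p = 3)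
    (hCx : centralizer ({x} : Set G) = normalizer ((P : Subgroup G) : Set G))
    (huniq : ∀ z ∈ centralizer ((P : Subgroup G) : Set G), (orderOf z).Coprime p → z = 1 ∨ z = x)
    (hcard : Nat.card (normalizer ((P : Subgroup G) : Set G)) ≤ 4 * Nat.card (P : Subgroup G))
    (hconj : ∀ t : G, orderOf t = 2 → ∃ c : G, t = c * x * c⁻¹) : False := by
  subst hp3
  have := h.simple
  apply Cfsg.Agent.Lib.Helper91.CycSyl.friendship_false h.nc ⟨x, hx2⟩
  intro s t hs2 ht2 hst
  show Fr s t
  have hss : s * s = 1 := mul_self_of_orderOf_two hs2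
  have htt : t * t = 1 := mul_self_of_orderOf_two ht2
  have hsinv : s⁻¹ = s := inv_eq_of_mul_eq_one_right hss
  have htinv : t⁻¹ = t := inv_eq_of_mul_eq_one_right htt
  by_cases hc : Commute s t
  · obtain ⟨c, hc'⟩ := hconj s hs2
    apply fr_of_conj c
    have e1 : c⁻¹ * s * c = x := by rw [hc']; group
    rw [e1]
    apply fr_commute h P hx2 hCx huniq hcard
    · rw [orderOf_conj_eq']; exact ht2
    · intro he; apply hst; rw [hc', ← he]; group
    · rw [← e1]; exact commute_conj' hc
  · set g := s * t with hg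
    have hginv : g⁻¹ = t * s := by rw [hg, mul_inv_rev, hsinv, htinv]
    have hgw : g * s * g = s := by
      rw [hg]
      calc s * t * s * (s * t) = s * t * (s * s) * t := by group
        _ = s := by rw [hss, mul_one, mul_assoc, htt, mul_one]
    have hgg : g * g ≠ 1 := by
      intro h1
      apply hc
      show s * t = t * s
      rw [← hginv]
      exact eq_inv_of_mul_eq_one_left h1
    have h3 : 3 ∣ orderOf g := by
      by_contra h3
      have h4 := Cfsg.Agent.Lib.Helper66.CycSyl.not_dvd_card_closure hss hgw (p := 3)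
        (by norm_num) h3
      exact Cfsg.Agent.Lib.Helper66.CycSyl.not_comm_closure hgw hgg (h.hyp.2 _ h4)
    obtain ⟨m, hm⟩ := h3
    have hn0 : 0 < orderOf g := orderOf_pos g
    have hm0 : m ≠ 0 := by rintro rfl; omega
    have hu3 : orderOf (g ^ m) = 3 := by
      rw [orderOf_pow_of_dvd hm0 ⟨3, by rw [hm, mul_comm]⟩, hm]
      exact Nat.mul_div_cancel 3 (Nat.pos_of_ne_zero hm0)
    have hsg : s * g * s⁻¹ = g⁻¹ := by
      rw [hginv, hg, hsinv]
      calc s * (s * t) * s = (s * s) * t * s := by group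
        _ = t * s := by rw [hss, one_mul]
    have htg : t * g * t⁻¹ = g⁻¹ := by
      rw [hginv, hg, htinv]
      calc t * (s * t) * t = t * s * (t * t) := by group
        _ = t * s := by rw [htt, mul_one]
    have hsu : s * g ^ m * s⁻¹ = (g ^ m)⁻¹ := by rw [← conj_pow, hsg, inv_pow]
    have htu : t * g ^ m * t⁻¹ = (g ^ m)⁻¹ := by rw [← conj_pow, htg, inv_pow]
    obtain ⟨Q, hQ⟩ := h.exists_sylow_of_orderOf (g := g ^ m) (k := 1) (by rw [hu3, pow_one])
    obtain ⟨c, hcQ⟩ := MulAction.exists_smul_eq G P Q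
    have huP : c⁻¹ * g ^ m * c ∈ (P : Subgroup G) := by
      rw [← hcQ, Sylow.coe_subgroup_smul, Subgroup.mem_pointwise_smul_iff_inv_smul_mem] at hQ
      have e : (MulAut.conj c)⁻¹ • (g ^ m) = c⁻¹ * g ^ m * c := by
        rw [MulAut.smul_def, MulAut.conj_inv_apply]
      rwa [e] at hQ
    apply fr_of_conj c
    apply fr_noncommute h P hxC hx2 hCx huniq (u := c⁻¹ * g ^ m * c)
    · rw [orderOf_conj_eq']; exact hu3
    · exact huP
    · calc c⁻¹ * s * c * (c⁻¹ * g ^ m * c) * (c⁻¹ * s * c)⁻¹
          = c⁻¹ * (s * g ^ m * s⁻¹) * c := by group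
        _ = (c⁻¹ * g ^ m * c)⁻¹ := by rw [hsu]; group
    · calc c⁻¹ * t * c * (c⁻¹ * g ^ m * c) * (c⁻¹ * t * c)⁻¹
          = c⁻¹ * (t * g ^ m * t⁻¹) * c := by group
        _ = (c⁻¹ * g ^ m * c)⁻¹ := by rw [htu]; group
    · have e1 : c⁻¹ * s * c * (c⁻¹ * t * c) = c⁻¹ * g * c := by rw [hg]; group
      have e2 : c⁻¹ * g ^ m * c = (c⁻¹ * g * c) ^ m := by
        have := conj_pow (a := c⁻¹) (b := g) (i := m)
        rw [inv_inv] at this
        exact this.symm
      rw [e1, e2]
      exact pow_mem (mem_zpowers _) m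

end Cfsg.Agent.Lib.Helper54.CycSyl
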