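import Cfsg.Agent.Lib.Helper54.FStarGlue

set_option autoImplicit false

namespace Cfsg.Agent.Lib.Helper54

open Cfsg
open scoped commutatorElement

variable {G : Type*} [Group G] {p : ℕ}

theorem fitting_map_mulEquiv_le {G' : Type*} [Group G'] (e : G ≃* G') :
    (Cfsg.fittingSubgroup G).map e.toMonoidHom ≤ Cfsg.fittingSubgroup G' := by
  unfold Cfsg.fittingSubgroup
  rw [sSup_eq_iSup', Subgroup.map_iSup]
  refine iSup_le ?_
  rintro ⟨N, hNn, hNnil⟩
  refine le_sSup ⟨hNn.map _ e.surjective, ?_⟩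
  exact Group.nilpotent_of_mulEquiv (e.subgroupMap N)

theorem fitting_map_mulEquiv {G' : Type*} [Group G'] (e : G ≃* G') :
    (Cfsg.fittingSubgroup G).map e.toMonoidHom = Cfsg.fittingSubgroup G' := by
  refine le_antisymm (fitting_map_mulEquiv_le e) ?_
  have h := fitting_map_mulEquiv_le e.symm
  intro x hx
  have h1 := h (Subgroup.mem_map_of_mem _ hx)
  refine ⟨e.symm x, h1, ?_⟩
  simp

/-- the components of `H` inside `L`, as subgroups of `G` -/
def compSet (H L : Subgroup G) : Set (Subgroup G) :=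
  (fun K : Subgroup ↥H => K.map H.subtype) ''
    {K : Subgroup ↥H | Cfsg.IsComponent K ∧ K ≤ L.subgroupOf H}

/-- `F(H) ∩ L` as a subgroup of `G` -/
def fitInf (H L : Subgroup G) : Subgroup G :=
  (Cfsg.fittingSubgroup ↥H).map H.subtype ⊓ L

theorem eq_sSup_compSet_sup_fitInf {H L : Subgroup G}
    (hLF : L ≤ (Cfsg.generalizedFittingSubgroup ↥H).map H.subtype)
    (hLsn : (L.subgroupOf H).IsSubnormal) : L = sSup (compSet H L) ⊔ fitInf H L := by
  have hLH : L ≤ H := hLF.trans (Subgroup.map_subtype_le _)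
  have hS : L.subgroupOf H ≤ Cfsg.generalizedFittingSubgroup ↥H := by
    intro x hx
    obtain ⟨y, hy, hyx⟩ := hLF (Subgroup.mem_subgroupOf.1 hx)
    have : y = x := Subtype.ext hyx
    rwa [← this]
  have h1 := Helper30.subnormal_le_genFitting_decomp hS hLsn
  have h2 : L = (L.subgroupOf H).map H.subtype := (Subgroup.map_subgroupOf_eq_of_le hLH).symm
  apply le_antisymm
  · have h3 := Subgroup.map_mono (f := H.subtype) h1
    rw [← h2, Subgroup.map_sup, map_sSup_eq,
      Subgroup.map_inf_eq _ _ _ H.subtype_injective, ← h2] at h3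
    exact h3
  · apply sup_le
    · apply sSup_le
      rintro _ ⟨K, hK, rfl⟩
      rw [h2]
      exact Subgroup.map_mono hK.2
    · exact inf_le_right

theorem actData_map [Finite G] [Fact p.Prime] {H Y L : Subgroup G}
    (hO : Cfsg.pCore p ↥H = ⊥) (hY : IsPGroup p ↥Y)
    (hYH : Y ≤ Subgroup.normalizer (H : Set G))
    (hYL : Y ≤ Subgroup.normalizer (L : Set G)) :
    ActData p Y (compSet H L) (fitInf H L) where
  pgroup := hY
  qs := by
    rintro _ ⟨K, hK, rfl⟩
    exact iqs_map_of_isComponent hK.1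
  comm := by
    rintro _ ⟨K, hK, rfl⟩ _ ⟨K', hK', rfl⟩ hne
    have hne' : K' ≠ K := by
      rintro rfl
      exact hne rfl
    have h1 := Helper30.component_commute hK'.1 hK.1 hne'
    rw [← Subgroup.commutator_eq_bot_iff_le_centralizer]
    show ⁅K'.map H.subtype, K.map H.subtype⁆ = ⊥
    rw [← Subgroup.map_commutator, h1, Subgroup.map_bot]
  inv := by
    rintro _ ⟨K, hK, rfl⟩ y hy
    refine ⟨K.map (normConj H y (hYH hy)).toMonoidHom, ⟨?_, ?_⟩, ?_⟩
    · exact Helper30.isComponent_map_equiv _ hK.1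
    · rintro _ ⟨x, hx, rfl⟩
      rw [Subgroup.mem_subgroupOf]
      have hxL : (x : G) ∈ L := Subgroup.mem_subgroupOf.1 (hK.2 hx)
      exact (Subgroup.mem_normalizer_iff.1 (hYL hy) _).1 hxL
    · exact map_normConj H y (hYH hy) K
  commF := by
    rintro _ ⟨K, hK, rfl⟩
    have h1 : ⁅Cfsg.layer ↥H, Cfsg.fittingSubgroup ↥H⁆ = ⊥ := Helper30.layer_commute_fitting
    have h2 : ⁅K, Cfsg.fittingSubgroup ↥H⁆ = ⊥ := by
      rw [eq_bot_iff, ← h1]
      exact Subgroup.commutator_mono (Helper30.component_le_layer hK.1) le_rfl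
    have h3 : ⁅K.map H.subtype, (Cfsg.fittingSubgroup ↥H).map H.subtype⁆ = ⊥ := by
      rw [← Subgroup.map_commutator, h2, Subgroup.map_bot]
    exact (Subgroup.commutator_eq_bot_iff_le_centralizer.1 h3).trans
      (Subgroup.centralizer_le inf_le_left)
  normF := by
    apply le_normalizer_inf _ hYL
    intro y hy
    apply mem_normalizer_of_map_conj_eq
    rw [← map_normConj H y (hYH hy), fitting_map_mulEquiv]
  cop := by
    have h1 := card_fitting_coprime (p := p) hO
    have h2 : Nat.card ↥((Cfsg.fittingSubgroup ↥H).map H.subtype) =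
        Nat.card ↥(Cfsg.fittingSubgroup ↥H) :=
      Subgroup.card_map_of_injective H.subtype_injective
    have h3 : Nat.card ↥(fitInf H L) ∣ Nat.card ↥((Cfsg.fittingSubgroup ↥H).map H.subtype) :=
      Subgroup.card_dvd_of_le inf_le_left
    rw [h2] at h3
    exact Nat.Coprime.coprime_dvd_left h3 h1

end Cfsg.Agent.Lib.Helper54
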