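import Cfsg.Agent.Lib.Helper54.FStarSub
import Cfsg.Agent.Lib.Helper54.SylowLib

set_option autoImplicit false

namespace Cfsg.Agent.Lib.Helper54

open Cfsg
open scoped commutatorElement

variable {G : Type*} [Group G] {p : ℕ}

/-- transfer: a central element of `X` lying in `X'` has its `|X:K|`-th power in `K'` -/
theorem pow_index_mem_commutator_of_mem_center {X : Type*} [Group X] (K : Subgroup X)
    [K.FiniteIndex] {z : X} (hzc : z ∈ Subgroup.center X) (hzX : z ∈ commutator X) :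
    z ^ K.index ∈ ⁅K, K⁆ := by
  have key : ∀ (k : ℕ) (g₀ : X), g₀⁻¹ * z ^ k * g₀ ∈ K → g₀⁻¹ * z ^ k * g₀ = z ^ k := by
    intro k g₀ _
    have h1 : z ^ k ∈ Subgroup.center X := Subgroup.pow_mem _ hzc k
    rw [Subgroup.mem_center_iff] at h1
    rw [mul_assoc, ← h1 g₀, ← mul_assoc, inv_mul_cancel, one_mul]
  have h1 := MonoidHom.transfer_eq_pow (Abelianization.of : ↥K →* Abelianization ↥K) z key
  have h2 : MonoidHom.transfer (Abelianization.of : ↥K →* Abelianization ↥K) z = 1 :=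
    Abelianization.commutator_subset_ker _ hzX
  rw [h2] at h1
  have h3 : (⟨z ^ K.index, MonoidHom.transfer_eq_pow_aux z key⟩ : ↥K) ∈ commutator ↥K := by
    rw [← Abelianization.ker_of]; exact h1.symm
  have h4 : (commutator ↥K).map K.subtype = ⁅K, K⁆ := by
    rw [commutator_def, Subgroup.map_commutator, ← MonoidHom.range_eq_map, Subgroup.range_subtype]
  rw [← h4]
  exact ⟨_, h3, rfl⟩

theorem commutatorElement_mul_central_left {X : Type*} [Group X] (a b z : X)
    (hz : ∀ g : X, g * z = z * g) : ⁅a * z, b⁆ = ⁅a, b⁆ := by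
  rw [commutatorElement_def, commutatorElement_def]
  have h1 : z * b * z⁻¹ = b := by rw [← hz b]; group
  calc a * z * b * (a * z)⁻¹ * b⁻¹ = a * (z * b * z⁻¹) * a⁻¹ * b⁻¹ := by group
    _ = a * b * a⁻¹ * b⁻¹ := by rw [h1]

theorem commutatorElement_mul_central_right {X : Type*} [Group X] (a b z : X)
    (hz : ∀ g : X, g * z = z * g) : ⁅a, b * z⁆ = ⁅a, b⁆ := by
  rw [commutatorElement_def, commutatorElement_def]
  have h1 : z * a⁻¹ * z⁻¹ = a⁻¹ := by rw [← hz a⁻¹]; group
  calc a * (b * z) * a⁻¹ * (b * z)⁻¹ = a * b * (z * a⁻¹ * z⁻¹) * b⁻¹ := by group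
    _ = a * b * a⁻¹ * b⁻¹ := by rw [h1]

/-- a central subgroup contained in the commutator subgroup lies in the Frattini subgroup -/
theorem le_frattini_of_le_center_of_le_commutator {X : Type*} [Group X] {Z : Subgroup X}
    (hZc : Z ≤ Subgroup.center X) (hZX : Z ≤ commutator X) : Z ≤ frattini X := by
  rw [frattini, Order.radical]
  simp only [le_iInf_iff]
  intro M hM
  by_contra hZM
  have hlt : M < M ⊔ Z := by
    refine lt_of_le_of_ne le_sup_left fun h => hZM ?_
    rw [h]; exact le_sup_right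
  have hsup : M ⊔ Z = ⊤ := hM.2 _ hlt
  have hZN : Z ≤ Subgroup.normalizer (M : Set X) :=
    hZc.trans ((Subgroup.center_le_centralizer _).trans (Subgroup.centralizer_le_normalizer _))
  have hcomm : commutator X ≤ M := by
    rw [commutator_def, Subgroup.commutator_le]
    intro x _ y _
    have hx : x ∈ M ⊔ Z := hsup ▸ Subgroup.mem_top x
    have hy : y ∈ M ⊔ Z := hsup ▸ Subgroup.mem_top y
    obtain ⟨m₁, hm₁, z₁, hz₁, rfl⟩ :=
      exists_mul_of_mem_sup_of_le_normalizer (A := M) (B := Z) hZN hx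
    obtain ⟨m₂, hm₂, z₂, hz₂, rfl⟩ :=
      exists_mul_of_mem_sup_of_le_normalizer (A := M) (B := Z) hZN hy
    rw [commutatorElement_mul_central_left _ _ _ (Subgroup.mem_center_iff.1 (hZc hz₁)),
      commutatorElement_mul_central_right _ _ _ (Subgroup.mem_center_iff.1 (hZc hz₂))]
    rw [commutatorElement_def]
    exact M.mul_mem (M.mul_mem (M.mul_mem hm₁ hm₂) (M.inv_mem hm₁)) (M.inv_mem hm₂)
  exact hZM (hZX.trans hcomm)

theorem normalizer_le_normalizer_centralizer_set (K : Subgroup G) :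
    Subgroup.normalizer (K : Set G) ≤
      Subgroup.normalizer ((Subgroup.centralizer (K : Set G) : Subgroup G) : Set G) := by
  intro g hg
  rw [Subgroup.mem_normalizer_iff]
  have key : ∀ (g : G), g ∈ Subgroup.normalizer (K : Set G) →
      ∀ c ∈ Subgroup.centralizer (K : Set G), g * c * g⁻¹ ∈ Subgroup.centralizer (K : Set G) := by
    intro g hg c hc
    rw [Subgroup.mem_centralizer_iff] at hc ⊢
    intro k hk
    have hk' : g⁻¹ * k * g⁻¹⁻¹ ∈ K :=
      (Subgroup.mem_normalizer_iff.1 (Subgroup.inv_mem _ hg) k).1 hk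
    have h1 := hc _ hk'
    calc k * (g * c * g⁻¹) = g * ((g⁻¹ * k * g⁻¹⁻¹) * c) * g⁻¹ := by group
      _ = g * (c * (g⁻¹ * k * g⁻¹⁻¹)) * g⁻¹ := by rw [h1]
      _ = g * c * g⁻¹ * k := by group
  intro c
  constructor
  · exact key g hg c
  · intro h
    have := key g⁻¹ (Subgroup.inv_mem _ hg) _ h
    have e : g⁻¹ * (g * c * g⁻¹) * g⁻¹⁻¹ = c := by group
    rwa [e] at this

/-- a subgroup normalising `A` and `C` normalises `[A,C]` -/
theorem le_normalizer_commutator_of_le {B A C : Subgroup G}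
    (hA : B ≤ Subgroup.normalizer (A : Set G)) (hC : B ≤ Subgroup.normalizer (C : Set G)) :
    B ≤ Subgroup.normalizer ((⁅A, C⁆ : Subgroup G) : Set G) := by
  intro b hb
  apply mem_normalizer_of_map_conj_eq
  rw [Subgroup.map_commutator, map_conj_eq_of_mem_normalizer (hA hb),
    map_conj_eq_of_mem_normalizer (hC hb)]

/-- Bezout in a subgroup -/
theorem mem_of_pow_mem_of_pow_mem_coprime {M : Subgroup G} {z : G} {m n : ℕ}
    (hmn : Nat.Coprime m n) (hm : z ^ m ∈ M) (hn : z ^ n ∈ M) : z ∈ M := by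
  have h1 : ((Nat.gcd m n : ℕ) : ℤ) = (m : ℤ) * Nat.gcdA m n + (n : ℤ) * Nat.gcdB m n :=
    Nat.gcd_eq_gcd_ab m n
  rw [hmn.gcd_eq_one] at h1
  have h2 : z = (z ^ m) ^ (Nat.gcdA m n) * (z ^ n) ^ (Nat.gcdB m n) := by
    rw [← zpow_natCast z m, ← zpow_natCast z n, ← zpow_mul, ← zpow_mul, ← zpow_add, ← h1]
    simp
  rw [h2]
  exact M.mul_mem (M.zpow_mem hm _) (M.zpow_mem hn _)

end Cfsg.Agent.Lib.Helper54
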