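import Cfsg.Agent.Lib.Helper54.FStarQ

set_option autoImplicit false

namespace Cfsg.Agent.Lib.Helper54

open Cfsg
open scoped commutatorElement

variable {G : Type*} [Group G] {p : ℕ}

namespace ActData

variable {Y F₀ : Subgroup G} {𝒦 : Set (Subgroup G)}

theorem movedSet_le_commutator (h : ActData p Y 𝒦 F₀) :
    sSup (movedSet Y 𝒦) ≤ ⁅sSup 𝒦 ⊔ F₀, Y⁆ := by
  rw [h.commutator_eq]; exact le_sup_left

theorem commutator_F_le_commutator (_h : ActData p Y 𝒦 F₀) :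
    ⁅F₀, Y⁆ ≤ ⁅sSup 𝒦 ⊔ F₀, Y⁆ :=
  Subgroup.commutator_mono le_sup_right le_rfl

/-- the moved components lie in the derived subgroup of `[W,Y]` -/
theorem movedSet_le_commutator_self (h : ActData p Y 𝒦 F₀) :
    sSup (movedSet Y 𝒦) ≤ ⁅⁅sSup 𝒦 ⊔ F₀, Y⁆, ⁅sSup 𝒦 ⊔ F₀, Y⁆⁆ := by
  apply sSup_le
  intro K hK
  have h1 : K ≤ ⁅sSup 𝒦 ⊔ F₀, Y⁆ := (le_sSup hK).trans h.movedSet_le_commutator
  calc K = ⁅K, K⁆ := (h.qs K hK.1).1.symm
    _ ≤ _ := Subgroup.commutator_mono h1 h1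

theorem movedSet_le_centralizer_F (h : ActData p Y 𝒦 F₀) :
    sSup (movedSet Y 𝒦) ≤ Subgroup.centralizer (F₀ : Set G) :=
  sSup_le fun K hK => h.commF K hK.1

theorem card_commutator_F_coprime [Finite G] (h : ActData p Y 𝒦 F₀) :
    (Nat.card ↥⁅F₀, Y⁆).Coprime p :=
  Nat.Coprime.coprime_dvd_left (Subgroup.card_dvd_of_le h.commutator_F_le) h.cop

/-- an element of `[W,Y]` central in `[W,Y]` and centralised by `Y` lies in `[W,Y]'` -/
theorem mem_commutator_of_central [Finite G] [Fact p.Prime] (h : ActData p Y 𝒦 F₀) {z : G}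
    (hzL : z ∈ ⁅sSup 𝒦 ⊔ F₀, Y⁆)
    (hzc : z ∈ Subgroup.centralizer ((⁅sSup 𝒦 ⊔ F₀, Y⁆ : Subgroup G) : Set G))
    (hzY : z ∈ Subgroup.centralizer (Y : Set G)) :
    z ∈ ⁅⁅sSup 𝒦 ⊔ F₀, Y⁆, ⁅sSup 𝒦 ⊔ F₀, Y⁆⁆ := by
  have hLL : ⁅⁅sSup 𝒦 ⊔ F₀, Y⁆, Y⁆ = ⁅sSup 𝒦 ⊔ F₀, Y⁆ := h.commutator_commutator_eq
  have hms := h.movedSet_le_commutator_self
  have hceq := h.commutator_eq
  obtain ⟨L, hL⟩ : ∃ L, L = ⁅sSup 𝒦 ⊔ F₀, Y⁆ := ⟨_, rfl⟩
  rw [← hL] at hzL hzc hLL hms hceq ⊢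
  have hYL : Y ≤ Subgroup.normalizer (L : Set G) := by
    rw [hL]; exact Subgroup.normalizer_commutator_ge_right _ _
  -- the transfer part
  have h1 : z ^ (L.relIndex (L ⊔ Y)) ∈ ⁅L, L⁆ := by
    have hcen : ∀ g ∈ L ⊔ Y, g * z = z * g := by
      have h2 : L ⊔ Y ≤ Subgroup.centralizer ({z} : Set G) := by
        apply sup_le
        · intro l hl
          rw [Subgroup.mem_centralizer_singleton_iff]
          exact (Subgroup.mem_centralizer_iff.1 hzc) l hl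
        · intro y hy
          rw [Subgroup.mem_centralizer_singleton_iff]
          exact (Subgroup.mem_centralizer_iff.1 hzY) y hy
      intro g hg
      exact Subgroup.mem_centralizer_singleton_iff.1 (h2 hg)
    have hzc' : (⟨z, (le_sup_left : L ≤ L ⊔ Y) hzL⟩ : ↥(L ⊔ Y)) ∈ Subgroup.center ↥(L ⊔ Y) := by
      rw [Subgroup.mem_center_iff]
      intro g
      exact Subtype.ext (hcen g.1 g.2)
    have hzX : (⟨z, (le_sup_left : L ≤ L ⊔ Y) hzL⟩ : ↥(L ⊔ Y)) ∈ commutator ↥(L ⊔ Y) := by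
      have h2 : (commutator ↥(L ⊔ Y)).map (L ⊔ Y).subtype = ⁅L ⊔ Y, L ⊔ Y⁆ := by
        rw [commutator_def, Subgroup.map_commutator, ← MonoidHom.range_eq_map,
          Subgroup.range_subtype]
      have h3 : z ∈ ⁅L ⊔ Y, L ⊔ Y⁆ := by
        have h4 : z ∈ ⁅L, Y⁆ := by rw [hLL]; exact hzL
        exact Subgroup.commutator_mono le_sup_left le_sup_right h4
      rw [← h2] at h3
      obtain ⟨w, hw, hwz⟩ := h3
      have h5 : w = ⟨z, (le_sup_left : L ≤ L ⊔ Y) hzL⟩ := Subtype.ext hwz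
      rwa [← h5]
    have h6 := pow_index_mem_commutator_of_mem_center (L.subgroupOf (L ⊔ Y)) hzc' hzX
    have h7 := Subgroup.mem_map_of_mem (L ⊔ Y).subtype h6
    rw [Subgroup.map_commutator, Subgroup.map_subgroupOf_eq_of_le le_sup_left] at h7
    simpa [Subgroup.relIndex] using h7
  -- the `p'`-part
  have h2 : z ^ (Nat.card ↥⁅F₀, Y⁆) ∈ ⁅L, L⁆ := by
    have hz' : z ∈ sSup (movedSet Y 𝒦) ⊔ ⁅F₀, Y⁆ := by rw [← hceq]; exact hzL
    have hN : ⁅F₀, Y⁆ ≤ Subgroup.normalizer ((sSup (movedSet Y 𝒦) : Subgroup G) : Set G) := by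
      refine le_trans ?_ (Subgroup.centralizer_le_normalizer _)
      rw [Subgroup.le_centralizer_iff]
      exact h.movedSet_le_centralizer_F.trans (Subgroup.centralizer_le h.commutator_F_le)
    obtain ⟨e, he, d, hd, rfl⟩ := exists_mul_of_mem_sup_of_le_normalizer
      (A := sSup (movedSet Y 𝒦)) (B := ⁅F₀, Y⁆) hN hz'
    have hcomm : Commute e d := by
      have := (Subgroup.mem_centralizer_iff.1 (h.movedSet_le_centralizer_F he)) d
        (h.commutator_F_le hd)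
      exact this.symm
    have hd1 : d ^ (Nat.card ↥⁅F₀, Y⁆) = 1 := by
      have := pow_card_eq_one' (G := ↥⁅F₀, Y⁆) (x := ⟨d, hd⟩)
      exact congrArg Subtype.val this
    rw [hcomm.mul_pow, hd1, mul_one]
    exact Subgroup.pow_mem _ (hms he) _
  have hn : (L.relIndex (L ⊔ Y)) ∣ Nat.card ↥Y := by
    rw [sup_comm, relIndex_sup_right_of_le_normalizer hYL]
    exact Subgroup.relIndex_dvd_card L Y
  obtain ⟨k, hk⟩ := IsPGroup.iff_card.1 h.pgroup
  have hmn : Nat.Coprime (Nat.card ↥⁅F₀, Y⁆) (L.relIndex (L ⊔ Y)) := by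
    refine Nat.Coprime.coprime_dvd_right hn ?_
    rw [hk]
    exact Nat.Coprime.pow_right k h.card_commutator_F_coprime
  exact mem_of_pow_mem_of_pow_mem_coprime hmn h2 h1

/-- a normal subgroup of `W` centralised by `Y` centralises `[W,Y]` -/
theorem commutator_le_centralizer_of_normal {W Y F : Subgroup G}
    (hFW : W ≤ Subgroup.normalizer (F : Set G)) (hYF : Y ≤ Subgroup.centralizer (F : Set G)) :
    ⁅W, Y⁆ ≤ Subgroup.centralizer (F : Set G) := by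
  have h0 : ⁅Y, F⁆ = ⊥ := Subgroup.commutator_eq_bot_iff_le_centralizer.2 hYF
  have h1 : ⁅⁅Y, F⁆, W⁆ = ⊥ := by rw [h0, Subgroup.commutator_bot_left]
  have h2 : ⁅⁅F, W⁆, Y⁆ = ⊥ := by
    rw [eq_bot_iff, ← h0, Subgroup.commutator_comm Y F]
    exact Subgroup.commutator_mono (Subgroup.le_normalizer_iff_commutator_le_left.1 hFW) le_rfl
  exact Subgroup.commutator_eq_bot_iff_le_centralizer.1
    (Subgroup.commutator_commutator_eq_bot_of_rotate h1 h2)

end ActData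

end Cfsg.Agent.Lib.Helper54
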