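import Mathlib
import Cfsg.Agent.Lib.Helper64.GL42

set_option autoImplicit false

/-!
# K-G42 leaf L2 (S2553): every subgroup of `GL₄(2)` is isomorphic to a subgroup of `A₈ ≤ Perm (Fin 8)`
-/

namespace Cfsg.Agent.Lib.Helper54.G42

open Matrix

/-- 255302 L2: transport to `A_8` -/
theorem transport (H : Subgroup (GL (Fin 4) (ZMod 2))) :
    ∃ K : Subgroup (Equiv.Perm (Fin 8)), K ≤ alternatingGroup (Fin 8) ∧ Nonempty (↥H ≃* ↥K) := by
  obtain ⟨f, hf⟩ := Cfsg.Agent.Lib.Helper64.gl42_embed_alt8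
  let φ : GL (Fin 4) (ZMod 2) →* Equiv.Perm (Fin 8) := (alternatingGroup (Fin 8)).subtype.comp f
  have hφ : Function.Injective φ := (Subgroup.subtype_injective _).comp hf
  refine ⟨H.map φ, ?_, ⟨H.equivMapOfInjective φ hφ⟩⟩
  rintro _ ⟨h, _, rfl⟩
  exact (f h).2

end Cfsg.Agent.Lib.Helper54.G42
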