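import Cfsg.Agent.Lib.Helper54.TraceMap
import Cfsg.Agent.Lib.Helper54.Coprime
import Cfsg.Agent.Lib.Helper54.PReduced
import Cfsg.Agent.Lib.Helper54.CommStab

set_option autoImplicit false

open scoped commutatorElement

namespace Cfsg.Agent.Lib.Helper54

variable {G : Type*} [Group G]

/-- an element of order dividing `p` is a power of its `n`-th power when `n` is prime to `p` -/
theorem exists_pow_pow_eq_of_coprime {p n : ℕ} [Fact p.Prime] {y : G} (hy : y ^ p = 1)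
    (hn : n.Coprime p) : ∃ m : ℕ, (y ^ n) ^ m = y := by
  apply exists_pow_eq_self_of_coprime
  exact Nat.Coprime.coprime_dvd_right (orderOf_dvd_of_pow_eq_one hy) hn

/-- if `g` commutes with `y ^ n`, `y ^ p = 1` and `n` is prime to `p`, then `g` commutes with `y` -/
theorem commute_of_commute_pow_coprime {p n : ℕ} [Fact p.Prime] {y g : G} (hy : y ^ p = 1)
    (hn : n.Coprime p) (h : g * y ^ n = y ^ n * g) : g * y = y * g := by
  obtain ⟨m, hm⟩ := exists_pow_pow_eq_of_coprime hy hn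
  have h1 : Commute g (y ^ n) := h
  have h2 : Commute g ((y ^ n) ^ m) := h1.pow_right m
  rw [hm] at h2
  exact h2

/-- core trace argument -/
theorem commute_of_trace [Finite G] {p : ℕ} [Fact p.Prime] (C P S V : Subgroup G)
    (hPC : P ≤ C) (hCV : C ≤ Subgroup.normalizer (V : Set G))
    (hV : ∀ a ∈ V, ∀ b ∈ V, a * b = b * a) (hVp : ∀ a ∈ V, a ^ p = 1)
    (hcop : (P.relIndex C).Coprime p)
    (hSC : S ≤ Subgroup.normalizer (C : Set G)) (hSP : S ≤ Subgroup.normalizer (P : Set G))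
    (hSV : S ≤ Subgroup.normalizer (V : Set G))
    (hfix : ∀ x ∈ V, (∀ s ∈ S, s * x = x * s) → ∀ g ∈ C, g * x = x * g)
    (y : G) (hy : y ∈ V) (hyP : ∀ u ∈ P, u * y = y * u)
    (hys : ∀ s ∈ S, ∀ g ∈ C, g * (s * y * s⁻¹ * y⁻¹) = (s * y * s⁻¹ * y⁻¹) * g) :
    ∀ g ∈ C, g * y = y * g := by
  obtain ⟨τ, h1, h2, h3, h4, h5, -⟩ := exists_traceMap C P V hPC hCV hV
  obtain ⟨n, hn⟩ : ∃ n, n = P.relIndex C := ⟨_, rfl⟩
  rw [← hn] at hcop h3
  have ht : τ y ∈ V := h1 y hy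
  have htC : ∀ g ∈ C, g * τ y = τ y * g := h4 y hy hyP
  -- the element `u = y ^ n * (τ y)⁻¹` is fixed by `S`
  have hu : y ^ n * (τ y)⁻¹ ∈ V := V.mul_mem (V.pow_mem hy n) (V.inv_mem ht)
  have huS : ∀ s ∈ S, s * (y ^ n * (τ y)⁻¹) = (y ^ n * (τ y)⁻¹) * s := by
    intro s hs
    have hsV := hSV hs
    have hc : s * y * s⁻¹ * y⁻¹ ∈ V :=
      V.mul_mem ((Subgroup.mem_normalizer_iff.1 hsV y).1 hy) (V.inv_mem hy)
    have e1 : s * y * s⁻¹ = (s * y * s⁻¹ * y⁻¹) * y := by group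
    have e2 : τ (s * y * s⁻¹) = s * τ y * s⁻¹ := h5 y hy hyP s (hSC hs) (hSP hs) hsV
    have e3 : τ (s * y * s⁻¹) = (s * y * s⁻¹ * y⁻¹) ^ n * τ y := by
      conv_lhs => rw [e1]
      rw [h2 _ hc y hy, h3 _ hc (hys s hs)]
    have e4 : s * τ y * s⁻¹ = (s * y * s⁻¹ * y⁻¹) ^ n * τ y := by rw [← e2, e3]
    have e5 : s * y ^ n * s⁻¹ = (s * y * s⁻¹ * y⁻¹) ^ n * y ^ n := by
      have hc' : Commute (s * y * s⁻¹ * y⁻¹) y := hV _ hc y hy
      rw [← hc'.mul_pow, ← e1, conj_pow]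
    obtain ⟨a, ha⟩ : ∃ a, a = (s * y * s⁻¹ * y⁻¹) ^ n := ⟨_, rfl⟩
    rw [← ha] at e4 e5
    have haV : a ∈ V := by rw [ha]; exact V.pow_mem hc n
    have hcomm : a * (y ^ n * (τ y)⁻¹) = (y ^ n * (τ y)⁻¹) * a := hV a haV _ hu
    have e6 : s * (y ^ n * (τ y)⁻¹) * s⁻¹ = y ^ n * (τ y)⁻¹ := by
      calc s * (y ^ n * (τ y)⁻¹) * s⁻¹ = (s * y ^ n * s⁻¹) * (s * τ y * s⁻¹)⁻¹ := by group
        _ = (a * y ^ n) * (a * τ y)⁻¹ := by rw [e4, e5]
        _ = a * (y ^ n * (τ y)⁻¹) * a⁻¹ := by group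
        _ = (y ^ n * (τ y)⁻¹) * a * a⁻¹ := by rw [hcomm]
        _ = y ^ n * (τ y)⁻¹ := by group
    calc s * (y ^ n * (τ y)⁻¹) = (s * (y ^ n * (τ y)⁻¹) * s⁻¹) * s := by group
      _ = (y ^ n * (τ y)⁻¹) * s := by rw [e6]
  have huC : ∀ g ∈ C, g * (y ^ n * (τ y)⁻¹) = (y ^ n * (τ y)⁻¹) * g := hfix _ hu huS
  intro g hg
  apply commute_of_commute_pow_coprime (hVp y hy) hcop
  have c1 : Commute g (y ^ n * (τ y)⁻¹) := huC g hg
  have c2 : Commute g (τ y) := htC g hg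
  have c3 : Commute g ((y ^ n * (τ y)⁻¹) * τ y) := c1.mul_right c2
  have e : (y ^ n * (τ y)⁻¹) * τ y = y ^ n := by group
  rw [e] at c3
  exact c3

/-- descent along the lower central series of the `p`-group `S` -/
theorem commute_of_descent [Finite G] {p : ℕ} [Fact p.Prime] (C P S V : Subgroup G)
    (hPC : P ≤ C) (hCV : C ≤ Subgroup.normalizer (V : Set G))
    (hV : ∀ a ∈ V, ∀ b ∈ V, a * b = b * a) (hVp : ∀ a ∈ V, a ^ p = 1)
    (hcop : (P.relIndex C).Coprime p)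
    (hSC : S ≤ Subgroup.normalizer (C : Set G)) (hSP : S ≤ Subgroup.normalizer (P : Set G))
    (hSV : S ≤ Subgroup.normalizer (V : Set G))
    (hSp : IsPGroup p ↥S) (hVS : V ≤ S)
    (hfix : ∀ x ∈ V, (∀ s ∈ S, s * x = x * s) → ∀ g ∈ C, g * x = x * g) :
    ∀ y ∈ V, (∀ u ∈ P, u * y = y * u) → ∀ g ∈ C, g * y = y * g := by
  have hnil : Group.IsNilpotent ↥S := hSp.isNilpotent
  obtain ⟨n, hn⟩ := (Subgroup.isNilpotent_iff_lowerCentralSeries S).1 hnil
  have key : ∀ j k : ℕ, k + j = n → ∀ y ∈ V, y ∈ S.lowerCentralSeries k →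
      (∀ u ∈ P, u * y = y * u) → ∀ g ∈ C, g * y = y * g := by
    intro j
    induction j with
    | zero =>
      intro k hk y _ hyk _ g _
      have hk' : k = n := by omega
      rw [hk', hn, Subgroup.mem_bot] at hyk
      rw [hyk, mul_one, one_mul]
    | succ j ih =>
      intro k hk y hy hyk hyP
      apply commute_of_trace C P S V hPC hCV hV hVp hcop hSC hSP hSV hfix y hy hyP
      intro s hs
      have hsV := hSV hs
      have hc : s * y * s⁻¹ * y⁻¹ ∈ V :=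
        V.mul_mem ((Subgroup.mem_normalizer_iff.1 hsV y).1 hy) (V.inv_mem hy)
      apply ih (k + 1) (by omega) _ hc
      · rw [Subgroup.lowerCentralSeries_succ]
        have h1 : ⁅y, s⁆ ∈ ⁅S.lowerCentralSeries k, S⁆ :=
          Subgroup.commutator_mem_commutator hyk hs
        have h2 : s * y * s⁻¹ * y⁻¹ = ⁅y, s⁆⁻¹ := by
          rw [commutatorElement_inv, commutatorElement_def]
        rw [h2]
        exact Subgroup.inv_mem _ h1
      · intro u hu
        have hsP := hSP hs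
        have hu' : s⁻¹ * u * s ∈ P := by
          have := (Subgroup.mem_normalizer_iff.1 (Subgroup.inv_mem _ hsP) u).1 hu
          simpa using this
        have e1 := hyP u hu
        have e2 := hyP _ hu'
        have e3 : u * (s * y * s⁻¹) = (s * y * s⁻¹) * u := by
          calc u * (s * y * s⁻¹) = s * ((s⁻¹ * u * s) * y) * s⁻¹ := by group
            _ = s * (y * (s⁻¹ * u * s)) * s⁻¹ := by rw [e2]
            _ = (s * y * s⁻¹) * u := by group
        have c1 : Commute u (s * y * s⁻¹) := e3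
        have c2 : Commute u y⁻¹ := Commute.inv_right e1
        exact c1.mul_right c2
  intro y hy hyP
  exact key n 0 (by omega) y hy (by rw [Subgroup.lowerCentralSeries_zero]; exact hVS hy) hyP

/-! ### `Ω₁ Z(X)` -/

/-- `Ω₁(Z(X))` inside the ambient group -/
def omZ (p : ℕ) (X : Subgroup G) : Subgroup G :=
  omegaOne p (X ⊓ Subgroup.centralizer (X : Set G))

theorem normalizer_le_normalizer_omegaOne (p : ℕ) (A : Subgroup G) :
    Subgroup.normalizer (A : Set G) ≤ Subgroup.normalizer (omegaOne p A : Set G) := by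
  have key : ∀ g ∈ Subgroup.normalizer (A : Set G), ∀ x ∈ omegaOne p A,
      g * x * g⁻¹ ∈ omegaOne p A := by
    intro g hg x hx
    unfold omegaOne at hx
    induction hx using Subgroup.closure_induction with
    | mem x hx =>
      apply mem_omegaOne ((Subgroup.mem_normalizer_iff.1 hg x).1 hx.1)
      rw [conj_pow, hx.2]; group
    | one => simp
    | mul x y _ _ ihx ihy =>
      have e : g * (x * y) * g⁻¹ = (g * x * g⁻¹) * (g * y * g⁻¹) := by group
      rw [e]; exact Subgroup.mul_mem _ ihx ihy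
    | inv x _ ihx =>
      have e : g * x⁻¹ * g⁻¹ = (g * x * g⁻¹)⁻¹ := by group
      rw [e]; exact Subgroup.inv_mem _ ihx
  intro g hg
  rw [Subgroup.mem_normalizer_iff]
  intro x
  refine ⟨key g hg x, fun h => ?_⟩
  have := key g⁻¹ (Subgroup.inv_mem _ hg) _ h
  have e : g⁻¹ * (g * x * g⁻¹) * g⁻¹⁻¹ = x := by group
  rwa [e] at this

theorem le_normalizer_omZ (p : ℕ) {X A : Subgroup G}
    (h : X ≤ Subgroup.normalizer (A : Set G)) :
    X ≤ Subgroup.normalizer (omZ p A : Set G) := by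
  unfold omZ
  exact (le_normalizer_inf h (h.trans (normalizer_le_normalizer_centralizer' A))).trans
    (normalizer_le_normalizer_omegaOne p _)

theorem mem_omZ {p : ℕ} {X : Subgroup G} {x : G} (hx : x ∈ X)
    (hc : ∀ s ∈ X, s * x = x * s) (hp : x ^ p = 1) : x ∈ omZ p X := by
  unfold omZ
  apply mem_omegaOne _ hp
  have h1 : x ∈ Subgroup.centralizer (X : Set G) := by
    rw [Subgroup.mem_centralizer_iff]
    exact hc
  exact ⟨hx, h1⟩

theorem omZ_le (p : ℕ) (X : Subgroup G) : omZ p X ≤ X :=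
  (omegaOne_le p _).trans inf_le_left

theorem omZ_commute_of_mem (p : ℕ) (X : Subgroup G) :
    ∀ a ∈ omZ p X, ∀ s ∈ X, s * a = a * s := by
  intro a ha s hs
  have h1 : a ∈ Subgroup.centralizer (X : Set G) := ((omegaOne_le p _).trans inf_le_right) ha
  exact (Subgroup.mem_centralizer_iff.1 h1) s hs

theorem omZ_comm (p : ℕ) (X : Subgroup G) :
    ∀ a ∈ omZ p X, ∀ b ∈ omZ p X, a * b = b * a := by
  intro a ha b hb
  exact omZ_commute_of_mem p X b hb a (omZ_le p X ha)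

theorem omZ_pow (p : ℕ) (X : Subgroup G) :
    ∀ a ∈ omZ p X, a ^ p = 1 := by
  intro a ha
  exact pow_eq_one_of_mem_omegaOne (center_comm X) ha

theorem centralizer_anti' {A B : Subgroup G} (h : A ≤ B) :
    Subgroup.centralizer (B : Set G) ≤ Subgroup.centralizer (A : Set G) :=
  Subgroup.centralizer_le (fun _ hx => h hx)

theorem omZ_inf_le (p : ℕ) {Q T X : Subgroup G} (hQT : Q ≤ T)
    (hc : X ⊓ Subgroup.centralizer ((Q ⊓ X : Subgroup G) : Set G) ≤ Q ⊓ X) :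
    omZ p (T ⊓ X) ≤ omZ p (Q ⊓ X) := by
  unfold omZ
  apply omegaOne_mono
  intro x hx
  have h1 : x ∈ Subgroup.centralizer ((Q ⊓ X : Subgroup G) : Set G) :=
    centralizer_anti' (inf_le_inf_right X hQT) hx.2
  exact ⟨hc ⟨hx.1.2, h1⟩, h1⟩

theorem le_normalizer_of_normal {Q : Subgroup G} (hQ : Q.Normal) (X : Subgroup G) :
    X ≤ Subgroup.normalizer (Q : Set G) := by
  intro x _
  rw [Subgroup.mem_normalizer_iff]
  intro h
  refine ⟨fun hh => hQ.conj_mem h hh x, fun hh => ?_⟩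
  have := hQ.conj_mem _ hh x⁻¹
  have e : x⁻¹ * (x * h * x⁻¹) * x⁻¹⁻¹ = h := by group
  rwa [e] at this

/-! ### the step `L ⊴ K` -/

section Step

variable [Finite G] {p : ℕ} [Fact p.Prime]

theorem kieler_step_ge_aux (Q T K L : Subgroup G) (hQ : Q.Normal) (hQT : Q ≤ T) (hLK : L ≤ K)
    (hKL : K ≤ Subgroup.normalizer (L : Set G))
    (hcK : K ⊓ Subgroup.centralizer ((Q ⊓ K : Subgroup G) : Set G) ≤ Q ⊓ K)
    (hcop : ((T ⊓ L).relIndex L).Coprime p)
    (g : G) (hgL : g ∈ L) (hgZ : ∀ w ∈ omZ p (T ⊓ L), g * w = w * g)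
    (z : G) (hz : z ∈ T ⊓ K) (hzc : ∀ s ∈ T ⊓ K, s * z = z * s) (hzp : z ^ p = 1) :
    g * z = z * g := by
  obtain ⟨V, hVdef⟩ : ∃ V, V = omZ p (Q ⊓ K) := ⟨_, rfl⟩
  have hzV : z ∈ V := by
    rw [hVdef]
    have hzQ : ∀ s ∈ Q ⊓ K, s * z = z * s := fun s hs => hzc s ⟨hQT hs.1, hs.2⟩
    have h1 : z ∈ Subgroup.centralizer ((Q ⊓ K : Subgroup G) : Set G) := by
      rw [Subgroup.mem_centralizer_iff]
      exact hzQ
    exact mem_omZ (hcK ⟨hz.2, h1⟩) hzQ hzp
  have hKV : K ≤ Subgroup.normalizer (V : Set G) := by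
    rw [hVdef]
    exact le_normalizer_omZ p (le_normalizer_inf (le_normalizer_of_normal hQ K)
      Subgroup.le_normalizer)
  have hVcomm : ∀ a ∈ V, ∀ b ∈ V, a * b = b * a := by
    rw [hVdef]; exact omZ_comm p _
  obtain ⟨τ, h1, -, -, h4, h5, h6⟩ :=
    exists_traceMap L (T ⊓ L) V inf_le_right (hLK.trans hKV) hVcomm
  obtain ⟨n, hn⟩ : ∃ n, n = (T ⊓ L).relIndex L := ⟨_, rfl⟩
  rw [← hn] at hcop h6
  have hzP : ∀ u ∈ T ⊓ L, u * z = z * u := fun u hu => hzc u ⟨hu.1, hLK hu.2⟩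
  have htL : ∀ g' ∈ L, g' * τ z = τ z * g' := h4 z hzV hzP
  have hw : τ z * (z ^ n)⁻¹ ∈ V ⊓ L := by
    apply h6 z hzV
    intro g' hg'
    refine ⟨V.mul_mem ((Subgroup.mem_normalizer_iff.1 (hKV (hLK hg')) z).1 hzV) (V.inv_mem hzV), ?_⟩
    have h2 : z * g'⁻¹ * z⁻¹ ∈ L :=
      (Subgroup.mem_normalizer_iff.1 (hKL hz.2) g'⁻¹).1 (L.inv_mem hg')
    have e : g' * z * g'⁻¹ * z⁻¹ = g' * (z * g'⁻¹ * z⁻¹) := by group
    rw [e]
    exact L.mul_mem hg' h2
  have htS : ∀ s ∈ T ⊓ K, s * τ z = τ z * s := by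
    intro s hs
    have hsP : s ∈ Subgroup.normalizer ((T ⊓ L : Subgroup G) : Set G) :=
      le_normalizer_inf (X := T ⊓ K) (inf_le_left.trans Subgroup.le_normalizer)
        (inf_le_right.trans hKL) hs
    have e1 := h5 z hzV hzP s (hKL hs.2) hsP (hKV hs.2)
    have e2 : s * z * s⁻¹ = z := by rw [hzc s hs]; group
    rw [e2] at e1
    calc s * τ z = (s * τ z * s⁻¹) * s := by group
      _ = τ z * s := by rw [← e1]
  have hwS : ∀ s ∈ T ⊓ K, s * (τ z * (z ^ n)⁻¹) = (τ z * (z ^ n)⁻¹) * s := by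
    intro s hs
    have c1 : Commute s (τ z) := htS s hs
    have c2 : Commute s z := hzc s hs
    exact c1.mul_right (c2.pow_right n).inv_right
  have hwV : τ z * (z ^ n)⁻¹ ∈ omZ p (Q ⊓ K) := by rw [← hVdef]; exact hw.1
  have hwZ : τ z * (z ^ n)⁻¹ ∈ omZ p (T ⊓ L) := by
    apply mem_omZ
    · exact ⟨hQT (omZ_le p _ hwV).1, hw.2⟩
    · intro s hs
      exact hwS s ⟨hs.1, hLK hs.2⟩
    · exact omZ_pow p _ _ hwV
  apply commute_of_commute_pow_coprime hzp hcop
  have c1 : Commute g (τ z * (z ^ n)⁻¹) := hgZ _ hwZ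
  have c2 : Commute g (τ z) := htL g hgL
  have c3 : Commute g ((τ z * (z ^ n)⁻¹)⁻¹ * τ z) := c1.inv_right.mul_right c2
  have e : (τ z * (z ^ n)⁻¹)⁻¹ * τ z = z ^ n := by group
  rw [e] at c3
  exact c3

theorem kieler_step_ge (Q T K L : Subgroup G) (hQ : Q.Normal) (hQT : Q ≤ T) (hLK : L ≤ K)
    (hKL : K ≤ Subgroup.normalizer (L : Set G))
    (hcK : K ⊓ Subgroup.centralizer ((Q ⊓ K : Subgroup G) : Set G) ≤ Q ⊓ K)
    (hcop : ((T ⊓ L).relIndex L).Coprime p) :
    L ⊓ Subgroup.centralizer (omZ p (T ⊓ L) : Set G) ≤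
      Subgroup.centralizer (omZ p (T ⊓ K) : Set G) := by
  intro g hg
  have hgZ : ∀ w ∈ omZ p (T ⊓ L), g * w = w * g := by
    intro w hw
    exact ((Subgroup.mem_centralizer_iff.1 hg.2) w hw).symm
  have h1 : omZ p (T ⊓ K) ≤ Subgroup.centralizer ({g} : Set G) := by
    unfold omZ omegaOne
    rw [Subgroup.closure_le]
    rintro z ⟨hz, hzp⟩
    rw [SetLike.mem_coe, Subgroup.mem_centralizer_iff]
    intro h hh
    rw [Set.mem_singleton_iff] at hh
    subst hh
    have hzc : ∀ s ∈ T ⊓ K, s * z = z * s := Subgroup.mem_centralizer_iff.1 hz.2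
    exact kieler_step_ge_aux Q T K L hQ hQT hLK hKL hcK hcop h hg.1 hgZ z hz.1 hzc hzp
  rw [Subgroup.mem_centralizer_iff]
  intro z hz
  have := (Subgroup.mem_centralizer_iff.1 (h1 hz)) g (Set.mem_singleton g)
  exact this.symm

theorem kieler_step_le (Q T K L : Subgroup G) (hQ : Q.Normal) (hQT : Q ≤ T)
    (hT : IsPGroup p ↥T) (hLK : L ≤ K)
    (hKL : K ≤ Subgroup.normalizer (L : Set G))
    (hcL : L ⊓ Subgroup.centralizer ((Q ⊓ L : Subgroup G) : Set G) ≤ Q ⊓ L)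
    (hcop : ((T ⊓ L).relIndex L).Coprime p) :
    L ⊓ Subgroup.centralizer (omZ p (T ⊓ K) : Set G) ≤
      Subgroup.centralizer (omZ p (T ⊓ L) : Set G) := by
  obtain ⟨C, hCdef⟩ : ∃ C, C = L ⊓ Subgroup.centralizer (omZ p (T ⊓ K) : Set G) := ⟨_, rfl⟩
  rw [← hCdef]
  have hCL : C ≤ L := by rw [hCdef]; exact inf_le_left
  have hCZ : ∀ g ∈ C, ∀ x ∈ omZ p (T ⊓ K), g * x = x * g := by
    intro g hg x hx
    rw [hCdef] at hg
    exact ((Subgroup.mem_centralizer_iff.1 hg.2) x hx).symm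
  have hKV : K ≤ Subgroup.normalizer (omZ p (Q ⊓ L) : Set G) :=
    le_normalizer_omZ p (le_normalizer_inf (le_normalizer_of_normal hQ K) hKL)
  have hPC : T ⊓ L ≤ C := by
    rw [hCdef]
    refine le_inf inf_le_right ?_
    intro x hx
    rw [Subgroup.mem_centralizer_iff]
    intro z hz
    exact (omZ_commute_of_mem p _ z hz x ⟨hx.1, hLK hx.2⟩).symm
  have hcop' : ((T ⊓ L).relIndex C).Coprime p := by
    have := Subgroup.relIndex_mul_relIndex (T ⊓ L) C L hPC hCL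
    exact Nat.Coprime.coprime_dvd_left (Dvd.intro _ this) hcop
  have hSC : T ⊓ K ≤ Subgroup.normalizer (C : Set G) := by
    rw [hCdef]
    apply le_normalizer_inf (inf_le_right.trans hKL)
    intro s hs
    apply Subgroup.le_normalizer
    rw [Subgroup.mem_centralizer_iff]
    intro z hz
    exact (omZ_commute_of_mem p _ z hz s hs).symm
  have hSP : T ⊓ K ≤ Subgroup.normalizer ((T ⊓ L : Subgroup G) : Set G) :=
    le_normalizer_inf (inf_le_left.trans Subgroup.le_normalizer) (inf_le_right.trans hKL)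
  have hVS : omZ p (Q ⊓ L) ≤ T ⊓ K :=
    (omZ_le p _).trans (inf_le_inf hQT hLK)
  have hfix : ∀ x ∈ omZ p (Q ⊓ L), (∀ s ∈ T ⊓ K, s * x = x * s) → ∀ g ∈ C, g * x = x * g := by
    intro x hx hxS g hg
    apply hCZ g hg
    exact mem_omZ (hVS hx) hxS (omZ_pow p _ x hx)
  have main := commute_of_descent C (T ⊓ L) (T ⊓ K) (omZ p (Q ⊓ L)) hPC
    (hCL.trans (hLK.trans hKV)) (omZ_comm p _) (omZ_pow p _) hcop' hSC hSP
    (inf_le_right.trans hKV) (hT.to_le inf_le_left) hVS hfix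
  intro g hg
  rw [Subgroup.mem_centralizer_iff]
  intro y hy
  have hyV : y ∈ omZ p (Q ⊓ L) := omZ_inf_le p hQT hcL hy
  exact (main y hyV (fun u hu => omZ_commute_of_mem p _ y hy u hu) g hg).symm

theorem kieler_step (Q T K L : Subgroup G) (hQ : Q.Normal) (hQT : Q ≤ T)
    (hT : IsPGroup p ↥T) (hLK : L ≤ K)
    (hKL : K ≤ Subgroup.normalizer (L : Set G))
    (hcK : K ⊓ Subgroup.centralizer ((Q ⊓ K : Subgroup G) : Set G) ≤ Q ⊓ K)
    (hcL : L ⊓ Subgroup.centralizer ((Q ⊓ L : Subgroup G) : Set G) ≤ Q ⊓ L)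
    (hcop : ((T ⊓ L).relIndex L).Coprime p) :
    L ⊓ Subgroup.centralizer (omZ p (T ⊓ K) : Set G) =
      L ⊓ Subgroup.centralizer (omZ p (T ⊓ L) : Set G) :=
  le_antisymm (le_inf inf_le_left (kieler_step_le Q T K L hQ hQT hT hLK hKL hcL hcop))
    (le_inf inf_le_left (kieler_step_ge Q T K L hQ hQT hLK hKL hcK hcop))

end Step

/-! ### the invariants along a subnormal chain -/

section Main

variable [Finite G] {p : ℕ} [Fact p.Prime]

theorem kieler_charp_step (K L : Subgroup G) (hK : K.IsSubnormal) (hLK : L ≤ K)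
    (hKL : K ≤ Subgroup.normalizer (L : Set G))
    (hcK : K ⊓ Subgroup.centralizer ((pCore p G ⊓ K : Subgroup G) : Set G) ≤ pCore p G ⊓ K) :
    L ⊓ Subgroup.centralizer ((pCore p G ⊓ L : Subgroup G) : Set G) ≤ pCore p G ⊓ L := by
  have hQ : (pCore p G).Normal := pCore_normal p G
  have hQp : IsPGroup p ↥(pCore p G) := pCore_isPGroup p G
  have hL : L.IsSubnormal :=
    Subgroup.IsSubnormal.step L K hLK hK ((Subgroup.normal_subgroupOf_iff_le_normalizer hLK).2 hKL)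
  obtain ⟨K₀, hK₀⟩ : ∃ K₀, K₀ = L ⊓ Subgroup.centralizer ((pCore p G ⊓ L : Subgroup G) : Set G) :=
    ⟨_, rfl⟩
  rw [← hK₀]
  have hK₀L : K₀ ≤ L := by rw [hK₀]; exact inf_le_left
  have hLN : L ≤ Subgroup.normalizer (K₀ : Set G) := by
    rw [hK₀]
    apply le_normalizer_inf Subgroup.le_normalizer
    exact (le_normalizer_inf (le_normalizer_of_normal hQ L) Subgroup.le_normalizer).trans
      (normalizer_le_normalizer_centralizer' _)
  have hK₀sn : K₀.IsSubnormal :=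
    Subgroup.IsSubnormal.step K₀ L hK₀L hL
      ((Subgroup.normal_subgroupOf_iff_le_normalizer hK₀L).2 hLN)
  have hK₀p : IsPGroup p ↥K₀ := by
    apply isPGroup_of_forall_coprime_eq_one
    intro x hx hcop
    rw [hK₀] at hx
    have hxL : x ∈ L := hx.1
    have hxC : ∀ h ∈ pCore p G ⊓ L, h * x = x * h := Subgroup.mem_centralizer_iff.1 hx.2
    have hxK : x ∈ Subgroup.centralizer ((pCore p G ⊓ K : Subgroup G) : Set G) := by
      rw [Subgroup.mem_centralizer_iff]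
      intro o ho
      have hcQ : ⁅o, x⁆ ∈ pCore p G := by
        rw [commutatorElement_def]
        have h1 : x * o⁻¹ * x⁻¹ ∈ pCore p G := hQ.conj_mem _ (Subgroup.inv_mem _ ho.1) x
        have e : o * x * o⁻¹ * x⁻¹ = o * (x * o⁻¹ * x⁻¹) := by group
        rw [e]
        exact Subgroup.mul_mem _ ho.1 h1
      have hcL : ⁅o, x⁆ ∈ L := by
        rw [commutatorElement_def]
        exact L.mul_mem ((Subgroup.mem_normalizer_iff.1 (hKL ho.2) x).1 hxL) (L.inv_mem hxL)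
      have hc : Commute ⁅o, x⁆ x := hxC _ ⟨hcQ, hcL⟩
      have hcp : ∃ k : ℕ, ⁅o, x⁆ ^ (p ^ k) = 1 := by
        obtain ⟨k, hk⟩ := hQp ⟨_, hcQ⟩
        exact ⟨k, by simpa using congrArg Subtype.val hk⟩
      have h1 := commutatorElement_eq_one_of_coprime o x hc hcp hcop
      exact commutatorElement_eq_one_iff_mul_comm.1 h1
    have hxQ : x ∈ pCore p G ⊓ K := hcK ⟨hLK hxL, hxK⟩
    obtain ⟨k, hk⟩ := hQp ⟨x, hxQ.1⟩
    have hk' : x ^ (p ^ k) = 1 := by simpa using congrArg Subtype.val hk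
    exact eq_one_of_coprime_of_pow_eq_one hcop hk'
  exact le_inf (le_pCore_of_isSubnormal_of_isPGroup hK₀sn hK₀p) hK₀L

theorem kieler_index_step (T K L : Subgroup G) (hLK : L ≤ K)
    (hKL : K ≤ Subgroup.normalizer (L : Set G))
    (hcop : ((T ⊓ K).relIndex K).Coprime p) : ((T ⊓ L).relIndex L).Coprime p := by
  have e1 : (T ⊓ L).relIndex L = ((T ⊓ K) ⊓ L).relIndex L := by
    rw [inf_assoc, inf_eq_right.2 hLK]
  have e2 : ((T ⊓ K) ⊓ L).relIndex L = (T ⊓ K).relIndex L := Subgroup.inf_relIndex_right _ _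
  have e3 : (T ⊓ K).relIndex L = (T ⊓ K).relIndex ((T ⊓ K) ⊔ L) :=
    relIndex_eq_relIndex_sup_of_le_normalizer (inf_le_right.trans hKL)
  have e4 := Subgroup.relIndex_mul_relIndex (T ⊓ K) ((T ⊓ K) ⊔ L) K le_sup_left
    (sup_le inf_le_right hLK)
  rw [e1, e2, e3]
  exact Nat.Coprime.coprime_dvd_left (Dvd.intro _ e4) hcop

/-- Kieler's lemma together with the invariants carried along a subnormal chain -/
theorem kieler_invariants
    (hH : Subgroup.centralizer (pCore p G : Set G) ≤ pCore p G) (T : Sylow p G)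
    (L : Subgroup G) (hL : L.IsSubnormal) :
    (L ⊓ Subgroup.centralizer ((pCore p G ⊓ L : Subgroup G) : Set G) ≤ pCore p G ⊓ L) ∧
    (((T : Subgroup G) ⊓ L).relIndex L).Coprime p ∧
    L ⊓ Subgroup.centralizer (omZ p (T : Subgroup G) : Set G) =
      L ⊓ Subgroup.centralizer (omZ p ((T : Subgroup G) ⊓ L) : Set G) := by
  induction hL with
  | top =>
    refine ⟨?_, ?_, ?_⟩
    · rw [inf_top_eq, top_inf_eq]
      exact hH
    · rw [inf_top_eq, Subgroup.relIndex_top_right]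
      have hp : p.Prime := Fact.out
      exact ((Nat.Prime.coprime_iff_not_dvd hp).2 T.not_dvd_index).symm
    · rw [inf_top_eq]
  | step L K hLK hK hN ih =>
    obtain ⟨i1, i2, i3⟩ := ih
    have hKL : K ≤ Subgroup.normalizer (L : Set G) :=
      (Subgroup.normal_subgroupOf_iff_le_normalizer hLK).1 hN
    have j1 := kieler_charp_step K L hK hLK hKL i1
    have j2 := kieler_index_step (T : Subgroup G) K L hLK hKL i2
    refine ⟨j1, j2, ?_⟩
    have step := kieler_step (pCore p G) (T : Subgroup G) K L (pCore_normal p G)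
      (pCore_le_sylow T) T.2 hLK hKL i1 j1 j2
    calc L ⊓ Subgroup.centralizer (omZ p (T : Subgroup G) : Set G)
        = L ⊓ (K ⊓ Subgroup.centralizer (omZ p (T : Subgroup G) : Set G)) := by
          rw [← inf_assoc, inf_eq_left.2 hLK]
      _ = L ⊓ (K ⊓ Subgroup.centralizer (omZ p ((T : Subgroup G) ⊓ K) : Set G)) := by rw [i3]
      _ = L ⊓ Subgroup.centralizer (omZ p ((T : Subgroup G) ⊓ K) : Set G) := by
          rw [← inf_assoc, inf_eq_left.2 hLK]
      _ = _ := step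

end Main

end Cfsg.Agent.Lib.Helper54
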