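import Mathlib
import Cfsg.Agent.Lib.Helper94.LCDefs

/-!
# K-LC-A1 (keystone 640605, architect helper94, row S0406): `exists_pm_lift`, `code_weight`

Code words of `codeOf L` lift to `2 y ∈ L` with `y ∈ {0, ±1}`; their weights are `≥ 8` and `≡ 0 mod 4`.
The needed half of LEAF A0(1) (`four_mul_mem_of_even`) is proved here, so the file has no stubs.
-/

set_option autoImplicit false
open Matrix

namespace Cfsg.Agent.Lib.Helper54.LC

open Cfsg.Agent.Lib.Helper94.LC

variable (L : AddSubgroup (Fin 24 → ℤ))

/-- the easy half of LEAF A0(1): `4 d ∈ L` when `Σ d` is even -/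
theorem four_mul_mem_of_even (hL : CoordLattice L) (d : Fin 24 → ℤ) (hd : (2 : ℤ) ∣ ∑ i, d i) :
    (fun i => 4 * d i) ∈ L := by
  obtain ⟨k, hk⟩ := hd
  have key : (fun i => 4 * d i) =
      ∑ i, d i • ((Pi.single i (4 : ℤ) : Fin 24 → ℤ) - Pi.single 0 (4 : ℤ)) +
        k • (Pi.single 0 (8 : ℤ) : Fin 24 → ℤ) := by
    funext j
    simp only [Pi.add_apply, Finset.sum_apply, Pi.smul_apply, Pi.sub_apply, Pi.single_apply, smul_eq_mul,
      mul_sub, Finset.sum_sub_distrib, mul_ite, mul_zero, Finset.sum_ite_eq, Finset.mem_univ, if_true]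
    by_cases hj : j = 0
    · subst hj
      simp only [if_true]
      rw [← Finset.sum_mul, hk]
      ring
    · simp only [if_neg hj, Finset.sum_const_zero, mul_zero, sub_zero, add_zero]
      ring
  rw [key]
  refine L.add_mem (L.sum_mem fun i _ => L.zsmul_mem ?_ _) (L.zsmul_mem (hL.h8 0) _)
  by_cases hi : i = 0
  · subst hi
    rw [sub_self]
    exact L.zero_mem
  · exact hL.h4m i 0 hi

/-- if `y = y' + 2 d` with `Σ d` even and `2 y ∈ L` then `2 y' ∈ L` -/
theorem two_mul_mem_of_congr (hL : CoordLattice L) (y y' d : Fin 24 → ℤ)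
    (hy : (fun i => 2 * y i) ∈ L) (hyd : ∀ i, y i = y' i + 2 * d i) (hd : (2 : ℤ) ∣ ∑ i, d i) :
    (fun i => 2 * y' i) ∈ L := by
  have h4 := four_mul_mem_of_even L hL d hd
  have e : (fun i => 2 * y' i) = (fun i => 2 * y i) - (fun i => 4 * d i) := by
    funext i
    simp only [Pi.sub_apply]
    rw [hyd i]
    ring
  rw [e]
  exact L.sub_mem hy h4

/-- **LEAF A1 (640605)**, first statement -/
theorem exists_pm_lift (hL : CoordLattice L) (w : Fin 24 → ZMod 2) (hw : w ∈ codeOf L) :
    ∃ y : Fin 24 → ℤ, (fun i => 2 * y i) ∈ L ∧ (∀ i, w i = 0 → y i = 0) ∧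
      (∀ i, w i ≠ 0 → y i = 1 ∨ y i = -1) := by
  classical
  obtain ⟨y, hy, hyw⟩ := mem_codeOf.mp hw
  -- parity of `y`
  have hpar : ∀ i, (2 : ℤ) ∣ y i - (if w i = 0 then 0 else 1) := by
    intro i
    have h1 : ((y i : ℤ) : ZMod 2) = w i := (hyw i).symm
    by_cases hwi : w i = 0
    · rw [if_pos hwi, sub_zero]
      rw [hwi] at h1
      exact (ZMod.intCast_zmod_eq_zero_iff_dvd (y i) 2).mp h1
    · rw [if_neg hwi]
      have hw1 : w i = 1 := by
        have : ∀ a : ZMod 2, a ≠ 0 → a = 1 := by decide
        exact this _ hwi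
      rw [hw1] at h1
      have h2 : (((y i - 1 : ℤ)) : ZMod 2) = 0 := by
        push_cast
        rw [h1]
        ring
      exact (ZMod.intCast_zmod_eq_zero_iff_dvd (y i - 1) 2).mp h2
  choose d hd using hpar
  by_cases hev : (2 : ℤ) ∣ ∑ i, d i
  · refine ⟨fun i => if w i = 0 then 0 else 1, ?_, ?_, ?_⟩
    · apply two_mul_mem_of_congr L hL y _ d hy _ hev
      intro i
      have := hd i
      linarith
    · intro i hi
      simp only [if_pos hi]
    · intro i hi
      left
      simp only [if_neg hi]
  · by_cases hw0 : w = 0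
    · refine ⟨0, ?_, fun i _ => rfl, fun i hi => ?_⟩
      · have h0 : (fun i : Fin 24 => 2 * (0 : Fin 24 → ℤ) i) = 0 := by
          funext i
          simp
        rw [h0]
        exact L.zero_mem
      · exact absurd (by rw [hw0]; rfl) hi
    · obtain ⟨i₀, hi₀⟩ : ∃ i₀, w i₀ ≠ 0 := by
        by_contra hcon
        push Not at hcon
        exact hw0 (funext hcon)
      refine ⟨fun i => if w i = 0 then 0 else (if i = i₀ then -1 else 1), ?_, ?_, ?_⟩
      · apply two_mul_mem_of_congr L hL y _ (fun i => d i + (if i = i₀ then 1 else 0)) hy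
        · intro i
          have := hd i
          by_cases hwi : w i = 0
          · have hne : i ≠ i₀ := fun h => hi₀ (h ▸ hwi)
            simp only [if_pos hwi, if_neg hne] at this ⊢
            linarith
          · by_cases hii : i = i₀
            · simp only [if_neg hwi, if_pos hii] at this ⊢
              linarith
            · simp only [if_neg hwi, if_neg hii] at this ⊢
              linarith
        · rw [Finset.sum_add_distrib, Finset.sum_ite_eq' Finset.univ i₀ (fun _ => (1 : ℤ))]
          simp only [Finset.mem_univ, if_true]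
          have hodd : (∑ i, d i) % 2 = 1 := by
            have := Int.emod_two_eq_zero_or_one (∑ i, d i)
            rcases this with h | h
            · exact absurd (Int.dvd_of_emod_eq_zero h) hev
            · exact h
          omega
      · intro i hi
        simp only [if_pos hi]
      · intro i hi
        simp only [if_neg hi]
        by_cases hii : i = i₀
        · right
          simp only [if_pos hii]
        · left
          simp only [if_neg hii]

/-- **LEAF A1 (640605)**, second statement -/
theorem code_weight (hL : CoordLattice L) (w : Fin 24 → ZMod 2) (hw : w ∈ codeOf L) (hw0 : w ≠ 0) :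
    8 ≤ hammingNorm w ∧ 4 ∣ hammingNorm w := by
  classical
  obtain ⟨y, hyL, hy0, hy1⟩ := exists_pm_lift L hL w hw
  have hsq : ∀ i, y i ^ 2 = if w i ≠ 0 then 1 else 0 := by
    intro i
    by_cases hwi : w i = 0
    · rw [hy0 i hwi, if_neg (not_not.mpr hwi)]
      norm_num
    · rw [if_pos hwi]
      rcases hy1 i hwi with h | h <;> rw [h] <;> norm_num
  have hssq : ssq (fun i => 2 * y i) = 4 * (hammingNorm w : ℤ) := by
    unfold ssq hammingNorm
    have h1 : ∀ i, (2 * y i) ^ 2 = 4 * (if w i ≠ 0 then (1 : ℤ) else 0) := by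
      intro i
      rw [← hsq i]
      ring
    simp only [h1]
    rw [← Finset.mul_sum, Finset.sum_ite, Finset.sum_const_zero, add_zero, Finset.sum_const, nsmul_eq_mul,
      mul_one]
  have hne : (fun i => 2 * y i) ≠ 0 := by
    intro h0
    obtain ⟨i₀, hi₀⟩ : ∃ i₀, w i₀ ≠ 0 := by
      by_contra hcon
      push Not at hcon
      exact hw0 (funext hcon)
    have h1 := congrFun h0 i₀
    simp only [Pi.zero_apply] at h1
    rcases hy1 i₀ hi₀ with h | h <;> rw [h] at h1 <;> norm_num at h1
  have h16 := hL.h16 _ hyL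
  have h32 := hL.hmin _ hyL hne
  rw [hssq] at h16 h32
  constructor
  · omega
  · have h4 : (4 : ℤ) ∣ (hammingNorm w : ℤ) := by
      obtain ⟨k, hk⟩ := h16
      exact ⟨k, by omega⟩
    exact_mod_cast h4

end Cfsg.Agent.Lib.Helper54.LC
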