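import Mathlib
import Cfsg.Agent.Lib.Helper74.MinIdxHub
import Cfsg.Agent.Lib.Helper54.Conj

/-!
# S2140, keystone K10: the intermediate case

If `G = SL (Unit ⊕ κ) F = P H` with `P` the stabiliser of the point `F v0` and `|G : H|` is small
compared with `|Q : Q ∩ H|` (`Q` the transvections with centre `v0`), then the Levi complement
`SL κ F` lies in `Q (H ∩ P)`, normalises `Q ∩ H` and is transitive on `Q - 1`, so `Q ∩ H` is `1` or `Q`.
-/

set_option autoImplicit false

namespace Cfsg.Agent.Lib.Helper54.MinIdx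

open Matrix Cfsg.Agent.Lib.Helper74.MinIdx Cfsg.Agent.Lib.Helper74.MinIdxHub

variable {κ : Type*} [Fintype κ] [DecidableEq κ] {F : Type*} [Field F]

/-- `emb A` fixes `v0` -/
lemma emb_mulVec_v0 (A : SpecialLinearGroup κ F) :
    ((emb A : SpecialLinearGroup (Unit ⊕ κ) F) : Matrix (Unit ⊕ κ) (Unit ⊕ κ) F) *ᵥ
      (v0 : Unit ⊕ κ → F) = v0 := by
  rw [coe_emb]
  ext i
  cases i with
  | inl u => simp [v0, Matrix.mulVec, dotProduct, Matrix.one_apply]
  | inr k => simp [v0, Matrix.mulVec, dotProduct]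

lemma emb_mem_Pst (A : SpecialLinearGroup κ F) :
    (emb A : SpecialLinearGroup (Unit ⊕ κ) F) ∈ Pst (v0 : Unit ⊕ κ → F) :=
  ⟨1, by rw [emb_mulVec_v0]; simp⟩

/-- the dot product with `v0` is the first coordinate -/
lemma dotProduct_v0 (φ : Unit ⊕ κ → F) : φ ⬝ᵥ (v0 : Unit ⊕ κ → F) = φ (Sum.inl ()) := by
  simp [v0, dotProduct]

/-- if `G = P H` then `|P : P ∩ H| = |G : H|` -/
lemma relIndex_eq_index_of_mul {G : Type*} [Group G] (P H : Subgroup G)
    (h : ∀ g : G, ∃ a ∈ P, ∃ b ∈ H, g = a * b) : H.relIndex P = H.index := by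
  have hcos : ∀ x : G ⧸ H, ∃ a : P, x = ((a : G) : G ⧸ H) := by
    intro x
    induction x using QuotientGroup.induction_on with
    | H g =>
      obtain ⟨a, ha, b, hb, rfl⟩ := h g
      refine ⟨⟨a, ha⟩, ?_⟩
      rw [QuotientGroup.eq]
      simpa using H.inv_mem hb
  haveI : MulAction.IsPretransitive ↥P (G ⧸ H) := by
    constructor
    intro x y
    obtain ⟨a, rfl⟩ := hcos x
    obtain ⟨b, rfl⟩ := hcos y
    refine ⟨b * a⁻¹, ?_⟩
    show (((((b * a⁻¹ : P) : G) * (a : G) : G)) : G ⧸ H) = _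
    simp
  have h1 := MulAction.index_stabilizer_of_transitive ↥P (((1 : G) : G ⧸ H))
  have h2 : MulAction.stabilizer ↥P (((1 : G) : G ⧸ H)) = H.subgroupOf P := by
    ext a
    rw [MulAction.mem_stabilizer_iff, Subgroup.mem_subgroupOf]
    show ((((a : G) * 1 : G)) : G ⧸ H) = _ ↔ _
    rw [QuotientGroup.eq]
    simp
  rw [h2] at h1
  exact h1

/-- conjugating a transvection with centre `v0` by an element of the Levi complement -/
lemma emb_conj_tv (A : SpecialLinearGroup κ F) (φ : Unit ⊕ κ → F)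
    (h : φ ⬝ᵥ (v0 : Unit ⊕ κ → F) = 0)
    (h' : (Sum.elim (fun _ => 0) ((φ ∘ Sum.inr) ᵥ*
      ((A⁻¹ : SpecialLinearGroup κ F) : Matrix κ κ F)) : Unit ⊕ κ → F) ⬝ᵥ
        (v0 : Unit ⊕ κ → F) = 0) :
    emb A * tv v0 φ h * (emb A)⁻¹ =
      tv v0 (Sum.elim (fun _ => 0) ((φ ∘ Sum.inr) ᵥ*
        ((A⁻¹ : SpecialLinearGroup κ F) : Matrix κ κ F))) h' := by
  have h0 : φ (Sum.inl ()) = 0 := by rw [← dotProduct_v0 φ]; exact h
  have hc := conj_tv (emb A) v0 φ h (by rw [conj_dot]; exact h)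
  rw [hc]
  apply Subtype.ext
  rw [coe_tv, coe_tv, emb_mulVec_v0]
  congr 1
  rw [← map_inv, coe_emb, vecMul_fromBlocks]
  ext i
  cases i with
  | inl u =>
    simp only [Sum.elim_inl, Matrix.vecMul_one, Matrix.vecMul_zero, add_zero, Function.comp_apply]
    cases u
    exact h0
  | inr k =>
    simp only [Sum.elim_inr, Matrix.vecMul_zero, zero_add]

/-- `SL κ F` is transitive on non-zero row vectors -/
lemma exists_vecMul_inv (hκ : 2 ≤ Fintype.card κ) (r r' : κ → F) (hr : r ≠ 0) (hr' : r' ≠ 0) :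
    ∃ A : SpecialLinearGroup κ F,
      r ᵥ* ((A⁻¹ : SpecialLinearGroup κ F) : Matrix κ κ F) = r' := by
  obtain ⟨g, hg⟩ := K7_exists_map hκ r r' hr hr'
  refine ⟨(Matrix.SpecialLinearGroup.transpose g)⁻¹, ?_⟩
  rw [inv_inv, Matrix.SpecialLinearGroup.coe_transpose, Matrix.vecMul_transpose]
  exact hg

lemma tv_congr {ι : Type*} [Fintype ι] [DecidableEq ι] (v : ι → F) {ψ₁ ψ₂ : ι → F} (e : ψ₁ = ψ₂)
    (h₁ : ψ₁ ⬝ᵥ v = 0) (h₂ : ψ₂ ⬝ᵥ v = 0) : tv v ψ₁ h₁ = tv v ψ₂ h₂ := by
  subst e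
  rfl

/-- K10: the intermediate case. -/
theorem K10_int [Fintype F] (hκ : 2 ≤ Fintype.card κ)
    (hK9 : ∀ S : Subgroup (SpecialLinearGroup κ F), S ≠ ⊤ →
      Fintype.card F ^ (Fintype.card κ - 1) ≤ S.index)
    (H : Subgroup (SpecialLinearGroup (Unit ⊕ κ) F))
    (htrans : ∀ g : SpecialLinearGroup (Unit ⊕ κ) F,
      ∃ a ∈ Pst (v0 : Unit ⊕ κ → F), ∃ h ∈ H, g = a * h)
    (hsmall : H.index <
      H.relIndex (Qst (v0 : Unit ⊕ κ → F)) * Fintype.card F ^ (Fintype.card κ - 1)) :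
    H.relIndex (Qst (v0 : Unit ⊕ κ → F)) = 1 ∨
      H.relIndex (Qst (v0 : Unit ⊕ κ → F)) = Fintype.card F ^ Fintype.card κ := by
  classical
  set P : Subgroup (SpecialLinearGroup (Unit ⊕ κ) F) := Pst v0 with hP
  set Q : Subgroup (SpecialLinearGroup (Unit ⊕ κ) F) := Qst v0 with hQ
  have hQP : Q ≤ P := K6_le v0
  have hnorm : ∀ a ∈ P, ∀ t ∈ Q, a * t * a⁻¹ ∈ Q := K6_normal v0
  have hcomm : ∀ x ∈ Q, ∀ y ∈ Q, x * y = y * x := K6_comm (v0 : Unit ⊕ κ → F)
  haveI : Finite (SpecialLinearGroup (Unit ⊕ κ) F) := Subtype.finite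
  set D0 : Subgroup (SpecialLinearGroup (Unit ⊕ κ) F) := H ⊓ P with hD0
  set R : Subgroup (SpecialLinearGroup (Unit ⊕ κ) F) := Q ⊔ D0 with hR
  have hD0R : D0 ≤ R := le_sup_right
  have hQR : Q ≤ R := le_sup_left
  have hRP : R ≤ P := sup_le hQP inf_le_right
  have hnz : ∀ A B : Subgroup (SpecialLinearGroup (Unit ⊕ κ) F), A.relIndex B ≠ 0 := by
    intro A B
    unfold Subgroup.relIndex
    exact Subgroup.index_ne_zero_of_finite
  -- indices
  have h1 : D0.relIndex P = H.index := by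
    rw [hD0, Subgroup.inf_relIndex_right]
    exact relIndex_eq_index_of_mul P H htrans
  have h2 : D0.relIndex R * R.relIndex P = D0.relIndex P :=
    Subgroup.relIndex_mul_relIndex D0 R P hD0R hRP
  have h3 : H.relIndex Q ≤ D0.relIndex R := by
    have e : D0.relIndex Q = H.relIndex Q := by
      rw [← Subgroup.inf_relIndex_right D0 Q, ← Subgroup.inf_relIndex_right H Q]
      congr 1
      rw [hD0, inf_assoc, inf_eq_right.mpr hQP]
    rw [← e]
    exact Subgroup.relIndex_le_of_le_right hQR (hnz _ _)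
  have h4 : R.relIndex P < Fintype.card F ^ (Fintype.card κ - 1) := by
    have h5 : H.relIndex Q * R.relIndex P ≤ D0.relIndex R * R.relIndex P :=
      Nat.mul_le_mul_right _ h3
    rw [h2, h1] at h5
    exact Nat.lt_of_mul_lt_mul_left (lt_of_le_of_lt h5 hsmall)
  -- the Levi complement lies in `R`
  have hST : R.comap (emb : SpecialLinearGroup κ F →* SpecialLinearGroup (Unit ⊕ κ) F) = ⊤ := by
    by_contra hne
    have h6 := hK9 _ hne
    rw [Subgroup.index_comap] at h6
    have hrange : (emb : SpecialLinearGroup κ F →* SpecialLinearGroup (Unit ⊕ κ) F).range ≤ P := by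
      rintro _ ⟨A, rfl⟩
      exact emb_mem_Pst A
    have h7 := Subgroup.relIndex_le_of_le_right (H := R) hrange (hnz _ _)
    omega
  have hemb : ∀ A : SpecialLinearGroup κ F, emb A ∈ R := by
    intro A
    have : A ∈ R.comap (emb : SpecialLinearGroup κ F →* SpecialLinearGroup (Unit ⊕ κ) F) := by
      rw [hST]; exact Subgroup.mem_top _
    exact this
  by_cases hQH : Q ≤ H
  · left
    exact Subgroup.relIndex_eq_one.mpr hQH
  · right
    have hbot : H ⊓ Q = ⊥ := by
      rw [eq_bot_iff]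
      intro t ht
      rw [Subgroup.mem_bot]
      by_contra ht1
      apply hQH
      obtain ⟨htH, htQ⟩ := ht
      obtain ⟨φ0, h0, rfl⟩ := mem_Qst.mp htQ
      have hφ0l : φ0 (Sum.inl ()) = 0 := by rw [← dotProduct_v0 φ0]; exact h0
      have hr0 : φ0 ∘ Sum.inr ≠ (0 : κ → F) := by
        intro hr0
        apply ht1
        have hφ0 : φ0 = 0 := by
          ext i
          cases i with
          | inl u => cases u; exact hφ0l
          | inr k => exact congrFun hr0 k
        rw [tv_congr v0 hφ0 h0 (zero_dotProduct _)]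
        exact tv_zero_right v0
      intro t' ht'
      obtain ⟨φ', h', rfl⟩ := mem_Qst.mp ht'
      have hφ'l : φ' (Sum.inl ()) = 0 := by rw [← dotProduct_v0 φ']; exact h'
      by_cases hr' : φ' ∘ Sum.inr = (0 : κ → F)
      · have hφ' : φ' = 0 := by
          ext i
          cases i with
          | inl u => cases u; exact hφ'l
          | inr k => exact congrFun hr' k
        rw [tv_congr v0 hφ' h' (zero_dotProduct _), tv_zero_right]
        exact H.one_mem
      · obtain ⟨A, hA⟩ := exists_vecMul_inv hκ _ _ hr0 hr'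
        have hφ'e : (Sum.elim (fun _ => 0) ((φ0 ∘ Sum.inr) ᵥ*
            ((A⁻¹ : SpecialLinearGroup κ F) : Matrix κ κ F)) : Unit ⊕ κ → F) = φ' := by
          rw [hA]
          ext i
          cases i with
          | inl u => cases u; exact hφ'l.symm
          | inr k => rfl
        have hc := emb_conj_tv A φ0 h0 (by rw [hφ'e]; exact h')
        rw [tv_congr v0 hφ'e _ h'] at hc
        rw [← hc]
        obtain ⟨x, hx, y, hy, hxy⟩ :=
          Cfsg.Agent.Lib.Helper54.exists_mul_of_mem_sup_of_le_normalizer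
            (A := Q) (B := D0) (by
              intro y hy
              rw [Subgroup.mem_normalizer_iff]
              intro z
              constructor
              · intro hz
                exact hnorm y hy.2 z hz
              · intro hz
                have h8 := hnorm y⁻¹ (P.inv_mem hy.2) _ hz
                have h9 : y⁻¹ * (y * z * y⁻¹) * y⁻¹⁻¹ = z := by group
                rwa [h9] at h8) (hemb A)
        rw [hxy]
        have hyt : y * tv v0 φ0 h0 * y⁻¹ ∈ Q := hnorm y hy.2 _ htQ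
        have hytH : y * tv v0 φ0 h0 * y⁻¹ ∈ H := H.mul_mem (H.mul_mem hy.1 htH) (H.inv_mem hy.1)
        have h10 : x * y * tv v0 φ0 h0 * (x * y)⁻¹ = y * tv v0 φ0 h0 * y⁻¹ := by
          have h11 := hcomm x hx _ hyt
          calc x * y * tv v0 φ0 h0 * (x * y)⁻¹ = (x * (y * tv v0 φ0 h0 * y⁻¹)) * x⁻¹ := by group
            _ = ((y * tv v0 φ0 h0 * y⁻¹) * x) * x⁻¹ := by rw [h11]
            _ = y * tv v0 φ0 h0 * y⁻¹ := by group
        rw [h10]
        exact hytH
    rw [← Subgroup.inf_relIndex_right, hbot, Subgroup.relIndex_bot_left,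
      K6_card_Qst (v0 : Unit ⊕ κ → F) (by
        intro h
        have := congrFun h (Sum.inl ())
        simp [v0] at this)]
    congr 1
    simp

end Cfsg.Agent.Lib.Helper54.MinIdx
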