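import Cfsg.Agent.Lib.Helper54.SylowLib

set_option autoImplicit false

namespace Cfsg.Agent.Lib.Helper54

open Cfsg
open scoped commutatorElement Pointwise

variable {G : Type*} [Group G] {p : ℕ}

/-- In a `Y`-minimal finite group, a proper subgroup containing `Y` lies in the maximal subgroup
containing `Y`. -/
theorem minimalOver_le_coatom [Finite G] {Y M X : Subgroup G} (hmin : IsMinimalOver Y)
    (hM : IsCoatom M) (hYM : Y ≤ M) (hYX : Y ≤ X) (hX : X ≠ ⊤) : X ≤ M := by
  obtain ⟨_, M₀, ⟨_, _⟩, huniq⟩ := hmin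
  obtain ⟨M', hM'co, hM'⟩ := (eq_top_or_exists_le_coatom X).resolve_left hX
  have h1 : M' = M₀ := huniq M' ⟨hM'co, hYX.trans hM'⟩
  have h2 : M = M₀ := huniq M ⟨hM, hYM⟩
  rw [h2, ← h1]
  exact hM'

/-- In a `Y`-minimal group, a normal subgroup containing `Y` is everything. -/
theorem minimalOver_eq_top_of_normal {Y N : Subgroup G} (hmin : IsMinimalOver Y)
    (hN : N.Normal) (hYN : Y ≤ N) : N = ⊤ := by
  rw [eq_top_iff, ← hmin.1]
  exact Subgroup.normalClosure_le_normal hYN

theorem minimalOver_ne_top {Y : Subgroup G} (hmin : IsMinimalOver Y) : Y ≠ ⊤ := by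
  obtain ⟨_, M₀, ⟨hco, hle⟩, _⟩ := hmin
  intro h
  rw [h, top_le_iff] at hle
  exact hco.1 hle

theorem minimalOver_not_normal {Y : Subgroup G} (hmin : IsMinimalOver Y) : ¬ Y.Normal :=
  fun h => minimalOver_ne_top hmin (minimalOver_eq_top_of_normal hmin h le_rfl)

/-- if `N ⊔ P = ⊤` with `N` normal and `P` a `p`-group then `G/N` is a `p`-group -/
theorem quotient_isPGroup_of_sup_eq_top {N P : Subgroup G} [N.Normal] (hP : IsPGroup p ↥P)
    (h : N ⊔ P = ⊤) : IsPGroup p (G ⧸ N) := by
  apply hP.of_surjective ((QuotientGroup.mk' N).comp P.subtype)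
  intro x
  induction x using QuotientGroup.induction_on with
  | H g =>
    have hg : g ∈ ((N ⊔ P : Subgroup G) : Set G) := by rw [h]; exact Set.mem_univ _
    rw [Subgroup.normal_mul] at hg
    obtain ⟨n, hn, t, ht, rfl⟩ := hg
    refine ⟨⟨t, ht⟩, ?_⟩
    show (QuotientGroup.mk t : G ⧸ N) = QuotientGroup.mk (n * t)
    rw [QuotientGroup.eq]
    have := (inferInstance : N.Normal).conj_mem n hn t⁻¹
    simpa [mul_assoc] using this

theorem pResidual_le_of_sup_eq_top {N P : Subgroup G} [N.Normal] (hP : IsPGroup p ↥P)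
    (h : N ⊔ P = ⊤) : pResidual p G ≤ N :=
  pResidual_le_of_quotient_isPGroup (quotient_isPGroup_of_sup_eq_top hP h)

/-- the image of a coatom containing the kernel under a surjection is a coatom -/
theorem isCoatom_map_of_surjective {H : Type*} [Group H] {φ : G →* H}
    (hφ : Function.Surjective φ) {M : Subgroup G} (hM : IsCoatom M) (hker : φ.ker ≤ M) :
    IsCoatom (M.map φ) := by
  have hcm : (M.map φ).comap φ = M := Subgroup.comap_map_eq_self hker
  constructor
  · intro h
    apply hM.1
    rw [← hcm, h, Subgroup.comap_top]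
  · intro Z hZ
    have h1 : (M.map φ).comap φ < Z.comap φ :=
      (Subgroup.comap_lt_comap_of_surjective hφ).2 hZ
    rw [hcm] at h1
    have h2 := hM.2 _ h1
    apply Subgroup.comap_injective hφ
    rw [h2, Subgroup.comap_top]

/-- quotients of `Y`-minimal groups: either `N Y = G` or `G/N` is minimal over the image of `Y` -/
theorem minimalOver_map_mk [Finite G] {Y : Subgroup G} (hmin : IsMinimalOver Y)
    (N : Subgroup G) [N.Normal] (hNY : N ⊔ Y ≠ ⊤) :
    IsMinimalOver (Y.map (QuotientGroup.mk' N)) := by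
  have hmin' := hmin
  obtain ⟨hnc, M, ⟨hMco, hYM⟩, hMuniq⟩ := hmin
  have hπ : Function.Surjective (QuotientGroup.mk' N) := QuotientGroup.mk'_surjective N
  have hNM : N ≤ M := le_sup_left.trans (minimalOver_le_coatom hmin' hMco hYM le_sup_right hNY)
  have hker : (QuotientGroup.mk' N).ker ≤ M := by rw [QuotientGroup.ker_mk']; exact hNM
  constructor
  · -- normal closure
    have h1 : ((Subgroup.normalClosure ((Y.map (QuotientGroup.mk' N) : Subgroup (G ⧸ N)) :
        Set (G ⧸ N))).comap (QuotientGroup.mk' N)) = ⊤ := by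
      apply minimalOver_eq_top_of_normal hmin' (Subgroup.Normal.comap inferInstance _)
      rw [← Subgroup.map_le_iff_le_comap]
      exact Subgroup.le_normalClosure
    apply Subgroup.comap_injective hπ
    rw [h1, Subgroup.comap_top]
  · refine ⟨M.map (QuotientGroup.mk' N),
      ⟨isCoatom_map_of_surjective hπ hMco hker, Subgroup.map_mono hYM⟩, ?_⟩
    rintro X ⟨hXco, hYX⟩
    have h2 : X.comap (QuotientGroup.mk' N) = M :=
      hMuniq _ ⟨Subgroup.isCoatom_comap_of_surjective hπ hXco,
        Subgroup.map_le_iff_le_comap.1 hYX⟩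
    rw [← h2, Subgroup.map_comap_eq_self_of_surjective hπ]

end Cfsg.Agent.Lib.Helper54
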