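import Mathlib
import Cfsg.Agent.Lib.Helper56.NSE3Defs

set_option autoImplicit false

/-!
# K-NSE3 leaf L06 (S3996): two distinct primes cannot have the same number of elements of order divisible by them
-/

namespace Cfsg.Agent.Lib.Helper54.NSE3

open Cfsg.Agent.S3995 (s)
open Cfsg.Agent.Lib.Helper56.NSE3 (Hyp)

variable {G : Type*} [Group G] [Finite G]

/-- pure arithmetic: `M / d ∣ W` and `M / e ∣ W` with `d, e ∣ M` coprime give `M ∣ W` -/
theorem dvd_of_div_dvd {M W d e : ℕ} (hM : 0 < M) (hd : d ∣ M) (he : e ∣ M) (hco : Nat.Coprime d e)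
    (h1 : M / d ∣ W) (h2 : M / e ∣ W) : M ∣ W := by
  obtain ⟨m', hm'⟩ := Nat.Coprime.mul_dvd_of_dvd_of_dvd hco hd he
  have hd0 : 0 < d := Nat.pos_of_dvd_of_pos hd hM
  have he0 : 0 < e := Nat.pos_of_dvd_of_pos he hM
  have hm0 : 0 < m' := by
    rcases Nat.eq_zero_or_pos m' with h | h
    · rw [h, mul_zero] at hm'
      omega
    · exact h
  have e1 : M / d = e * m' := by
    rw [hm', mul_assoc]
    exact Nat.mul_div_cancel_left _ hd0
  have e2 : M / e = d * m' := by
    rw [hm', mul_comm d e, mul_assoc]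
    exact Nat.mul_div_cancel_left _ he0
  rw [e1] at h1
  rw [e2] at h2
  obtain ⟨x, hx⟩ := h1
  -- `d * m' ∣ e * m' * x`, so `d ∣ e * x`, so `d ∣ x`
  have h3 : d * m' ∣ (e * x) * m' := by
    have : e * m' * x = (e * x) * m' := by ring
    rw [← this, ← hx]
    exact h2
  have h4 : d ∣ e * x := Nat.dvd_of_mul_dvd_mul_right hm0 h3
  have h5 : d ∣ x := hco.dvd_of_dvd_mul_left h4
  obtain ⟨y, hy⟩ := h5
  refine ⟨y, ?_⟩
  rw [hx, hy, hm']
  ring

/-- L06 WEISNER KILL, from `Cfsg.Agent.S3994.result` at `p` and at `q`. -/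
theorem weisner_kill {p q : ℕ} (hp : p.Prime) (hq : q.Prime) (hpq : p ≠ q)
    (hpG : p ∣ Nat.card G) (hqG : q ∣ Nat.card G)
    (hW : Nat.card {g : G // p ∣ orderOf g} = Nat.card {g : G // q ∣ orderOf g}) : False := by
  classical
  have hM : 0 < Nat.card G := Nat.card_pos
  -- `W ≠ 0`
  have hW0 : Nat.card {g : G // p ∣ orderOf g} ≠ 0 := by
    haveI := Fact.mk hp
    obtain ⟨x, hx⟩ := exists_prime_orderOf_dvd_card' p hpG
    haveI : Nonempty {g : G // p ∣ orderOf g} := ⟨⟨x, by rw [hx]⟩⟩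
    exact Nat.card_pos.ne'
  -- `W < M`
  have hlt : Nat.card {g : G // p ∣ orderOf g} < Nat.card G := by
    letI := Fintype.ofFinite G
    rw [Nat.card_eq_fintype_card, Nat.card_eq_fintype_card]
    apply Fintype.card_subtype_lt (x := (1 : G))
    rw [orderOf_one]
    exact hp.not_dvd_one
  have h1 := (Cfsg.Agent.S3994.result (G := G) p hp.pos).resolve_left hW0
  have h2 := (Cfsg.Agent.S3994.result (G := G) q hq.pos).resolve_left (hW ▸ hW0)
  rw [← hW] at h2
  have hco : Nat.Coprime (Nat.gcd (Nat.card G) (p ^ Nat.card G))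
      (Nat.gcd (Nat.card G) (q ^ Nat.card G)) := by
    have h0 : Nat.Coprime (p ^ Nat.card G) (q ^ Nat.card G) :=
      Nat.Coprime.pow _ _ ((Nat.coprime_primes hp hq).mpr hpq)
    exact Nat.Coprime.coprime_dvd_left (Nat.gcd_dvd_right _ _)
      (Nat.Coprime.coprime_dvd_right (Nat.gcd_dvd_right _ _) h0)
  have hdvd : Nat.card G ∣ Nat.card {g : G // p ∣ orderOf g} :=
    dvd_of_div_dvd hM (Nat.gcd_dvd_left _ _) (Nat.gcd_dvd_left _ _) hco h1 h2
  have hle := Nat.le_of_dvd (Nat.pos_of_ne_zero hW0) hdvd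
  omega

end Cfsg.Agent.Lib.Helper54.NSE3
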