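import Mathlib
import Cfsg.Agent.Lib.Helper54.OElK0
import Cfsg.Agent.Lib.Helper16.OhPK1d
import Cfsg.Agent.Lib.Helper28.OhPA

/-!
# K-OEl-K1 (keystone 598813, architect helper49), part a: anisotropic planes, typed complements, elliptic frames
-/

set_option autoImplicit false
set_option linter.unusedSimpArgs false
set_option linter.unusedSectionVars false
set_option linter.unusedVariables false

namespace Cfsg.Agent.Lib.Helper54.OEl

open Module Cfsg.Agent.Lib.Helper98.Elus Cfsg.Agent.Lib.Helper98.Sy Cfsg.Agent.Lib.Helper38.OhP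
  Cfsg.Agent.Lib.Helper72.Nd Cfsg.Agent.Lib.Helper98.Ti Cfsg.Agent.Lib.Helper16.OhP
open Cfsg.Agent.Lib.Helper80.Oh (IsSF finrank_spanSF nonDeg_spanSF half_frame)

universe u
variable {F : Type u} [Field F] {V : Type u} [AddCommGroup V] [Module F V]

/-! ### anisotropic planes -/

theorem ap_left_ne {Q : QuadraticForm F V} {u w : V} (h : AP Q u w) : Q u ≠ 0 := by
  intro hu
  have := h 1 0 (by rw [one_smul, zero_smul, add_zero]; exact hu)
  exact one_ne_zero this.1

theorem ap_linearIndependent {Q : QuadraticForm F V} {u w : V} (h : AP Q u w) :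
    LinearIndependent F ![u, w] := by
  rw [LinearIndependent.pair_iff]
  intro s t hst
  exact h s t (by rw [hst, map_zero])

theorem finrank_span_ap {Q : QuadraticForm F V} {u w : V} (h : AP Q u w) :
    finrank F (Submodule.span F ({u, w} : Set V)) = 2 := by
  have := finrank_span_eq_card (ap_linearIndependent h)
  rw [Matrix.range_cons_cons_empty] at this
  rw [this]; simp

theorem not_plusQ_span_ap [FiniteDimensional F V] {Q : QuadraticForm F V} {u w : V} (h : AP Q u w) :
    ¬ PlusQ Q (Submodule.span F ({u, w} : Set V)) := by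
  rintro ⟨U', hU'P, hU'0, hfr⟩
  rw [finrank_span_ap h] at hfr
  have h1 : finrank F U' = 1 := by omega
  have hne : U' ≠ ⊥ := by
    intro hb
    rw [hb, finrank_bot] at h1
    omega
  obtain ⟨z, hz, hz0⟩ := Submodule.exists_mem_ne_zero_of_ne_bot hne
  obtain ⟨a, b, hab⟩ := Submodule.mem_span_pair.mp (hU'P hz)
  have h2 := h a b (by rw [hab]; exact hU'0 z hz)
  apply hz0
  rw [← hab, h2.1, h2.2, zero_smul, zero_smul, add_zero]

theorem nonDeg_span_ap [Fintype F] {Q : QuadraticForm F V} {u w : V} (h : AP Q u w) :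
    NonDeg (pB Q) (Submodule.span F ({u, w} : Set V)) := by
  intro v hv hperp
  by_cases h2 : (2 : F) = 0
  · -- characteristic two
    obtain ⟨s, t, rfl⟩ := Submodule.mem_span_pair.mp hv
    have huP : u ∈ Submodule.span F ({u, w} : Set V) := Submodule.subset_span (by simp)
    have hwP : w ∈ Submodule.span F ({u, w} : Set V) := Submodule.subset_span (by simp)
    have huu : pB Q u u = 0 := by rw [pB_self, h2, zero_mul]
    have hww : pB Q w w = 0 := by rw [pB_self, h2, zero_mul]
    have e1 := hperp u huP
    have e2 := hperp w hwP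
    rw [map_add, map_smul, map_smul, LinearMap.add_apply, LinearMap.smul_apply, LinearMap.smul_apply,
      smul_eq_mul, smul_eq_mul] at e1 e2
    rw [huu, mul_zero, zero_add, pB_symm Q w u] at e1
    rw [hww, mul_zero, add_zero] at e2
    by_cases hb : pB Q u w = 0
    · exfalso
      -- `Q` is additive on the plane; every element is a square
      haveI : CharP F 2 := CharTwo.of_one_ne_zero_of_two_eq_zero one_ne_zero h2
      have hrc : ringChar F = 2 := ringChar.eq F 2
      obtain ⟨x, hx⟩ := FiniteField.isSquare_of_char_two hrc (Q w / Q u)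
      have hQu := ap_left_ne h
      have h3 : Q (x • u + (1 : F) • w) = 0 := by
        have h4 : Q (x • u + (1 : F) • w) = Q (x • u) + Q ((1 : F) • w) + pB Q (x • u) ((1 : F) • w) := by
          rw [pB_apply]; ring
        have hp : pB Q (x • u) ((1 : F) • w) = 0 := by
          simp only [map_smul, LinearMap.smul_apply, hb, smul_zero]
        rw [h4, hp, QuadraticMap.map_smul, QuadraticMap.map_smul]
        simp only [smul_eq_mul, mul_zero, add_zero, mul_one, one_mul]
        have h5 : x * x * Q u = Q w := by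
          rw [← hx]; field_simp
        rw [h5]
        have : Q w + Q w = 2 * Q w := by ring
        rw [this, h2, zero_mul]
      exact one_ne_zero (h x 1 h3).2
    · rcases mul_eq_zero.mp e1 with ht | hb'
      · rcases mul_eq_zero.mp e2 with hs | hb'
        · rw [hs, ht, zero_smul, zero_smul, add_zero]
        · exact absurd hb' hb
      · exact absurd hb' hb
  · -- odd characteristic
    have h1 := hperp v hv
    rw [pB_self] at h1
    have hQv : Q v = 0 := by
      rcases mul_eq_zero.mp h1 with h | h
      · exact absurd h h2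
      · exact h
    obtain ⟨s, t, rfl⟩ := Submodule.mem_span_pair.mp hv
    have := h s t hQv
    rw [this.1, this.2, zero_smul, zero_smul, add_zero]

/-! ### frames span plus type subspaces -/

theorem plusQ_spanQF (Q : QuadraticForm F V) {k : ℕ} (s : Fin k → V × V) (hs : IsQF Q s) :
    PlusQ Q (spanHF F s) := by
  have hS : ∀ a b, pB Q a b = pB Q b a := pB_symm Q
  obtain ⟨h1, -, h3⟩ := half_frame hS s hs.isSF
  refine ⟨Submodule.span F (Set.range fun a => (s a).1), h1, ?_, by
    rw [h3, finrank_spanSF hS s hs.isSF]⟩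
  apply q_zero_on_span Q (fun a => (s a).1) (fun a => (hs.2 a).1)
  intro a b
  by_cases hab : a = b
  · subst hab
    rw [pB_self, (hs.2 a).1, mul_zero]
  · exact (hs.1.2 a b hab).1

/-! ### typed subspaces -/

/-- nondegenerate subspace of dimension `2 D` and type `ε` -/
def NT (Q : QuadraticForm F V) (ε : Prop) (U : Submodule F V) (D : ℕ) : Prop :=
  NonDeg (pB Q) U ∧ finrank F U = 2 * D ∧ (PlusQ Q U ↔ ε)

/-- the complement of a singular hyperbolic pair keeps the type -/
theorem NT_complP [Fintype F] [FiniteDimensional F V] (Q : QuadraticForm F V) (ε : Prop)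
    (U : Submodule F V) (D : ℕ) (h : NT Q ε U D) {x y : V} (hxU : x ∈ U) (hyU : y ∈ U)
    (hx : Q x = 0) (hy : Q y = 0) (hxy : pB Q x y = 1) :
    1 ≤ D ∧ NT Q ε (complP Q U x y) (D - 1) := by
  have hS : ∀ a b, pB Q a b = pB Q b a := pB_symm Q
  have hR := Cfsg.Agent.Lib.Helper98.Os.isRefl_of_symm hS
  have hq := isQF_pairF Q hx hy hxy
  have hs := hq.isSF
  have hHn := nonDeg_spanSF hS (pairF x y) hs
  have hHd := finrank_spanSF hS (pairF x y) hs
  have hHU : spanHF F (pairF x y) ≤ U := spanHF_le (pairF x y) U (fun a => ⟨hxU, hyU⟩)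
  obtain ⟨h1, -, h3, h4⟩ := Cfsg.Agent.Lib.Helper98.Os.compl_props hR (spanHF F (pairF x y)) U hHn
    hHU h.1
  have hD1 : 1 ≤ D := by have := h.2.1; omega
  have hCd : finrank F (complP Q U x y) = 2 * (D - 1) := by
    unfold complP; have := h.2.1; omega
  refine ⟨hD1, h3, hCd, ?_⟩
  have hort : Ort (pB Q) (spanHF F (pairF x y)) (complP Q U x y) := by
    intro a ha b hb
    have hb' : b ∈ LinearMap.BilinForm.orthogonal (pB Q) (spanHF F (pairF x y)) := by
      unfold complP at hb
      exact (Submodule.mem_inf.mp hb).1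
    exact LinearMap.BilinForm.mem_orthogonal_iff.mp hb' a ha
  have hkey := Cfsg.Agent.Lib.Helper28.OhP.plusQ_sup_iff Q (spanHF F (pairF x y)) (complP Q U x y)
    hHn h3 hort (by rw [hHd]; exact ⟨1, by ring⟩) (by rw [hCd]; exact ⟨D - 1, by ring⟩)
  have hsup : spanHF F (pairF x y) ⊔ complP Q U x y = U := h1
  rw [hsup] at hkey
  have hHp := plusQ_spanQF Q (pairF x y) hq
  rw [← h.2.2, hkey]
  exact ⟨fun hc => ⟨fun _ => hc, fun _ => hHp⟩, fun hc => hc.mp hHp⟩

end Cfsg.Agent.Lib.Helper54.OEl
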