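import Mathlib
import Cfsg.Agent.Lib.Helper54.OElK1a

/-!
# K-OEl-K1 (keystone 598813, architect helper49), part b: counting elliptic frames
-/

set_option autoImplicit false
set_option linter.unusedSimpArgs false
set_option linter.unusedSectionVars false
set_option linter.unusedVariables false

namespace Cfsg.Agent.Lib.Helper54.OEl

open Module Cfsg.Agent.Lib.Helper98.Elus Cfsg.Agent.Lib.Helper98.Sy Cfsg.Agent.Lib.Helper38.OhP
  Cfsg.Agent.Lib.Helper72.Nd Cfsg.Agent.Lib.Helper98.Ti Cfsg.Agent.Lib.Helper16.OhP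
open Cfsg.Agent.Lib.Helper80.Oh (IsSF finrank_spanSF nonDeg_spanSF half_frame)

universe u
variable {F : Type u} [Field F] {V : Type u} [AddCommGroup V] [Module F V]

/-- the complement of a frame inside `U` -/
noncomputable def cmpl (Q : QuadraticForm F V) (U : Submodule F V) {k : ℕ} (s : Fin k → V × V) :
    Submodule F V :=
  LinearMap.BilinForm.orthogonal (pB Q) (spanHF F s) ⊓ U

theorem mem_cmpl (Q : QuadraticForm F V) (U : Submodule F V) {k : ℕ} (s : Fin k → V × V) (v : V) :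
    v ∈ cmpl Q U s ↔ (∀ a, pB Q (s a).1 v = 0 ∧ pB Q (s a).2 v = 0) ∧ v ∈ U := by
  unfold cmpl spanHF
  rw [Submodule.mem_inf, mem_orth_span_range_iff]
  constructor
  · rintro ⟨h, hU⟩
    exact ⟨fun a => ⟨h (Sum.inl a), h (Sum.inr a)⟩, hU⟩
  · rintro ⟨h, hU⟩
    refine ⟨fun i => ?_, hU⟩
    rcases i with a | a
    · exact (h a).1
    · exact (h a).2

theorem mem_cmpl_cons (Q : QuadraticForm F V) (U : Submodule F V) {k : ℕ} (t : Fin k → V × V)
    (p : V × V) (v : V) :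
    v ∈ cmpl Q U (Fin.cons p t : Fin (k + 1) → V × V) ↔ v ∈ cmpl Q (complP Q U p.1 p.2) t := by
  rw [mem_cmpl, mem_cmpl, Fin.forall_fin_succ, mem_complP]
  simp only [Fin.cons_zero, Fin.cons_succ]
  tauto

/-- elliptic frames in `U`: `k` singular hyperbolic pairs and an anisotropic pair in their complement -/
def IsEF (Q : QuadraticForm F V) (U : Submodule F V) {k : ℕ} (x : (Fin k → V × V) × (V × V)) : Prop :=
  (IsQF Q x.1 ∧ InU U x.1) ∧ x.2.1 ∈ cmpl Q U x.1 ∧ x.2.2 ∈ cmpl Q U x.1 ∧ AP Q x.2.1 x.2.2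

theorem isEF_cons_iff (Q : QuadraticForm F V) (U : Submodule F V) {k : ℕ} (t : Fin k → V × V)
    (p z : V × V) :
    IsEF Q U ((Fin.cons p t : Fin (k + 1) → V × V), z) ↔
      (pB Q p.1 p.2 = 1 ∧ Q p.1 = 0 ∧ Q p.2 = 0 ∧ p.1 ∈ U ∧ p.2 ∈ U) ∧
        IsEF Q (complP Q U p.1 p.2) (t, z) := by
  unfold IsEF
  simp only
  rw [mem_cmpl_cons, mem_cmpl_cons, frame_head_iff Q U t p]
  tauto

section Count

variable [Fintype F] [FiniteDimensional F V]

/-- the typed hyperbolic pair count, generic in the number `σ` of nonzero singular vectors -/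
theorem card_hypPairs_of (Q : QuadraticForm F V) (U : Submodule F V) (D σ : ℕ)
    (hU : NonDeg (pB Q) U) (hD : finrank F U = 2 * D) (hD1 : 1 ≤ D)
    (hσ : Nat.card {x : V // x ∈ U ∧ x ≠ 0 ∧ Q x = 0} = σ) :
    Nat.card {p : V × V // pB Q p.1 p.2 = 1 ∧ Q p.1 = 0 ∧ Q p.2 = 0 ∧ p.1 ∈ U ∧ p.2 ∈ U} =
      σ * Fintype.card F ^ (2 * D - 2) := by
  classical
  haveI : Finite V := Module.finite_of_finite F
  let e : {p : V × V // pB Q p.1 p.2 = 1 ∧ Q p.1 = 0 ∧ Q p.2 = 0 ∧ p.1 ∈ U ∧ p.2 ∈ U} ≃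
      Σ x : {x : V // x ∈ U ∧ x ≠ 0 ∧ Q x = 0},
        {y : V // pB Q x.1 y = 1 ∧ y ∈ U ∧ Q y = 0} :=
    { toFun := fun p => ⟨⟨p.1.1, p.2.2.2.2.1, fun h => by
          have := p.2.1
          rw [h] at this
          simp at this, p.2.2.1⟩, ⟨p.1.2, p.2.1, p.2.2.2.2.2, p.2.2.2.1⟩⟩
      invFun := fun s => ⟨(s.1.1, s.2.1), s.2.2.1, s.1.2.2.2, s.2.2.2.2, s.1.2.1, s.2.2.2.1⟩
      left_inv := fun p => rfl
      right_inv := fun s => rfl }
  rw [Nat.card_congr e]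
  haveI : Fintype {x : V // x ∈ U ∧ x ≠ 0 ∧ Q x = 0} := Fintype.ofFinite _
  have hq : 1 < Fintype.card F := Fintype.one_lt_card
  have hfib : ∀ x : {x : V // x ∈ U ∧ x ≠ 0 ∧ Q x = 0},
      Nat.card {y : V // pB Q x.1 y = 1 ∧ y ∈ U ∧ Q y = 0} = Fintype.card F ^ (2 * D - 2) := by
    intro x
    have h1 := card_singQ_fiber Q U hU x.1 x.2.1 x.2.2.1 x.2.2.2
    rw [hD] at h1
    have h3 : Fintype.card F ^ (2 * D - 1) = Fintype.card F ^ (2 * D - 2) * Fintype.card F := by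
      rw [← pow_succ]
      congr 1
      omega
    rw [h3] at h1
    exact Nat.eq_of_mul_eq_mul_right (by omega) h1
  rw [Nat.card_sigma, Finset.sum_congr rfl (fun x _ => hfib x), Finset.sum_const,
    Finset.card_univ, ← Nat.card_eq_fintype_card, smul_eq_mul, hσ]

/-- the base of the induction: no hyperbolic pairs -/
theorem card_EF_zero (Q : QuadraticForm F V) (U : Submodule F V) :
    Nat.card {x : (Fin 0 → V × V) × (V × V) // IsEF Q U x} =
      Nat.card {p : V × V // p.1 ∈ U ∧ p.2 ∈ U ∧ AP Q p.1 p.2} := by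
  apply Nat.card_congr
  refine
    { toFun := fun x => ⟨x.1.2, ((mem_cmpl Q U x.1.1 _).mp x.2.2.1).2,
        ((mem_cmpl Q U x.1.1 _).mp x.2.2.2.1).2, x.2.2.2.2⟩
      invFun := fun p => ⟨(fun a => Fin.elim0 a, p.1),
        ⟨⟨⟨fun a => Fin.elim0 a, fun a => Fin.elim0 a⟩, fun a => Fin.elim0 a⟩, fun a => Fin.elim0 a⟩,
        ?_, ?_, p.2.2.2⟩
      left_inv := ?_
      right_inv := fun p => rfl }
  · exact (mem_cmpl Q U _ _).mpr ⟨fun a => Fin.elim0 a, p.2.1⟩
  · exact (mem_cmpl Q U _ _).mpr ⟨fun a => Fin.elim0 a, p.2.2.1⟩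
  · intro x
    apply Subtype.ext
    apply Prod.ext
    · funext a; exact Fin.elim0 a
    · rfl

/-- **the elliptic frame count**, generic in the family `T` of typed subspaces: `σ D` nonzero singular vectors,
`α D` = twice the number of anisotropic pairs -/
theorem card_EF_of (Q : QuadraticForm F V) (T : Submodule F V → ℕ → Prop) (σ α : ℕ → ℕ)
    (hT1 : ∀ U D, T U D → NonDeg (pB Q) U ∧ finrank F U = 2 * D)
    (hT2 : ∀ U D, T U D → ∀ x y : V, x ∈ U → y ∈ U → Q x = 0 → Q y = 0 → pB Q x y = 1 →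
      T (complP Q U x y) (D - 1))
    (hT3 : ∀ U D, T U D → Nat.card {x : V // x ∈ U ∧ x ≠ 0 ∧ Q x = 0} = σ D)
    (hT4 : ∀ U D, T U D → 1 ≤ D →
      2 * Nat.card {p : V × V // p.1 ∈ U ∧ p.2 ∈ U ∧ AP Q p.1 p.2} = α D) :
    ∀ (k : ℕ) (U : Submodule F V) (D : ℕ), T U D → k + 1 ≤ D →
      2 * Nat.card {x : (Fin k → V × V) × (V × V) // IsEF Q U x} =
        (∏ j ∈ Finset.range k, (σ (D - j) * Fintype.card F ^ (2 * (D - j) - 2))) * α (D - k) := by
  classical
  haveI : Finite V := Module.finite_of_finite F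
  intro k
  induction k with
  | zero =>
    intro U D hT hD
    rw [Finset.prod_range_zero, one_mul, card_EF_zero, Nat.sub_zero]
    exact hT4 U D hT (by omega)
  | succ k ih =>
    intro U D hT hD
    let e : {x : (Fin (k + 1) → V × V) × (V × V) // IsEF Q U x} ≃
        Σ p : {p : V × V // pB Q p.1 p.2 = 1 ∧ Q p.1 = 0 ∧ Q p.2 = 0 ∧ p.1 ∈ U ∧ p.2 ∈ U},
          {y : (Fin k → V × V) × (V × V) // IsEF Q (complP Q U p.1.1 p.1.2) y} :=
      { toFun := fun x => ⟨⟨x.1.1 0, ((isEF_cons_iff Q U (Fin.tail x.1.1) (x.1.1 0) x.1.2).mp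
              (by rw [Fin.cons_self_tail]; exact x.2)).1⟩,
          ⟨(Fin.tail x.1.1, x.1.2), ((isEF_cons_iff Q U (Fin.tail x.1.1) (x.1.1 0) x.1.2).mp
              (by rw [Fin.cons_self_tail]; exact x.2)).2⟩⟩
        invFun := fun y => ⟨(Fin.cons y.1.1 y.2.1.1, y.2.1.2),
          (isEF_cons_iff Q U y.2.1.1 y.1.1 y.2.1.2).mpr ⟨y.1.2, y.2.2⟩⟩
        left_inv := fun x => by
          apply Subtype.ext
          apply Prod.ext
          · simp only [Fin.cons_self_tail]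
          · rfl
        right_inv := fun ⟨⟨p, hp⟩, ⟨y, hy⟩⟩ =>
          sigma_subtype_ext
            (P := fun (p : V × V) => pB Q p.1 p.2 = 1 ∧ Q p.1 = 0 ∧ Q p.2 = 0 ∧ p.1 ∈ U ∧ p.2 ∈ U)
            (Q := fun (p : V × V) (y : (Fin k → V × V) × (V × V)) =>
              IsEF Q (complP Q U p.1 p.2) y) _ _ _ _ _ _ _ _
            (show (Fin.cons p y.1 : Fin (k + 1) → V × V) 0 = p from Fin.cons_zero _ _)
            (show (Fin.tail (Fin.cons p y.1 : Fin (k + 1) → V × V), y.2) = y by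
              rw [Fin.tail_cons]) }
    rw [Nat.card_congr e]
    haveI : Fintype {p : V × V // pB Q p.1 p.2 = 1 ∧ Q p.1 = 0 ∧ Q p.2 = 0 ∧ p.1 ∈ U ∧ p.2 ∈ U} :=
      Fintype.ofFinite _
    rw [Nat.card_sigma, Finset.mul_sum]
    have hfib : ∀ p : {p : V × V // pB Q p.1 p.2 = 1 ∧ Q p.1 = 0 ∧ Q p.2 = 0 ∧ p.1 ∈ U ∧ p.2 ∈ U},
        2 * Nat.card {y : (Fin k → V × V) × (V × V) // IsEF Q (complP Q U p.1.1 p.1.2) y} =
          (∏ j ∈ Finset.range k, (σ (D - 1 - j) * Fintype.card F ^ (2 * (D - 1 - j) - 2))) *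
            α (D - 1 - k) := by
      intro p
      have h1 := hT2 U D hT p.1.1 p.1.2 p.2.2.2.2.1 p.2.2.2.2.2 p.2.2.1 p.2.2.2.1 p.2.1
      exact ih _ _ h1 (by omega)
    obtain ⟨hUn, hUd⟩ := hT1 U D hT
    rw [Finset.sum_congr rfl (fun p _ => hfib p), Finset.sum_const, Finset.card_univ,
      ← Nat.card_eq_fintype_card, card_hypPairs_of Q U D (σ D) hUn hUd (by omega) (hT3 U D hT),
      smul_eq_mul, Finset.prod_range_succ']
    have h2 : D - (k + 1) = D - 1 - k := by omega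
    rw [h2, Nat.sub_zero]
    have hprod : ∏ j ∈ Finset.range k, (σ (D - (j + 1)) * Fintype.card F ^ (2 * (D - (j + 1)) - 2)) =
        ∏ j ∈ Finset.range k, (σ (D - 1 - j) * Fintype.card F ^ (2 * (D - 1 - j) - 2)) := by
      apply Finset.prod_congr rfl
      intro j _
      have h3 : D - (j + 1) = D - 1 - j := by omega
      rw [h3]
    rw [hprod]
    ring

end Count

end Cfsg.Agent.Lib.Helper54.OEl
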