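import Mathlib
import Cfsg.Agent.Lib.Helper54.OElK1b

/-!
# K-OEl-K1 (keystone 598813, architect helper49): `r ∣ #elliptic 2e-spaces` gives `r ∣` a factor of the elliptic frame count
-/

set_option autoImplicit false
set_option linter.unusedSimpArgs false
set_option linter.unusedSectionVars false
set_option linter.unusedVariables false

namespace Cfsg.Agent.Lib.Helper54.OEl

open Module Cfsg.Agent.Lib.Helper98.Elus Cfsg.Agent.Lib.Helper98.Sy Cfsg.Agent.Lib.Helper38.OhP
  Cfsg.Agent.Lib.Helper72.Nd Cfsg.Agent.Lib.Helper98.Ti Cfsg.Agent.Lib.Helper16.OhP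
open Cfsg.Agent.Lib.Helper80.Oh (IsSF finrank_spanSF nonDeg_spanSF half_frame)

universe u
variable {F : Type u} [Field F] {V : Type u} [AddCommGroup V] [Module F V]

/-- the span of an elliptic frame -/
noncomputable def spanEF {k : ℕ} (x : (Fin k → V × V) × (V × V)) : Submodule F V :=
  spanHF F x.1 ⊔ Submodule.span F ({x.2.1, x.2.2} : Set V)

theorem spanHF_le_spanEF {k : ℕ} (x : (Fin k → V × V) × (V × V)) : spanHF F x.1 ≤ spanEF (F := F) x :=
  le_sup_left

theorem tail_mem_spanEF {k : ℕ} (x : (Fin k → V × V) × (V × V)) :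
    x.2.1 ∈ spanEF (F := F) x ∧ x.2.2 ∈ spanEF (F := F) x :=
  ⟨Submodule.mem_sup_right (Submodule.subset_span (by simp)),
    Submodule.mem_sup_right (Submodule.subset_span (by simp))⟩

/-- the span of an elliptic frame is an elliptic subspace -/
theorem spanEF_props [Fintype F] [FiniteDimensional F V] (Q : QuadraticForm F V) (U : Submodule F V)
    {k : ℕ} (x : (Fin k → V × V) × (V × V)) (hx : IsEF Q U x) :
    spanEF (F := F) x ≤ U ∧ finrank F (spanEF (F := F) x) = 2 * (k + 1) ∧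
      NonDeg (pB Q) (spanEF (F := F) x) ∧ ¬ PlusQ Q (spanEF (F := F) x) := by
  obtain ⟨⟨hs, hin⟩, hu, hw, hap⟩ := hx
  have hS : ∀ a b, pB Q a b = pB Q b a := pB_symm Q
  have hR := Cfsg.Agent.Lib.Helper98.Os.isRefl_of_symm hS
  have hHn := nonDeg_spanSF hS x.1 hs.isSF
  have hHd := finrank_spanSF hS x.1 hs.isSF
  have hHp := plusQ_spanQF Q x.1 hs
  have hPn := nonDeg_span_ap hap
  have hPd := finrank_span_ap hap
  have hPp := not_plusQ_span_ap hap
  have huo : x.2.1 ∈ LinearMap.BilinForm.orthogonal (pB Q) (spanHF F x.1) := by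
    unfold cmpl at hu; exact (Submodule.mem_inf.mp hu).1
  have hwo : x.2.2 ∈ LinearMap.BilinForm.orthogonal (pB Q) (spanHF F x.1) := by
    unfold cmpl at hw; exact (Submodule.mem_inf.mp hw).1
  have huU : x.2.1 ∈ U := by unfold cmpl at hu; exact (Submodule.mem_inf.mp hu).2
  have hwU : x.2.2 ∈ U := by unfold cmpl at hw; exact (Submodule.mem_inf.mp hw).2
  have hPle : Submodule.span F ({x.2.1, x.2.2} : Set V) ≤
      LinearMap.BilinForm.orthogonal (pB Q) (spanHF F x.1) := by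
    apply Submodule.span_le.mpr
    intro v hv
    rcases hv with rfl | hv
    · exact huo
    · rw [Set.mem_singleton_iff] at hv
      rw [hv]; exact hwo
  have hort : Ort (pB Q) (spanHF F x.1) (Submodule.span F ({x.2.1, x.2.2} : Set V)) := by
    intro a ha b hb
    exact LinearMap.BilinForm.mem_orthogonal_iff.mp (hPle hb) a ha
  obtain ⟨hnd, hdisj⟩ := Cfsg.Agent.Lib.Helper98.Os.nonDeg_sup hR _ _ hHn hPn hort
  refine ⟨?_, ?_, hnd, ?_⟩
  · apply sup_le (spanHF_le x.1 U hin)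
    apply Submodule.span_le.mpr
    intro v hv
    rcases hv with rfl | hv
    · exact huU
    · rw [Set.mem_singleton_iff] at hv
      rw [hv]; exact hwU
  · have h1 := Submodule.finrank_sup_add_finrank_inf_eq (spanHF F x.1)
      (Submodule.span F ({x.2.1, x.2.2} : Set V))
    rw [hdisj, finrank_bot, hHd, hPd] at h1
    unfold spanEF
    omega
  · have hkey := Cfsg.Agent.Lib.Helper28.OhP.plusQ_sup_iff Q (spanHF F x.1)
      (Submodule.span F ({x.2.1, x.2.2} : Set V)) hHn hPn hort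
      (by rw [hHd]; exact ⟨k, by ring⟩) (by rw [hPd]; exact ⟨1, by ring⟩)
    intro hc
    exact hPp ((hkey.mp hc).mp hHp)

section Count

variable [Fintype F] [FiniteDimensional F V]

/-- frames versus elliptic subspaces: the fibres of `spanEF` -/
theorem card_EF_top_eq_mul (Q : QuadraticForm F V) (k : ℕ) (c : ℕ)
    (hc : ∀ W : Submodule F V, finrank F W = 2 * (k + 1) → NonDeg (pB Q) W → ¬ PlusQ Q W →
      2 * Nat.card {y : (Fin k → V × V) × (V × V) // IsEF Q W y} = c) :
    2 * Nat.card {x : (Fin k → V × V) × (V × V) // IsEF Q (⊤ : Submodule F V) x} =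
      Nat.card {W : Submodule F V // finrank F W = 2 * (k + 1) ∧ NonDeg (pB Q) W ∧ ¬ PlusQ Q W} * c := by
  classical
  haveI : Finite V := Module.finite_of_finite F
  let fmap : {x : (Fin k → V × V) × (V × V) // IsEF Q (⊤ : Submodule F V) x} →
      {W : Submodule F V // finrank F W = 2 * (k + 1) ∧ NonDeg (pB Q) W ∧ ¬ PlusQ Q W} :=
    fun x => ⟨spanEF (F := F) x.1, (spanEF_props Q ⊤ x.1 x.2).2.1, (spanEF_props Q ⊤ x.1 x.2).2.2.1,
      (spanEF_props Q ⊤ x.1 x.2).2.2.2⟩
  rw [← Nat.card_congr (Equiv.sigmaFiberEquiv fmap)]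
  haveI : Fintype {W : Submodule F V // finrank F W = 2 * (k + 1) ∧ NonDeg (pB Q) W ∧ ¬ PlusQ Q W} :=
    Fintype.ofFinite _
  rw [Nat.card_sigma, Finset.mul_sum]
  have hfib : ∀ W : {W : Submodule F V // finrank F W = 2 * (k + 1) ∧ NonDeg (pB Q) W ∧ ¬ PlusQ Q W},
      2 * Nat.card {x : {x : (Fin k → V × V) × (V × V) // IsEF Q (⊤ : Submodule F V) x} //
        fmap x = W} = c := by
    intro W
    let eq : {x : {x : (Fin k → V × V) × (V × V) // IsEF Q (⊤ : Submodule F V) x} // fmap x = W} ≃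
        {y : (Fin k → V × V) × (V × V) // IsEF Q W.1 y} :=
      { toFun := fun x => ⟨x.1.1, by
            have h1 : spanEF (F := F) x.1.1 = W.1 := congrArg Subtype.val x.2
            obtain ⟨⟨hs, hin⟩, hu, hw, hap⟩ := x.1.2
            refine ⟨⟨hs, fun a => ?_⟩, ?_, ?_, hap⟩
            · rw [← h1]
              exact ⟨spanHF_le_spanEF x.1.1 (mem_spanHF x.1.1.1 a).1,
                spanHF_le_spanEF x.1.1 (mem_spanHF x.1.1.1 a).2⟩
            · rw [mem_cmpl] at hu ⊢
              refine ⟨hu.1, ?_⟩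
              rw [← h1]; exact (tail_mem_spanEF x.1.1).1
            · rw [mem_cmpl] at hw ⊢
              refine ⟨hw.1, ?_⟩
              rw [← h1]; exact (tail_mem_spanEF x.1.1).2⟩
        invFun := fun y => ⟨⟨y.1, by
            obtain ⟨⟨hs, hin⟩, hu, hw, hap⟩ := y.2
            refine ⟨⟨hs, fun a => ⟨Submodule.mem_top, Submodule.mem_top⟩⟩, ?_, ?_, hap⟩
            · rw [mem_cmpl] at hu ⊢
              exact ⟨hu.1, Submodule.mem_top⟩
            · rw [mem_cmpl] at hw ⊢
              exact ⟨hw.1, Submodule.mem_top⟩⟩, by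
            apply Subtype.ext
            show spanEF (F := F) y.1 = W.1
            have hp := spanEF_props Q W.1 y.1 y.2
            exact Submodule.eq_of_le_of_finrank_eq hp.1 (by rw [hp.2.1, W.2.1])⟩
        left_inv := fun x => by
          apply Subtype.ext
          apply Subtype.ext
          rfl
        right_inv := fun y => by
          apply Subtype.ext
          rfl }
    rw [Nat.card_congr eq]
    exact hc W.1 W.2.1 W.2.2.1 W.2.2.2
  rw [Finset.sum_congr rfl (fun W _ => hfib W), Finset.sum_const, Finset.card_univ,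
    ← Nat.card_eq_fintype_card, smul_eq_mul]

/-- the four hypotheses of `card_EF_of` for the typed subspaces `NT Q ε` -/
theorem card_EF_NT (Q : QuadraticForm F V) (ε : Prop) (σ α : ℕ → ℕ)
    (hσ : ∀ U D, NT Q ε U D → Nat.card {x : V // x ∈ U ∧ x ≠ 0 ∧ Q x = 0} = σ D)
    (hα : ∀ U D, NT Q ε U D → 1 ≤ D →
      2 * Nat.card {p : V × V // p.1 ∈ U ∧ p.2 ∈ U ∧ AP Q p.1 p.2} = α D)
    (k : ℕ) (U : Submodule F V) (D : ℕ) (hU : NT Q ε U D) (hk : k + 1 ≤ D) :
    2 * Nat.card {x : (Fin k → V × V) × (V × V) // IsEF Q U x} =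
      (∏ j ∈ Finset.range k, (σ (D - j) * Fintype.card F ^ (2 * (D - j) - 2))) * α (D - k) :=
  card_EF_of Q (NT Q ε) σ α (fun U D h => ⟨h.1, h.2.1⟩)
    (fun U D h x y hx hy hqx hqy hxy => (NT_complP Q ε U D h hx hy hqx hqy hxy).2) hσ hα k U D hU hk

/-- a prime dividing a product of the shape of the frame count divides a factor -/
theorem prime_dvd_frame_count (r : ℕ) (hr : r.Prime) (q : ℕ) (hrq : ¬ r ∣ q) (k : ℕ) (f : ℕ → ℕ)
    (g : ℕ → ℕ) (A B n : ℕ) (c : ℕ)
    (h : r ∣ c * ((∏ j ∈ Finset.range k, (f j * q ^ g j)) * (q ^ n * A * ((q - 1) * (q - 1))))) :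
    r ∣ c ∨ (∃ j, j < k ∧ r ∣ f j) ∨ r ∣ A ∨ r ∣ q - 1 := by
  rcases (Nat.Prime.dvd_mul hr).1 h with h | h
  · exact Or.inl h
  rcases (Nat.Prime.dvd_mul hr).1 h with h | h
  · obtain ⟨j, hj, hjr⟩ := (Prime.dvd_finsetProd_iff (Nat.Prime.prime hr) _).1 h
    rw [Finset.mem_range] at hj
    rcases (Nat.Prime.dvd_mul hr).1 hjr with h' | h'
    · exact Or.inr (Or.inl ⟨j, hj, h'⟩)
    · exact absurd (hr.dvd_of_dvd_pow h') hrq
  · rcases (Nat.Prime.dvd_mul hr).1 h with h | h
    · rcases (Nat.Prime.dvd_mul hr).1 h with h | h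
      · exact absurd (hr.dvd_of_dvd_pow h) hrq
      · exact Or.inr (Or.inr (Or.inl h))
    · rcases (Nat.Prime.dvd_mul hr).1 h with h | h
      · exact Or.inr (Or.inr (Or.inr h))
      · exact Or.inr (Or.inr (Or.inr h))

end Count

/-- **K-OEl-K1** (598813). -/
theorem exists_of_dvd_card_ell_q [Fintype F] [FiniteDimensional F V] (Q : QuadraticForm F V)
    (hV : NonDeg (pB Q) ⊤) (d e : ℕ) (hdim : finrank F V = 2 * d) (he : 1 ≤ e) (hed : e < d)
    (r : ℕ) [Fact r.Prime] (hr2 : r ≠ 2) (hrF : (r : F) ≠ 0)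
    (hr : r ∣ Nat.card {W : Submodule F V // finrank F W = 2 * e ∧ NonDeg (pB Q) W ∧ ¬ PlusQ Q W}) :
    (PlusQ Q ⊤ →
      (∃ j : ℕ, j + 1 < e ∧ r ∣ (Fintype.card F ^ (d - j) - 1) * (Fintype.card F ^ (d - j - 1) + 1)) ∨
        r ∣ (Fintype.card F ^ (d - e + 1) - 1) * (Fintype.card F ^ (d - e) - 1) ∨ r ∣ Fintype.card F - 1) ∧
    (¬ PlusQ Q ⊤ →
      (∃ j : ℕ, j + 1 < e ∧ r ∣ (Fintype.card F ^ (d - j) + 1) * (Fintype.card F ^ (d - j - 1) - 1)) ∨
        r ∣ (Fintype.card F ^ (d - e + 1) + 1) * (Fintype.card F ^ (d - e) + 1) ∨ r ∣ Fintype.card F - 1) := by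
  classical
  have hrp : r.Prime := Fact.out
  have hrq : ¬ r ∣ Fintype.card F := not_dvd_card_of_ne_zero r hrF
  obtain ⟨k, rfl⟩ : ∃ k, e = k + 1 := ⟨e - 1, by omega⟩
  have e1 : d - (k + 1) + 1 = d - k := by omega
  have e2 : d - (k + 1) = d - k - 1 := by omega
  rw [e1, e2]
  -- the counts for the two types
  have hσP : ∀ (U : Submodule F V) (D : ℕ), NT Q True U D →
      Nat.card {x : V // x ∈ U ∧ x ≠ 0 ∧ Q x = 0} =
        (fun D => (Fintype.card F ^ D - 1) * (Fintype.card F ^ (D - 1) + 1)) D :=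
    fun U D h => (Cfsg.Agent.Lib.Helper79.OTs.card_singular Q U h.1 D h.2.1).1 (h.2.2.mpr trivial)
  have hσM : ∀ (U : Submodule F V) (D : ℕ), NT Q False U D →
      Nat.card {x : V // x ∈ U ∧ x ≠ 0 ∧ Q x = 0} =
        (fun D => (Fintype.card F ^ D + 1) * (Fintype.card F ^ (D - 1) - 1)) D :=
    fun U D h => (Cfsg.Agent.Lib.Helper79.OTs.card_singular Q U h.1 D h.2.1).2 (fun hp => h.2.2.mp hp)
  have hαP : ∀ (U : Submodule F V) (D : ℕ), NT Q True U D → 1 ≤ D →
      2 * Nat.card {p : V × V // p.1 ∈ U ∧ p.2 ∈ U ∧ AP Q p.1 p.2} =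
        (fun D => Fintype.card F ^ (2 * D - 1) *
          ((Fintype.card F ^ D - 1) * (Fintype.card F ^ (D - 1) - 1)) *
          ((Fintype.card F - 1) * (Fintype.card F - 1))) D :=
    fun U D h hD1 => (card_aniso_pairs Q U h.1 D hD1 h.2.1).1 (h.2.2.mpr trivial)
  have hαM : ∀ (U : Submodule F V) (D : ℕ), NT Q False U D → 1 ≤ D →
      2 * Nat.card {p : V × V // p.1 ∈ U ∧ p.2 ∈ U ∧ AP Q p.1 p.2} =
        (fun D => Fintype.card F ^ (2 * D - 1) *
          ((Fintype.card F ^ D + 1) * (Fintype.card F ^ (D - 1) + 1)) *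
          ((Fintype.card F - 1) * (Fintype.card F - 1))) D :=
    fun U D h hD1 => (card_aniso_pairs Q U h.1 D hD1 h.2.1).2 (fun hp => h.2.2.mp hp)
  -- the constant fibre
  have hfib := card_EF_top_eq_mul Q k _
    (fun W hWd hWn hWp => card_EF_NT Q False _ _ hσM hαM k W (k + 1)
      ⟨hWn, hWd, ⟨fun hp => hWp hp, False.elim⟩⟩ le_rfl)
  have htop : finrank F (⊤ : Submodule F V) = 2 * d := by rw [finrank_top]; exact hdim
  constructor
  · intro hplus
    have hcount := card_EF_NT Q True _ _ hσP hαP k ⊤ d ⟨hV, htop, iff_true_intro hplus⟩ (by omega)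
    rw [hfib] at hcount
    have hdvd : r ∣ 1 * ((∏ j ∈ Finset.range k, ((Fintype.card F ^ (d - j) - 1) *
        (Fintype.card F ^ (d - j - 1) + 1) * Fintype.card F ^ (2 * (d - j) - 2))) *
        (Fintype.card F ^ (2 * (d - k) - 1) *
          ((Fintype.card F ^ (d - k) - 1) * (Fintype.card F ^ (d - k - 1) - 1)) *
          ((Fintype.card F - 1) * (Fintype.card F - 1)))) := by
      rw [one_mul]
      have := Dvd.dvd.mul_right hr ((∏ j ∈ Finset.range k,
        ((fun D => (Fintype.card F ^ D + 1) * (Fintype.card F ^ (D - 1) - 1)) (k + 1 - j) *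
          Fintype.card F ^ (2 * (k + 1 - j) - 2))) *
        (fun D => Fintype.card F ^ (2 * D - 1) *
          ((Fintype.card F ^ D + 1) * (Fintype.card F ^ (D - 1) + 1)) *
          ((Fintype.card F - 1) * (Fintype.card F - 1))) (k + 1 - k))
      rw [hcount] at this
      exact this
    rcases prime_dvd_frame_count r hrp (Fintype.card F) hrq k
      (fun j => (Fintype.card F ^ (d - j) - 1) * (Fintype.card F ^ (d - j - 1) + 1))
      (fun j => 2 * (d - j) - 2)
      ((Fintype.card F ^ (d - k) - 1) * (Fintype.card F ^ (d - k - 1) - 1)) 0 (2 * (d - k) - 1) 1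
      hdvd with h | ⟨j, hj, h⟩ | h | h
    · exact absurd (Nat.dvd_one.mp h) hrp.one_lt.ne'
    · exact Or.inl ⟨j, by omega, h⟩
    · exact Or.inr (Or.inl h)
    · exact Or.inr (Or.inr h)
  · intro hminus
    have hcount := card_EF_NT Q False _ _ hσM hαM k ⊤ d
      ⟨hV, htop, ⟨fun hp => hminus hp, False.elim⟩⟩ (by omega)
    rw [hfib] at hcount
    have hdvd : r ∣ 1 * ((∏ j ∈ Finset.range k, ((Fintype.card F ^ (d - j) + 1) *
        (Fintype.card F ^ (d - j - 1) - 1) * Fintype.card F ^ (2 * (d - j) - 2))) *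
        (Fintype.card F ^ (2 * (d - k) - 1) *
          ((Fintype.card F ^ (d - k) + 1) * (Fintype.card F ^ (d - k - 1) + 1)) *
          ((Fintype.card F - 1) * (Fintype.card F - 1)))) := by
      rw [one_mul]
      have := Dvd.dvd.mul_right hr ((∏ j ∈ Finset.range k,
        ((fun D => (Fintype.card F ^ D + 1) * (Fintype.card F ^ (D - 1) - 1)) (k + 1 - j) *
          Fintype.card F ^ (2 * (k + 1 - j) - 2))) *
        (fun D => Fintype.card F ^ (2 * D - 1) *
          ((Fintype.card F ^ D + 1) * (Fintype.card F ^ (D - 1) + 1)) *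
          ((Fintype.card F - 1) * (Fintype.card F - 1))) (k + 1 - k))
      rw [hcount] at this
      exact this
    rcases prime_dvd_frame_count r hrp (Fintype.card F) hrq k
      (fun j => (Fintype.card F ^ (d - j) + 1) * (Fintype.card F ^ (d - j - 1) - 1))
      (fun j => 2 * (d - j) - 2)
      ((Fintype.card F ^ (d - k) + 1) * (Fintype.card F ^ (d - k - 1) + 1)) 0 (2 * (d - k) - 1) 1
      hdvd with h | ⟨j, hj, h⟩ | h | h
    · exact absurd (Nat.dvd_one.mp h) hrp.one_lt.ne'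
    · exact Or.inl ⟨j, by omega, h⟩
    · exact Or.inr (Or.inl h)
    · exact Or.inr (Or.inr h)


end Cfsg.Agent.Lib.Helper54.OEl
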