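import Mathlib
import Cfsg.Prelude.Def_GeometricClasses
import Cfsg.Prelude.Def_ClassicalGeometry
import Cfsg.Agent.Lib.Helper72.OQFDefs
import Cfsg.Agent.Lib.Helper13.SpUE
import Cfsg.Agent.Lib.Helper43.WittQuad
import Cfsg.Agent.Lib.Helper50.SpinorIndex
import Cfsg.Agent.Lib.Helper50.GeoBridge
import Cfsg.Agent.Lib.Helper19.QuadMat

/-!
# K-OQF-E (keystone 597713, S5977 pack, architect helper72)

`derange_unip`: a Siegel element of order `p` of `Ω(Q)`, `q` odd, has no conjugate in the normaliser of a quadratic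
field subalgebra.  Also `mem_Omega_of_pow_eq_one` (odd-order isometries lie in `Ω`).
-/

set_option autoImplicit false

namespace Cfsg.Agent.Lib.Helper54.OQF

open Cfsg Cfsg.Geo Cfsg.Agent.Lib.Helper72.OQF
open scoped Matrix MatrixGroups

variable {F : Type*} [Field F] {ι : Type} [Fintype ι] [DecidableEq ι]

/-- odd-order isometries lie in `Ω` (`|GO : Ω| = 4`) -/
theorem mem_Omega_of_pow_eq_one [Fintype F] (h2 : (2 : F) ≠ 0) (Q : QuadraticForm F (ι → F))
    (hQ : (QuadraticMap.polarBilin Q).Nondegenerate) (hdim : 2 ≤ Fintype.card ι)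
    (s : ↥(Cfsg.isometryGroup F (⇑Q))) (k : ℕ) (hk : Odd k) (hsk : s ^ k = 1) :
    s ∈ Cfsg.Omega F (⇑Q) := by
  have hidx := Cfsg.Agent.Lib.Helper50.index_commutator h2 Q hQ hdim
  show s ∈ commutator ↥(Cfsg.isometryGroup F (⇑Q))
  rw [← QuotientGroup.eq_one_iff]
  have h1 : ((s : ↥(Cfsg.isometryGroup F (⇑Q)) ⧸ commutator ↥(Cfsg.isometryGroup F (⇑Q)))) ^ k = 1 := by
    rw [← QuotientGroup.mk_pow, hsk]
    rfl
  have h4 : ((s : ↥(Cfsg.isometryGroup F (⇑Q)) ⧸ commutator ↥(Cfsg.isometryGroup F (⇑Q)))) ^ 4 = 1 := by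
    rw [← hidx, Subgroup.index_eq_card]
    exact pow_card_eq_one'
  have hd1 := orderOf_dvd_of_pow_eq_one h1
  have hd4 := orderOf_dvd_of_pow_eq_one h4
  have hcop : Nat.Coprime (2 ^ 2) k := (Nat.coprime_two_left.mpr hk).pow_left 2
  have h5 : orderOf ((s : ↥(Cfsg.isometryGroup F (⇑Q)) ⧸ commutator ↥(Cfsg.isometryGroup F (⇑Q)))) ∣ 1 := by
    have := Nat.dvd_gcd hd4 hd1
    rwa [show Nat.gcd 4 k = 1 from hcop] at this
  exact orderOf_eq_one_iff.mp (Nat.dvd_one.mp h5)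

/-- **K-OQF-O1** (597703; spec signature): odd-order isometries lie in `Ω` -/
theorem mem_omegaGL_of_pow_eq_one [Fintype F] (h2 : (2 : F) ≠ 0) (Q : QuadraticForm F (ι → F))
    (hQ : (QuadraticMap.polarBilin Q).Nondegenerate) (hdim : 2 ≤ Fintype.card ι)
    (g : GL ι F) (hg : g ∈ Cfsg.isometryGroup F (⇑Q)) (k : ℕ) (hk : Odd k) (hgk : g ^ k = 1) :
    g ∈ omegaGL (⇑Q) :=
  Cfsg.Agent.Lib.Helper50.coe_mem_omegaGL (⇑Q) ⟨g, hg⟩
    (mem_Omega_of_pow_eq_one h2 Q hQ hdim ⟨g, hg⟩ k hk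
      (Subtype.ext (by rw [Subgroup.coe_pow, Subgroup.coe_one]; exact hgk)))

/-- **K-OQF-E** (597713) -/
theorem derange_unip [Fintype F] {p : ℕ} [Fact p.Prime] [CharP F p] (hodd : Odd (Fintype.card F))
    (Q : QuadraticForm F (ι → F)) (hQ : (QuadraticMap.polarBilin Q).Nondegenerate) (hdim : 2 ≤ Fintype.card ι)
    (e z : ι → F) (he0 : e ≠ 0) (he : Q e = 0) (hez : QuadraticMap.polar (⇑Q) e z = 0) (hz : Q z ≠ 0)
    (K : Subalgebra F (Matrix ι ι F)) (hK : IsFieldSubalgebra 2 K) :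
    ∃ x ∈ omegaGL (⇑Q), ((x ^ p : GL ι F) : Matrix ι ι F) = 1 ∧
      (∀ c : F, (x : Matrix ι ι F) ≠ c • (1 : Matrix ι ι F)) ∧
      ∀ g : GL ι F, g⁻¹ * x * g ∉ subalgebraNormalizer K := by
  classical
  have hpp : p.Prime := Fact.out
  have hp2 : p ≠ 2 := by
    rintro rfl
    have h2 : (2 : ℕ) ∣ Fintype.card F := by
      obtain ⟨n, hn⟩ := FiniteField.card F 2
      rw [hn.2]
      exact dvd_pow_self 2 n.ne_zero
    exact (Nat.not_even_iff_odd.mpr hodd) (even_iff_two_dvd.mpr h2)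
  have hpodd : Odd p := hpp.odd_of_ne_two hp2
  have hp3 : 3 ≤ p := by
    have := hpp.two_le
    omega
  have h2 : (2 : F) ≠ 0 := by
    intro h
    have h' : ((2 : ℕ) : F) = 0 := by exact_mod_cast h
    rw [CharP.cast_eq_zero_iff F p] at h'
    exact hp2 ((Nat.prime_dvd_prime_iff_eq hpp Nat.prime_two).mp h')
  have hne : Nonempty ι := Fintype.card_pos_iff.mp (by omega)
  -- the Siegel transformation
  have hez' : QuadraticMap.polarBilin Q e z = 0 := by
    rw [QuadraticMap.polarBilin_apply_apply]; exact hez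
  obtain ⟨g, hgQ, hg⟩ := Cfsg.Agent.Lib.Helper43.exists_siegel Q e z he hez'
  obtain ⟨M, hM⟩ : ∃ M : Matrix ι ι F, M = LinearMap.toMatrix' g := ⟨_, rfl⟩
  have hMv : ∀ v, M *ᵥ v = g v := by
    intro v
    rw [hM, LinearMap.toMatrix'_mulVec]
  obtain ⟨N, hN⟩ : ∃ N : Matrix ι ι F, N = M - 1 := ⟨_, rfl⟩
  have hBee : QuadraticMap.polarBilin Q e e = 0 := by
    rw [Cfsg.Agent.Lib.Helper43.polar_self', he, mul_zero]
  have hBze : QuadraticMap.polarBilin Q z e = 0 := by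
    rw [Cfsg.Agent.Lib.Helper43.polar_symm]; exact hez'
  have hBzz : QuadraticMap.polarBilin Q z z = 2 * Q z := Cfsg.Agent.Lib.Helper43.polar_self' Q z
  have hNv : ∀ v, N *ᵥ v = (QuadraticMap.polarBilin Q v z - Q z * QuadraticMap.polarBilin Q v e) • e +
      (-QuadraticMap.polarBilin Q v e) • z := by
    intro v
    rw [hN, Matrix.sub_mulVec, Matrix.one_mulVec, hMv, hg]
    abel
  have hNe : N *ᵥ e = 0 := by
    rw [hNv, hez', hBee]
    simp
  have hNz : N *ᵥ z = (2 * Q z) • e := by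
    rw [hNv, hBzz, hBze]
    simp
  have hN2 : ∀ v, (N * N) *ᵥ v = (-(2 * Q z * QuadraticMap.polarBilin Q v e)) • e := by
    intro v
    rw [← Matrix.mulVec_mulVec, hNv v, Matrix.mulVec_add, Matrix.mulVec_smul, Matrix.mulVec_smul, hNe,
      hNz, smul_zero, zero_add, smul_smul]
    congr 1
    ring
  have hN3 : N * N * N = 0 := by
    rw [Matrix.ext_iff_mulVec]
    intro v
    rw [mul_assoc, ← Matrix.mulVec_mulVec, hN2, Matrix.mulVec_smul, hNe, smul_zero, Matrix.zero_mulVec]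
  have hMN : M = 1 + N := by rw [hN]; abel
  have hNp : N ^ p = 0 := by
    have h1 : N ^ p = N ^ 3 * N ^ (p - 3) := by
      rw [← pow_add]
      congr 1
      omega
    rw [h1, pow_three', hN3, zero_mul]
  have hMp : M ^ p = 1 := by
    rw [hMN, add_pow_char_of_commute p (Commute.one_left N), one_pow, hNp, add_zero]
  have hMp1 : M * M ^ (p - 1) = 1 := by
    rw [← pow_succ', show p - 1 + 1 = p by omega, hMp]
  have hMp2 : M ^ (p - 1) * M = 1 := by
    rw [← pow_succ, show p - 1 + 1 = p by omega, hMp]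
  obtain ⟨x, hx⟩ : ∃ x : GL ι F, (x : Matrix ι ι F) = M := ⟨⟨M, M ^ (p - 1), hMp1, hMp2⟩, rfl⟩
  have hxiso : x ∈ Cfsg.isometryGroup F (⇑Q) := by
    rw [Cfsg.Agent.Lib.Helper19.mem_isometryGroup_iff]
    intro u
    rw [hx, hMv, hgQ]
  have hxp : x ^ p = 1 := by
    apply Units.ext
    rw [Units.val_pow_eq_pow_val, hx, hMp, Units.val_one]
  have hxΩ : x ∈ omegaGL (⇑Q) := by
    have hs : (⟨x, hxiso⟩ : ↥(Cfsg.isometryGroup F (⇑Q))) ^ p = 1 := by
      apply Subtype.ext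
      rw [Subgroup.coe_pow, Subgroup.coe_one]
      exact hxp
    exact Cfsg.Agent.Lib.Helper50.coe_mem_omegaGL (⇑Q) ⟨x, hxiso⟩
      (mem_Omega_of_pow_eq_one h2 Q hQ hdim ⟨x, hxiso⟩ p hpodd hs)
  -- a vector not orthogonal to `e`
  obtain ⟨v₀, hv₀⟩ : ∃ v₀ : ι → F, QuadraticMap.polarBilin Q v₀ e ≠ 0 := by
    by_contra hcon
    push Not at hcon
    apply he0
    apply hQ.2 e   -- right-nondegenerate
    intro v
    exact hcon v
  have hcoef : 2 * Q z * QuadraticMap.polarBilin Q v₀ e ≠ 0 :=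
    mul_ne_zero (mul_ne_zero h2 hz) hv₀
  refine ⟨x, hxΩ, by rw [hxp, Units.val_one], ?_, ?_⟩
  · intro c hc
    rw [hx] at hc
    -- `N = (c - 1) • 1`, so `N * N` is scalar; apply to `v₀` and to `e`
    have hNc : N = (c - 1) • (1 : Matrix ι ι F) := by
      rw [hN, hc, sub_smul, one_smul]
    have h3 : (c - 1) * (c - 1) * (c - 1) = 0 := by
      have h4 := hN3
      rw [hNc] at h4
      simp only [Matrix.smul_mul, Matrix.mul_smul, Matrix.one_mul, smul_smul] at h4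
      have h5 := congrFun (congrFun h4 (Classical.arbitrary ι)) (Classical.arbitrary ι)
      simp only [Matrix.smul_apply, Matrix.one_apply_eq, smul_eq_mul, mul_one, Matrix.zero_apply] at h5
      linear_combination h5
    have hc1 : c - 1 = 0 := by
      rcases mul_eq_zero.mp h3 with h | h
      · rcases mul_eq_zero.mp h with h | h <;> exact h
      · exact h
    have hN0 : N = 0 := by rw [hNc, hc1, zero_smul]
    have h6 := hN2 v₀
    rw [hN0, Matrix.zero_mul, Matrix.zero_mulVec] at h6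
    rcases smul_eq_zero.mp h6.symm with h | h
    · exact hcoef (neg_eq_zero.mp h)
    · exact he0 h
  · intro γ hmem
    set y : GL ι F := γ⁻¹ * x * γ with hy
    have hyp : y ^ p = 1 := by
      have h1 : y = γ⁻¹ * x * (γ⁻¹)⁻¹ := by rw [hy, inv_inv]
      rw [h1, conj_pow, hxp, mul_one, mul_inv_cancel]
    have hcomm := Cfsg.Agent.Lib.Helper13.SpU.commute_of_mem_normalizer_of_odd' h2 K hK y hmem p hpodd hyp
    -- the common eigenvector `w = γ⁻¹ e`
    set G' : Matrix ι ι F := ((γ⁻¹ : GL ι F) : Matrix ι ι F) with hG'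
    set G0 : Matrix ι ι F := (γ : Matrix ι ι F) with hG0
    have hGG' : G0 * G' = 1 := by rw [hG0, hG', ← Units.val_mul, mul_inv_cancel, Units.val_one]
    have hG'G : G' * G0 = 1 := by rw [hG0, hG', ← Units.val_mul, inv_mul_cancel, Units.val_one]
    have hyval : (y : Matrix ι ι F) = G' * M * G0 := by
      rw [hy, Units.val_mul, Units.val_mul, hx]
    -- `(y - 1)^2 = G' (N N) G0`
    have hy1 : (y : Matrix ι ι F) - 1 = G' * N * G0 := by
      rw [hyval, hN, Matrix.mul_sub, Matrix.sub_mul, Matrix.mul_one, hG'G]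
    have hy2 : ((y : Matrix ι ι F) - 1) * ((y : Matrix ι ι F) - 1) = G' * (N * N) * G0 := by
      rw [hy1]
      calc G' * N * G0 * (G' * N * G0) = G' * N * (G0 * G') * N * G0 := by simp only [mul_assoc]
        _ = G' * (N * N) * G0 := by rw [hGG', mul_one]; simp only [mul_assoc]
    have hw0 : G' *ᵥ e ≠ 0 := by
      intro h0
      apply he0
      calc e = (G0 * G') *ᵥ e := by rw [hGG', Matrix.one_mulVec]
        _ = G0 *ᵥ (G' *ᵥ e) := by rw [Matrix.mulVec_mulVec]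
        _ = 0 := by rw [h0, Matrix.mulVec_zero]
    apply Cfsg.Agent.Lib.Helper13.SpU.no_common_eigenvector K hK (G' *ᵥ e) hw0
    intro a ha
    have hca : (y : Matrix ι ι F) * a = a * (y : Matrix ι ι F) := hcomm a ha
    have hca1 : ((y : Matrix ι ι F) - 1) * a = a * ((y : Matrix ι ι F) - 1) := by
      rw [Matrix.sub_mul, Matrix.mul_sub, hca, Matrix.one_mul, Matrix.mul_one]
    have hca2 : (((y : Matrix ι ι F) - 1) * ((y : Matrix ι ι F) - 1)) * a =
        a * (((y : Matrix ι ι F) - 1) * ((y : Matrix ι ι F) - 1)) := by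
      rw [mul_assoc, hca1, ← mul_assoc, hca1, mul_assoc]
    -- evaluate at `G' v₀`
    have hval : ∀ u : ι → F, (G' * (N * N) * G0) *ᵥ u =
        (-(2 * Q z * QuadraticMap.polarBilin Q (G0 *ᵥ u) e)) • (G' *ᵥ e) := by
      intro u
      rw [← Matrix.mulVec_mulVec, ← Matrix.mulVec_mulVec, hN2, Matrix.mulVec_smul]
    have hL : ((((y : Matrix ι ι F) - 1) * ((y : Matrix ι ι F) - 1)) * a) *ᵥ (G' *ᵥ v₀) =
        (-(2 * Q z * QuadraticMap.polarBilin Q (G0 *ᵥ (a *ᵥ (G' *ᵥ v₀))) e)) • (G' *ᵥ e) := by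
      rw [← Matrix.mulVec_mulVec, hy2, hval]
    have hR : (a * (((y : Matrix ι ι F) - 1) * ((y : Matrix ι ι F) - 1))) *ᵥ (G' *ᵥ v₀) =
        (-(2 * Q z * QuadraticMap.polarBilin Q v₀ e)) • (a *ᵥ (G' *ᵥ e)) := by
      have hv : G0 *ᵥ (G' *ᵥ v₀) = v₀ := by rw [Matrix.mulVec_mulVec, hGG', Matrix.one_mulVec]
      rw [← Matrix.mulVec_mulVec, hy2, hval, Matrix.mulVec_smul, hv]
    have h7 : (-(2 * Q z * QuadraticMap.polarBilin Q (G0 *ᵥ (a *ᵥ (G' *ᵥ v₀))) e)) • (G' *ᵥ e) =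
        (-(2 * Q z * QuadraticMap.polarBilin Q v₀ e)) • (a *ᵥ (G' *ᵥ e)) := by
      rw [← hL, ← hR, hca2]
    -- `h7 : -(2 Qz B(G0 (a (G' v₀)), e)) • w = -(2 Qz B(v₀,e)) • a w`
    refine ⟨(-(2 * Q z * QuadraticMap.polarBilin Q v₀ e))⁻¹ *
      (-(2 * Q z * QuadraticMap.polarBilin Q (G0 *ᵥ (a *ᵥ (G' *ᵥ v₀))) e)), ?_⟩
    have hcoef' : -(2 * Q z * QuadraticMap.polarBilin Q v₀ e) ≠ 0 := neg_ne_zero.mpr hcoef
    calc a *ᵥ (G' *ᵥ e) = (-(2 * Q z * QuadraticMap.polarBilin Q v₀ e))⁻¹ •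
          ((-(2 * Q z * QuadraticMap.polarBilin Q v₀ e)) • (a *ᵥ (G' *ᵥ e))) := by
          rw [smul_smul, inv_mul_cancel₀ hcoef', one_smul]
      _ = _ := by rw [← h7, smul_smul]

end Cfsg.Agent.Lib.Helper54.OQF
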