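import Mathlib

set_option autoImplicit false

/-!
# K-OTF leaf CNT5 (S3999): if `5` divides `|D|` exactly once, the elements of order `5` are `4` per Sylow `5`-subgroup
-/

namespace Cfsg.Agent.Lib.Helper54.OTF

theorem card_order_five_eq_four_mul {D : Type*} [Group D] [Finite D]
    (h5 : (Nat.card D).factorization 5 = 1) :
    Nat.card {x : D // orderOf x = 5} = 4 * Nat.card (Sylow 5 D) := by
  classical
  have : Fact (Nat.Prime 5) := ⟨by norm_num⟩
  letI : Fintype (Sylow 5 D) := Fintype.ofFinite _
  have hP : ∀ P : Sylow 5 D, Nat.card (P : Subgroup D) = 5 := by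
    intro P
    rw [Sylow.card_eq_multiplicity, h5, pow_one]
  have hfib : ∀ P : Sylow 5 D, Nat.card {x : D // x ∈ (P : Subgroup D) ∧ x ≠ 1} = 4 := by
    intro P
    have h1 : {x : D | x ∈ (P : Subgroup D) ∧ x ≠ 1} = ((P : Subgroup D) : Set D) \ {1} := by
      ext x
      simp only [Set.mem_ofPred_eq, Set.mem_sdiff, SetLike.mem_coe, Set.mem_singleton_iff]
    have h2 : Nat.card {x : D // x ∈ (P : Subgroup D) ∧ x ≠ 1} =
        Set.ncard {x : D | x ∈ (P : Subgroup D) ∧ x ≠ 1} := by
      rw [← Nat.card_coe_set_eq]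
      rfl
    have h3 : Set.ncard ((P : Subgroup D) : Set D) = 5 := by
      rw [← Nat.card_coe_set_eq]
      exact hP P
    rw [h2, h1, Set.ncard_sdiff_singleton_of_mem (P : Subgroup D).one_mem, h3]
  have hcardz : ∀ x : D, orderOf x = 5 →
      Nat.card (Subgroup.zpowers x) = 5 ^ (Nat.card D).factorization 5 := by
    intro x hx
    rw [Nat.card_zpowers, hx, h5, pow_one]
  have hord : ∀ (P : Sylow 5 D) (x : D), x ∈ (P : Subgroup D) → x ≠ 1 → orderOf x = 5 := by
    intro P x hxP hx1
    have hdvd : orderOf x ∣ 5 := by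
      have h := Subgroup.orderOf_dvd_natCard (P : Subgroup D) hxP
      rwa [hP P] at h
    rcases (Nat.dvd_prime (by norm_num : Nat.Prime 5)).mp hdvd with h | h
    · exact absurd (orderOf_eq_one_iff.mp h) hx1
    · exact h
  let e : {x : D // orderOf x = 5} ≃
      (Σ P : Sylow 5 D, {x : D // x ∈ (P : Subgroup D) ∧ x ≠ 1}) :=
    { toFun := fun x => ⟨Sylow.ofCard (Subgroup.zpowers x.1) (hcardz x.1 x.2),
        ⟨x.1, Subgroup.mem_zpowers x.1, by
          intro h
          have := x.2
          rw [h, orderOf_one] at this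
          norm_num at this⟩⟩
      invFun := fun y => ⟨y.2.1, hord y.1 y.2.1 y.2.2.1 y.2.2.2⟩
      left_inv := fun x => rfl
      right_inv := by
        rintro ⟨P, x, hxP, hx1⟩
        have hx5 := hord P x hxP hx1
        have hle : Subgroup.zpowers x ≤ (P : Subgroup D) := by
          rw [Subgroup.zpowers_le]
          exact hxP
        have heq : Subgroup.zpowers x = (P : Subgroup D) := by
          apply Subgroup.eq_of_le_of_card_ge hle
          rw [hP P, Nat.card_zpowers, hx5]
        have hS : Sylow.ofCard (Subgroup.zpowers x) (hcardz x hx5) = P := by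
          apply Sylow.ext
          exact heq
        simp only
        subst hS
        rfl }
  rw [Nat.card_congr e, Nat.card_sigma]
  simp only [hfib]
  rw [Finset.sum_const, Finset.card_univ, smul_eq_mul, Nat.card_eq_fintype_card, mul_comm]

end Cfsg.Agent.Lib.Helper54.OTF
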