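import Mathlib

/-!
# K-OTs-O16b (keystone 597317, architect helper99, rows S5973 / S5987): `arith_fix_minus`

Pure arithmetic (minus twin of O16a).
-/

set_option autoImplicit false

namespace Cfsg.Agent.Lib.Helper54.OTs

/-- the common core of the case `i` even -/
theorem arith_core_minus (i N ρ c u d : ℕ) (hi2 : 2 ≤ i) (hD : i * N + ρ = 2 * d)
    (hρe : ρ % 2 = 0) (huN : u ≤ N)
    (hB : (2 * c ≤ i ∧ ρ = 0 ∧ Even N ∧ u < N) ∨ (2 * c ≤ ρ ∧ Odd N) ∨ (2 * c < ρ ∧ Even N)) :
    i * u + 2 * c ≤ 2 * d ∧ (Even u → i * u + 2 * c + 2 ≤ 2 * d) := by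
  have h0 : i * u ≤ i * N := Nat.mul_le_mul_left i huN
  rcases hB with ⟨h1, h2, h3, h4⟩ | ⟨h1, h3⟩ | ⟨h1, h3⟩
  · have h5 : i * (u + 1) ≤ i * N := Nat.mul_le_mul_left i h4
    have e5 : i * (u + 1) = i * u + i := by ring
    refine ⟨by omega, fun hu => ?_⟩
    rw [Nat.even_iff] at h3 hu
    have h6 : u + 2 ≤ N := by omega
    have h7 : i * (u + 2) ≤ i * N := Nat.mul_le_mul_left i h6
    have e7 : i * (u + 2) = i * u + 2 * i := by ring
    omega
  · refine ⟨by omega, fun hu => ?_⟩
    rw [Nat.even_iff] at hu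
    rw [Nat.odd_iff] at h3
    have h6 : u + 1 ≤ N := by omega
    have h7 : i * (u + 1) ≤ i * N := Nat.mul_le_mul_left i h6
    have e7 : i * (u + 1) = i * u + i := by ring
    omega
  · exact ⟨by omega, fun _ => by omega⟩

/-- **O16b (597317)**.  MINUS twin of O16a. -/
theorem arith_fix_minus (d m i t : ℕ) (hi : 1 ≤ i) (ht : 1 ≤ t) (hm : 1 ≤ m) (hmd : m + 1 ≤ d)
    (hcrit : (Odd i ∧ i ≤ m ∧ ((2 * d) % (2 * i) = 0 ∨ 2 * (m % i) < (2 * d) % (2 * i))) ∨
      (Even i ∧ i ≤ m ∧ t + 2 * (m / i) ≤ (2 * d) / i ∧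
        ((2 * (m % i) ≤ i ∧ (2 * d) % i = 0 ∧ Even ((2 * d) / i) ∧ t + 2 * (m / i) < (2 * d) / i) ∨
         (2 * (m % i) ≤ (2 * d) % i ∧ Odd ((2 * d) / i)) ∨
         (2 * (m % i) < (2 * d) % i ∧ Even ((2 * d) / i))))) :
    (Odd i → ∀ j, 1 ≤ j → 2 * (i * j) + 2 ≤ 2 * d →
      ∃ b s, m = i * b + s ∧ b ≤ j ∧ 2 * s + 2 ≤ 2 * d - 2 * (i * j)) ∧
    (Even i → ∀ j, 1 ≤ j → i * j ≤ 2 * d → (Even j → i * j + 2 ≤ 2 * d) →
      ∃ b s, m = i * b + s ∧ (b = 0 ∨ 2 * b + t ≤ j + 1) ∧ 2 * s ≤ 2 * d - i * j ∧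
        (Even j → 2 * s + 2 ≤ 2 * d - i * j)) := by
  constructor
  · intro hio j hj hjd
    rcases hcrit with ⟨-, him, hA⟩ | ⟨hie, -⟩
    swap
    · exact absurd hio (Nat.not_odd_iff_even.mpr hie)
    have hm' := Nat.div_add_mod m i
    have hc := Nat.mod_lt m hi
    have hD := Nat.div_add_mod (2 * d) (2 * i)
    have hR := Nat.mod_lt (2 * d) (show 0 < 2 * i by omega)
    generalize m / i = a at *
    generalize m % i = c at *
    generalize (2 * d) / (2 * i) = Q at *
    generalize (2 * d) % (2 * i) = R at *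
    by_cases hja : j ≤ a
    · have h1 : i * j ≤ i * a := Nat.mul_le_mul_left i hja
      exact ⟨j, m - i * j, by omega, le_rfl, by omega⟩
    · push Not at hja
      refine ⟨a, c, by omega, by omega, ?_⟩
      have e0 : 2 * i * Q = 2 * (i * Q) := by ring
      have hjQ : j ≤ Q := by
        by_contra h
        push Not at h
        have h2 : i * (Q + 1) ≤ i * j := Nat.mul_le_mul_left i h
        have e2 : i * (Q + 1) = i * Q + i := by ring
        omega
      rcases Nat.lt_or_ge j Q with hlt | hge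
      · have h3 : i * (j + 1) ≤ i * Q := Nat.mul_le_mul_left i hlt
        have e3 : i * (j + 1) = i * j + i := by ring
        omega
      · have hjQ' : j = Q := le_antisymm hjQ hge
        subst hjQ'
        rcases hA with h0 | hlt <;> omega
  · intro hie j hj hjd hjev
    rcases hcrit with ⟨hio, -⟩ | ⟨-, him, htN, hB⟩
    · exact absurd hio (Nat.not_odd_iff_even.mpr hie)
    have hi2 : 2 ≤ i := by
      obtain ⟨k, hk⟩ := hie
      omega
    have ha1 : 1 ≤ m / i := Nat.div_pos him hi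
    have hm' := Nat.div_add_mod m i
    have hc := Nat.mod_lt m hi
    have hD := Nat.div_add_mod (2 * d) i
    have hρ := Nat.mod_lt (2 * d) hi
    generalize m / i = a at *
    generalize m % i = c at *
    generalize (2 * d) / i = N at *
    generalize (2 * d) % i = ρ at *
    have hρe : ρ % 2 = 0 := by
      obtain ⟨k, hk⟩ := hie
      have e : i * N = 2 * (k * N) := by rw [hk]; ring
      omega
    have hjN : j ≤ N := by
      by_contra h
      push Not at h
      have h2 : i * (N + 1) ≤ i * j := Nat.mul_le_mul_left i h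
      have e2 : i * (N + 1) = i * N + i := by ring
      omega
    by_cases hak : a ≤ (j + 1 - t) / 2
    · -- `b = a`, `s = c`, `u = j`
      have hB' : (2 * c ≤ i ∧ ρ = 0 ∧ Even N ∧ j < N) ∨ (2 * c ≤ ρ ∧ Odd N) ∨ (2 * c < ρ ∧ Even N) := by
        rcases hB with ⟨h1, h2, h3, h4⟩ | h | h
        · refine Or.inl ⟨h1, h2, h3, ?_⟩
          rcases Nat.lt_or_ge j N with hlt | hge
          · exact hlt
          · exfalso
            have hjN' : j = N := le_antisymm hjN hge
            subst hjN'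
            have := hjev h3
            omega
        · exact Or.inr (Or.inl h)
        · exact Or.inr (Or.inr h)
      obtain ⟨hc1, hc2⟩ := arith_core_minus i N ρ c j d hi2 hD hρe hjN hB'
      refine ⟨a, c, by omega, Or.inr (by omega), by omega, fun hje => ?_⟩
      have := hc2 hje
      omega
    · -- `b = k < a`
      push Not at hak
      have hu : 2 * (a - (j + 1 - t) / 2) + j ≤ N := by omega
      have hB' : (2 * c ≤ i ∧ ρ = 0 ∧ Even N ∧ 2 * (a - (j + 1 - t) / 2) + j < N) ∨ (2 * c ≤ ρ ∧ Odd N) ∨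
          (2 * c < ρ ∧ Even N) := by
        rcases hB with ⟨h1, h2, h3, h4⟩ | h | h
        · exact Or.inl ⟨h1, h2, h3, by omega⟩
        · exact Or.inr (Or.inl h)
        · exact Or.inr (Or.inr h)
      obtain ⟨hc1, hc2⟩ := arith_core_minus i N ρ c (2 * (a - (j + 1 - t) / 2) + j) d hi2 hD hρe hu hB'
      have e1 : i * a = i * ((j + 1 - t) / 2) + i * (a - (j + 1 - t) / 2) := by
        rw [← mul_add]
        congr 1
        omega
      have e2 : 2 * (i * (a - (j + 1 - t) / 2) + c) + i * j =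
          i * (2 * (a - (j + 1 - t) / 2) + j) + 2 * c := by ring
      refine ⟨(j + 1 - t) / 2, i * (a - (j + 1 - t) / 2) + c, by omega, by omega, by omega, fun hje => ?_⟩
      have hue : Even (2 * (a - (j + 1 - t) / 2) + j) := by
        rw [Nat.even_iff] at hje ⊢
        omega
      have := hc2 hue
      omega

end Cfsg.Agent.Lib.Helper54.OTs
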