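import Mathlib
import Cfsg.Agent.Lib.Helper99.OTsDefs
import Cfsg.Agent.Lib.Helper50.WittSplit
import Cfsg.Agent.Lib.Helper50.Isotropic

/-!
# K-OTs-O5 (keystone 597305, architect helper99, rows S5973 / S5987): `exists_ts_of_lt`

Witt index at least `s` when `2 s + 2 ≤ dim`, all characteristics: induction on `s`, splitting off hyperbolic pairs
(`Helper50.exists_isotropic`, `exists_hyperbolic_pair`, `pairCompl`).
-/

set_option autoImplicit false

namespace Cfsg.Agent.Lib.Helper54.OTs

open Module QuadraticMap Cfsg.Agent.Lib.Helper98.Sy Cfsg.Agent.Lib.Helper99.OTs Cfsg.Agent.Lib.Helper50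

universe u v

/-- a nondegenerate quadratic space of dimension `≥ 2 s + 2` over a finite field has a totally singular subspace of
dimension `s` -/
theorem exists_ts_of_QND {F : Type u} [Field F] [Finite F] (s : ℕ) :
    ∀ {V : Type v} [AddCommGroup V] [Module F V] [FiniteDimensional F V] (Q : QuadraticForm F V),
      QND Q → 2 * s + 2 ≤ finrank F V →
      ∃ Z : Submodule F V, (∀ z ∈ Z, Q z = 0) ∧ finrank F Z = s := by
  induction s with
  | zero =>
    intro V _ _ _ Q _ _
    refine ⟨⊥, ?_, finrank_bot F V⟩
    intro z hz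
    rw [Submodule.mem_bot] at hz
    rw [hz, map_zero]
  | succ s ih =>
    intro V _ _ _ Q hQ hdim
    obtain ⟨e, he, he0⟩ := exists_isotropic Q (by omega)
    obtain ⟨f, hf0, hef⟩ := exists_hyperbolic_pair Q hQ e he he0
    have hrank := finrank_pairCompl Q e f he0 hf0 hef
    have hQ' := QND_pairCompl Q e f he0 hf0 hef hQ
    obtain ⟨Z', hZ', hZ'd⟩ := ih (Q.comp (pairCompl Q e f).subtype) hQ' (by omega)
    refine ⟨Z'.map (pairCompl Q e f).subtype ⊔ Submodule.span F {e}, ?_, ?_⟩
    · intro z hz
      obtain ⟨u, hu, w, hw, rfl⟩ := Submodule.mem_sup.mp hz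
      obtain ⟨u', hu', rfl⟩ := hu
      obtain ⟨c, rfl⟩ := Submodule.mem_span_singleton.mp hw
      have h1 : Q ((pairCompl Q e f).subtype u') = 0 := hZ' u' hu'
      have h2 : polar Q e ((pairCompl Q e f).subtype u') = 0 := (mem_pairCompl.mp u'.2).1
      have h3 : Q ((pairCompl Q e f).subtype u' + c • e) =
          Q ((pairCompl Q e f).subtype u') + Q (c • e) + polar Q ((pairCompl Q e f).subtype u') (c • e) :=
        QuadraticMap.map_add (⇑Q) _ _
      rw [h3, QuadraticMap.map_smul, he0, polar_smul_right, polar_comm, h2, h1]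
      simp
    · have hinj : Function.Injective (pairCompl Q e f).subtype := Subtype.val_injective
      have h1 : finrank F (Z'.map (pairCompl Q e f).subtype) = s := by
        rw [← hZ'd]
        exact (Submodule.equivMapOfInjective _ hinj Z').finrank_eq.symm
      have h2 : finrank F (Submodule.span F {e}) = 1 := finrank_span_singleton he
      have h3 : Z'.map (pairCompl Q e f).subtype ⊓ Submodule.span F {e} = ⊥ := by
        rw [eq_bot_iff]
        intro x hx
        obtain ⟨⟨u', -, rfl⟩, hx2⟩ := hx
        obtain ⟨c, hc⟩ := Submodule.mem_span_singleton.mp hx2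
        have h4 : polar Q f ((pairCompl Q e f).subtype u') = 0 := (mem_pairCompl.mp u'.2).2
        rw [← hc, polar_smul_right, polar_comm, hef, smul_eq_mul, mul_one] at h4
        rw [Submodule.mem_bot, ← hc, h4, zero_smul]
      have h4 := Submodule.finrank_sup_add_finrank_inf_eq (Z'.map (pairCompl Q e f).subtype)
        (Submodule.span F {e})
      rw [h3, finrank_bot, add_zero, h1, h2] at h4
      exact h4

/-- **O5 (597305)** -/
theorem exists_ts_of_lt {F : Type u} [Field F] {V : Type u} [AddCommGroup V] [Module F V] [Fintype F]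
    [FiniteDimensional F V] (Q : QuadraticForm F V) (U : Submodule F V)
    (hU : NonDeg (QuadraticMap.polarBilin Q) U) (s : ℕ) (hs : 2 * s + 2 ≤ finrank F U) :
    ∃ Z : Submodule F V, Z ≤ U ∧ TS Q Z ∧ finrank F Z = s := by
  have hQ' : QND (Q.comp U.subtype) := by
    intro w hw
    apply Subtype.ext
    apply hU w w.2
    intro x hx
    have := hw ⟨x, hx⟩
    simp only [polar, comp_apply, Submodule.subtype_apply, Submodule.coe_add] at this
    rw [QuadraticMap.polarBilin_apply_apply]
    exact this
  obtain ⟨Z', hZ', hZ'd⟩ := exists_ts_of_QND s (Q.comp U.subtype) hQ' hs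
  refine ⟨Z'.map U.subtype, Submodule.map_subtype_le U Z', ?_, ?_⟩
  · rintro _ ⟨z, hz, rfl⟩
    exact hZ' z hz
  · rw [← hZ'd]
    exact (Submodule.equivMapOfInjective _ Subtype.val_injective Z').finrank_eq.symm

end Cfsg.Agent.Lib.Helper54.OTs
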