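import Cfsg.Agent.Lib.Helper54.PRedAmbient
import Cfsg.Agent.Lib.Helper54.Subnormal
import Cfsg.Agent.Lib.Helper54.Coprime

set_option autoImplicit false

namespace Cfsg.Agent.Lib.Helper54

open Cfsg
open scoped commutatorElement

variable {H : Type*} [Group H] {p : ℕ}

/-- a large `p`-power power of an element of finite order is a `p'`-element -/
theorem exists_pow_coprime [Finite H] [Fact p.Prime] (d : H) (k : ℕ) :
    ∃ n : ℕ, k ≤ n ∧ (orderOf (d ^ (p ^ n))).Coprime p := by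
  have hp : p.Prime := Fact.out
  obtain ⟨e, m, hm, hn⟩ :=
    Nat.exists_eq_pow_mul_and_not_dvd (orderOf_pos d).ne' p hp.ne_one
  have h0 : orderOf (d ^ (p ^ e)) = m := by
    rw [orderOf_pow' _ (pow_ne_zero _ hp.ne_zero), hn]
    have h1 : (p ^ e * m).gcd (p ^ e) = p ^ e := Nat.gcd_eq_right (Dvd.intro _ rfl)
    rw [h1, Nat.mul_div_cancel_left _ (pow_pos hp.pos _)]
  refine ⟨k + e, Nat.le_add_right k e, ?_⟩
  have h2 : d ^ (p ^ (k + e)) = (d ^ (p ^ e)) ^ (p ^ k) := by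
    rw [← pow_mul, ← pow_add, add_comm]
  rw [h2]
  have h3 : orderOf ((d ^ (p ^ e)) ^ (p ^ k)) ∣ m := h0 ▸ orderOf_pow_dvd _
  exact Nat.Coprime.coprime_dvd_left h3 ((Nat.Prime.coprime_iff_not_dvd hp).2 hm).symm

/-- coprime action: a `p'`-element of the normal subgroup `L` of `K` centralising `V ∩ L`
centralises the normal elementary abelian subgroup `V` of `K` -/
theorem mem_centralizer_of_coprime_of_inf {K L V : Subgroup H} (hVK : V ≤ K)
    (hKV : K ≤ Subgroup.normalizer (V : Set H)) (hVp : ∀ v ∈ V, v ^ p = 1)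
    (hLK : L ≤ K) (hKL : K ≤ Subgroup.normalizer (L : Set H)) {x : H} (hxL : x ∈ L)
    (hx : (orderOf x).Coprime p)
    (hxC : x ∈ Subgroup.centralizer ((V ⊓ L : Subgroup H) : Set H)) :
    x ∈ Subgroup.centralizer (V : Set H) := by
  rw [Subgroup.mem_centralizer_iff]
  intro v hv
  have hxn : x ∈ Subgroup.normalizer (V : Set H) := hKV (hLK hxL)
  have hvn : v ∈ Subgroup.normalizer (L : Set H) := hKL (hVK hv)
  have h1 : ⁅v, x⁆ ∈ V := by
    have h2 : x * v⁻¹ * x⁻¹ ∈ V := (Subgroup.mem_normalizer_iff.1 hxn _).1 (V.inv_mem hv)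
    have e : ⁅v, x⁆ = v * (x * v⁻¹ * x⁻¹) := by rw [commutatorElement_def]; group
    rw [e]; exact V.mul_mem hv h2
  have h2 : ⁅v, x⁆ ∈ L := by
    have h3 : v * x * v⁻¹ ∈ L := (Subgroup.mem_normalizer_iff.1 hvn _).1 hxL
    have e : ⁅v, x⁆ = (v * x * v⁻¹) * x⁻¹ := by rw [commutatorElement_def]
    rw [e]; exact L.mul_mem h3 (L.inv_mem hxL)
  have h3 : Commute ⁅v, x⁆ x :=
    ((Subgroup.mem_centralizer_iff.1 hxC) _ (Subgroup.mem_inf.2 ⟨h1, h2⟩))
  have h4 : ⁅v, x⁆ = 1 :=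
    commutatorElement_eq_one_of_coprime (p := p) v x h3 ⟨1, by rw [pow_one]; exact hVp _ h1⟩ hx
  rw [commutatorElement_eq_one_iff_commute] at h4
  exact h4.eq

/-- `O_p` of a normal subgroup acts trivially: the `p`-reducedness criterion for subgroups of a
normal subgroup `L` of `K` -/
theorem le_centralizer_of_pow_mem_of_normal [Finite H] [Fact p.Prime] {K L V D : Subgroup H}
    (hVK : V ≤ K) (hV : IsPReducedNormal p (V.subgroupOf K))
    (hLK : L ≤ K) (hKL : K ≤ Subgroup.normalizer (L : Set H)) (hDL : D ≤ L)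
    (hLD : L ≤ Subgroup.normalizer (D : Set H))
    (hpow : ∀ d ∈ D, ∃ k : ℕ, d ^ (p ^ k) ∈ Subgroup.centralizer (V : Set H)) :
    D ≤ Subgroup.centralizer (V : Set H) := by
  obtain ⟨_, _, hCn, hO⟩ := hV
  have hLn : (L.subgroupOf K).Normal := (Subgroup.normal_subgroupOf_iff_le_normalizer hLK).2 hKL
  have hDK : D ≤ K := hDL.trans hLK
  have hle : D.subgroupOf K ≤ L.subgroupOf K := fun x hx => hDL hx
  have hDn : ((D.subgroupOf K).subgroupOf (L.subgroupOf K)).Normal := by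
    rw [Subgroup.normal_subgroupOf_iff_le_normalizer hle, ← Subgroup.subgroupOf_normalizer_eq hDK]
    intro x hx
    exact hLD hx
  have hsn : (D.subgroupOf K).IsSubnormal :=
    Subgroup.IsSubnormal.step _ _ hle hLn.isSubnormal hDn
  have hsn' := hsn.map (f := QuotientGroup.mk' (Subgroup.centralizer
    ((V.subgroupOf K : Subgroup ↥K) : Set ↥K))) (QuotientGroup.mk'_surjective _)
  have hp' : IsPGroup p ↥((D.subgroupOf K).map (QuotientGroup.mk' (Subgroup.centralizer
      ((V.subgroupOf K : Subgroup ↥K) : Set ↥K)))) := by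
    rintro ⟨_, ⟨d, hd, rfl⟩⟩
    obtain ⟨k, hk⟩ := hpow (d : H) hd
    refine ⟨k, Subtype.ext ?_⟩
    show ((QuotientGroup.mk' _) d) ^ (p ^ k) = 1
    rw [← map_pow, QuotientGroup.mk'_apply, QuotientGroup.eq_one_iff,
      mem_centralizer_subgroupOf_iff hVK]
    simpa using hk
  have h1 := le_pCore_of_isSubnormal_of_isPGroup hsn' hp'
  rw [hO, Subgroup.map_le_iff_le_comap] at h1
  intro d hd
  have h2 := h1 (show (⟨d, hDK hd⟩ : ↥K) ∈ D.subgroupOf K from hd)
  rw [Subgroup.mem_comap, Subgroup.mem_bot, QuotientGroup.mk'_apply,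
    QuotientGroup.eq_one_iff, mem_centralizer_subgroupOf_iff hVK] at h2
  exact h2

/-- `V ∩ L` is `p`-reduced in the normal subgroup `L` of `K` when `V` is `p`-reduced in `K` -/
theorem isPReducedNormal_inf_of_normal [Finite H] [Fact p.Prime] {K L V : Subgroup H}
    (hVK : V ≤ K) (hV : IsPReducedNormal p (V.subgroupOf K))
    (hLK : L ≤ K) (hKL : K ≤ Subgroup.normalizer (L : Set H)) :
    IsPReducedNormal p ((V ⊓ L).subgroupOf L) := by
  obtain ⟨hKV, hVel, _⟩ := (isPReducedNormal_subgroupOf_iff hVK).1 hV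
  rw [isPReducedNormal_subgroupOf_iff inf_le_right]
  refine ⟨le_normalizer_inf (hLK.trans hKV) Subgroup.le_normalizer,
    isElementaryAbelian_of_le hVel inf_le_left, ?_⟩
  intro D hDL hLD _ hpow
  refine le_trans ?_ (Subgroup.centralizer_le (show ((V ⊓ L : Subgroup H) : Set H) ⊆ V from
    fun x hx => (Subgroup.mem_inf.1 hx).1))
  apply le_centralizer_of_pow_mem_of_normal hVK hV hLK hKL hDL hLD
  intro d hd
  obtain ⟨k, hk⟩ := hpow d hd
  obtain ⟨n, hkn, hcop⟩ := exists_pow_coprime (p := p) d k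
  refine ⟨n, ?_⟩
  apply mem_centralizer_of_coprime_of_inf hVK hKV hVel.2 hLK hKL
    (hDL (D.pow_mem hd _)) hcop
  obtain ⟨j, rfl⟩ := Nat.exists_eq_add_of_le hkn
  rw [pow_add, pow_mul]
  exact Subgroup.pow_mem _ hk _

/-- `C_L(V ∩ L) ≤ C(V)` for `V` `p`-reduced in `K` and `L` normal in `K` -/
theorem inf_centralizer_inf_le_of_normal [Finite H] [Fact p.Prime] {K L V : Subgroup H}
    (hVK : V ≤ K) (hV : IsPReducedNormal p (V.subgroupOf K))
    (hLK : L ≤ K) (hKL : K ≤ Subgroup.normalizer (L : Set H)) :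
    L ⊓ Subgroup.centralizer ((V ⊓ L : Subgroup H) : Set H) ≤
      Subgroup.centralizer (V : Set H) := by
  obtain ⟨hKV, hVel, _⟩ := (isPReducedNormal_subgroupOf_iff hVK).1 hV
  have hLn : L ≤ Subgroup.normalizer ((V ⊓ L : Subgroup H) : Set H) :=
    le_normalizer_inf (hLK.trans hKV) Subgroup.le_normalizer
  apply le_centralizer_of_pow_mem_of_normal hVK hV hLK hKL inf_le_left
    (le_normalizer_inf Subgroup.le_normalizer
      (hLn.trans (normalizer_le_normalizer_centralizer' _)))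
  intro d hd
  obtain ⟨n, _, hcop⟩ := exists_pow_coprime (p := p) d 0
  refine ⟨n, ?_⟩
  have hdn := Subgroup.pow_mem _ hd (p ^ n)
  exact mem_centralizer_of_coprime_of_inf hVK hKV hVel.2 hLK hKL
    (Subgroup.mem_inf.1 hdn).1 hcop (Subgroup.mem_inf.1 hdn).2

end Cfsg.Agent.Lib.Helper54
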