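import Cfsg.Agent.Lib.Helper54.PRedSubnormal2

set_option autoImplicit false

namespace Cfsg.Agent.Lib.Helper54

open Cfsg
open scoped commutatorElement

variable {H : Type*} [Group H] {p : ℕ}

/-- for `L` normal in `K`: `C_L(Y_K) ≤ C_L(Y_L)` -/
theorem inf_centralizer_largestPReducedOf_le [Finite H] [Fact p.Prime] {K L : Subgroup H}
    (hLK : L ≤ K) (hKL : K ≤ Subgroup.normalizer (L : Set H)) :
    L ⊓ Subgroup.centralizer ((largestPReducedOf p K : Subgroup H) : Set H) ≤
      Subgroup.centralizer ((largestPReducedOf p L : Subgroup H) : Set H) := by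
  obtain ⟨YL, hYLdef⟩ : ∃ YL : Subgroup H, YL = largestPReducedOf p L := ⟨_, rfl⟩
  rw [← hYLdef]
  have hYLL : YL ≤ L := by rw [hYLdef]; exact largestPReducedOf_le_self p L
  have hYLred : IsPReducedNormal p (YL.subgroupOf L) := by
    rw [hYLdef]; exact isPReducedNormal_largestPReducedOf L
  have hYLmax : ∀ V : Subgroup H, V ≤ L → IsPReducedNormal p (V.subgroupOf L) → V ≤ YL := by
    intro V hVL hV; rw [hYLdef]; exact le_largestPReducedOf hVL hV
  obtain ⟨hLYL, hYLel, _⟩ := (isPReducedNormal_subgroupOf_iff hYLL).1 hYLred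
  -- K normalises Y_L
  have hKYL : K ≤ Subgroup.normalizer (YL : Set H) := by
    apply le_normalizer_of_map_conj_le
    intro k hk
    have hLk : L.map (MulAut.conj k).toMonoidHom = L := map_conj_eq_of_mem_normalizer (hKL hk)
    have h1 := isPReducedNormal_map_conj hYLL hYLred k
    have h2 : YL.map (MulAut.conj k).toMonoidHom ≤ L.map (MulAut.conj k).toMonoidHom :=
      Subgroup.map_mono hYLL
    rw [hLk] at h1 h2
    exact hYLmax _ h2 h1
  -- a minimal K-invariant subgroup of Y_L with the same centraliser in L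
  let S : Set (Subgroup H) := {V | V ≤ YL ∧ K ≤ Subgroup.normalizer (V : Set H) ∧
    L ⊓ Subgroup.centralizer (V : Set H) ≤ Subgroup.centralizer (YL : Set H)}
  have hSfin : S.Finite := Set.toFinite S
  have hSne : S.Nonempty := ⟨YL, le_rfl, hKYL, inf_le_right⟩
  obtain ⟨Vs, ⟨hVs1, hVs2, hVs3⟩, hVsmin⟩ := hSfin.exists_minimal hSne
  have hVsK : Vs ≤ K := hVs1.trans (hYLL.trans hLK)
  have hVsel : IsElementaryAbelian p Vs := isElementaryAbelian_of_le hYLel hVs1
  have hVscomm : ∀ a ∈ Vs, ∀ b ∈ Vs, a * b = b * a := by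
    intro a ha b hb
    haveI := hVsel.1
    exact congrArg Subtype.val (mul_comm' (⟨a, ha⟩ : ↥Vs) ⟨b, hb⟩)
  have hVsred : IsPReducedNormal p (Vs.subgroupOf K) := by
    rw [isPReducedNormal_subgroupOf_iff hVsK]
    refine ⟨hVs2, hVsel, ?_⟩
    intro D hDK hKD _ hpow
    have hmem : Vs ⊓ Subgroup.centralizer (D : Set H) ∈ S := by
      refine ⟨inf_le_left.trans hVs1,
        le_normalizer_inf hVs2 (hKD.trans (normalizer_le_normalizer_centralizer' D)), ?_⟩
      -- D ∩ L centralises Vs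
      have hDL' : D ⊓ L ≤ Subgroup.centralizer (Vs : Set H) := by
        refine le_trans ?_ (Subgroup.centralizer_le hVs1)
        apply le_centralizer_of_pow_mem hYLL hYLred inf_le_right
          (le_normalizer_inf (hLK.trans hKD) Subgroup.le_normalizer)
        intro d hd
        obtain ⟨k, hk⟩ := hpow d (Subgroup.mem_inf.1 hd).1
        exact ⟨k, hVs3 (Subgroup.mem_inf.2 ⟨L.pow_mem (Subgroup.mem_inf.1 hd).2 _, hk⟩)⟩
      have hLn : L ≤ Subgroup.normalizer ((L ⊓ Subgroup.centralizer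
          ((Vs ⊓ Subgroup.centralizer (D : Set H) : Subgroup H) : Set H) : Subgroup H) : Set H) := by
        apply le_normalizer_inf Subgroup.le_normalizer
        refine le_trans ?_ (normalizer_le_normalizer_centralizer' _)
        exact hLK.trans (le_normalizer_inf hVs2
          (hKD.trans (normalizer_le_normalizer_centralizer' D)))
      apply le_centralizer_of_pow_mem hYLL hYLred inf_le_left hLn
      intro e he
      obtain ⟨n, _, hcop⟩ := exists_pow_coprime (p := p) e 0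
      refine ⟨n, ?_⟩
      obtain ⟨x, hxdef⟩ : ∃ x : H, x = e ^ (p ^ n) := ⟨_, rfl⟩
      rw [← hxdef] at hcop ⊢
      have hxE : x ∈ L ⊓ Subgroup.centralizer
          ((Vs ⊓ Subgroup.centralizer (D : Set H) : Subgroup H) : Set H) := by
        rw [hxdef]; exact Subgroup.pow_mem _ he _
      obtain ⟨hxL, hxC⟩ := Subgroup.mem_inf.1 hxE
      apply hVs3
      refine Subgroup.mem_inf.2 ⟨hxL, ?_⟩
      have hxK : x ∈ K := hLK hxL
      have hxn : x ∈ Subgroup.normalizer (Vs : Set H) := hVs2 hxK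
      obtain ⟨U, hUV, hU⟩ := exists_commutator_subgroup hVscomm hxn
      -- D normalises U
      have hDU : D ≤ Subgroup.normalizer (U : Set H) := by
        apply le_normalizer_of_map_conj_le
        rintro d hd _ ⟨u, hu, rfl⟩
        obtain ⟨v, hv, rfl⟩ := (hU u).1 hu
        have hv' : d * v * d⁻¹ ∈ Vs := (Subgroup.mem_normalizer_iff.1 (hVs2 (hDK hd)) v).1 hv
        rw [hU]
        refine ⟨d * v * d⁻¹, hv', ?_⟩
        have hcD : ⁅d, x⁆ ∈ D := by
          have h2 : x * d⁻¹ * x⁻¹ ∈ D :=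
            (Subgroup.mem_normalizer_iff.1 (hKD hxK) _).1 (D.inv_mem hd)
          have e : ⁅d, x⁆ = d * (x * d⁻¹ * x⁻¹) := by rw [commutatorElement_def]; group
          rw [e]; exact D.mul_mem hd h2
        have hcL : ⁅d, x⁆ ∈ L := by
          have h3 : d * x * d⁻¹ ∈ L := (Subgroup.mem_normalizer_iff.1 (hKL (hDK hd)) _).1 hxL
          have e : ⁅d, x⁆ = (d * x * d⁻¹) * x⁻¹ := by rw [commutatorElement_def]
          rw [e]; exact L.mul_mem h3 (L.inv_mem hxL)
        have hc : ⁅d, x⁆ ∈ Subgroup.centralizer (Vs : Set H) :=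
          hDL' (Subgroup.mem_inf.2 ⟨hcD, hcL⟩)
        have hw : ⁅d * v * d⁻¹, x⁆ ∈ Vs := hUV ((hU _).2 ⟨_, hv', rfl⟩)
        have ha : (d * v * d⁻¹) * ⁅d, x⁆ = ⁅d, x⁆ * (d * v * d⁻¹) :=
          (Subgroup.mem_centralizer_iff.1 hc) _ hv'
        have hb : ⁅d * v * d⁻¹, x⁆ * ⁅d, x⁆ = ⁅d, x⁆ * ⁅d * v * d⁻¹, x⁆ :=
          (Subgroup.mem_centralizer_iff.1 hc) _ hw
        simp only [MulEquiv.coe_toMonoidHom, MulAut.conj_apply]
        calc d * ⁅v, x⁆ * d⁻¹
            = ((d * v * d⁻¹) * ⁅d, x⁆) * x * (d * v * d⁻¹)⁻¹ * x⁻¹ * (⁅d, x⁆)⁻¹ := by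
              simp only [commutatorElement_def]; group
          _ = (⁅d, x⁆ * (d * v * d⁻¹)) * x * (d * v * d⁻¹)⁻¹ * x⁻¹ * (⁅d, x⁆)⁻¹ := by rw [ha]
          _ = (⁅d, x⁆ * ⁅d * v * d⁻¹, x⁆) * (⁅d, x⁆)⁻¹ := by
              simp only [commutatorElement_def]; group
          _ = (⁅d * v * d⁻¹, x⁆ * ⁅d, x⁆) * (⁅d, x⁆)⁻¹ := by rw [hb]
          _ = ⁅d * v * d⁻¹, x⁆ := by group
      have hUp : IsPGroup p ↥U := (isPGroup_of_isElementaryAbelian hVsel).to_le hUV
      have hUbot : U = ⊥ := by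
        by_contra hne
        have h1 := inf_centralizer_ne_bot_of_pow_mem hDU hUp hne (fun d hd => by
          obtain ⟨k, hk⟩ := hpow d hd
          exact ⟨k, Subgroup.centralizer_le hUV hk⟩)
        obtain ⟨u, hu1⟩ := Subgroup.ne_bot_iff_exists_ne_one.1 h1
        obtain ⟨huU, huC⟩ := Subgroup.mem_inf.1 u.2
        obtain ⟨v, hv, hveq⟩ := (hU _).1 huU
        have hVsD : (u : H) ∈ Vs ⊓ Subgroup.centralizer (D : Set H) :=
          Subgroup.mem_inf.2 ⟨hUV huU, huC⟩
        have hcomm : Commute ⁅v, x⁆ x := by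
          rw [← hveq]; exact (Subgroup.mem_centralizer_iff.1 hxC) _ hVsD
        have h2 := commutatorElement_eq_one_of_coprime (p := p) v x hcomm
          ⟨1, by rw [pow_one, ← hveq]; exact hVsel.2 _ (hUV huU)⟩ hcop
        apply hu1
        apply Subtype.ext
        rw [hveq, h2]
        rfl
      rw [Subgroup.mem_centralizer_iff]
      intro v hv
      have h1 : ⁅v, x⁆ ∈ U := (hU _).2 ⟨v, hv, rfl⟩
      rw [hUbot, Subgroup.mem_bot, commutatorElement_eq_one_iff_commute] at h1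
      exact h1.eq
    have h1 := hVsmin hmem inf_le_left
    rw [Subgroup.le_centralizer_iff]
    exact h1.trans inf_le_right
  have hVsYK : Vs ≤ largestPReducedOf p K := le_largestPReducedOf hVsK hVsred
  exact (inf_le_inf_left L (Subgroup.centralizer_le hVsYK)).trans hVs3

end Cfsg.Agent.Lib.Helper54
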