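import Mathlib
import Cfsg.Agent.Lib.Helper53.QdHeis
import Cfsg.Agent.Lib.Helper53.NatSL2
import Cfsg.Agent.Lib.Helper53.ThompsonJA

/-!
# `Z(J(T))` does not control strong fusion in `Qd(p)`
-/

set_option autoImplicit false
open Cfsg
open Cfsg.Agent.Lib.Helper53

namespace Cfsg.Agent.Lib.Helper54

section abstract

variable {X : Type*} [Group X] {p : ℕ} [Fact p.Prime]

/-- abstract witness for the failure of control of strong fusion by `Z(J(T))` -/
theorem not_controls_of_witness [Finite X] (T : Sylow p X) (B : Subgroup X)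
    (hB : IsMaxAbIn (T : Subgroup X) B) (a z : X) (ha : a ∈ B) (hz : z ∈ B)
    (hzc : ∀ t ∈ (T : Subgroup X), z * t = t * z)
    (N : Subgroup X) [N.Normal] (hN : IsPGroup p N) (g : X) (hw : g * z * g⁻¹ ∈ N)
    (hne : a * (g * z * g⁻¹) ≠ (g * z * g⁻¹) * a) :
    ¬ Cfsg.ControlsStrongFusion p (Cfsg.centerThompsonAOf (T : Subgroup X)) := by
  rintro ⟨T', hUT', hctl⟩
  have hzU : z ∈ Cfsg.centerThompsonAOf (T : Subgroup X) := by
    refine ⟨hB.le_thompsonAOf hz, ?_⟩
    have : z ∈ Subgroup.centralizer (Cfsg.thompsonSubgroupAOf (T : Subgroup X) : Set X) := by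
      rw [Subgroup.mem_centralizer_iff]
      intro j hj
      exact (hzc j (thompsonAOf_le _ hj)).symm
    exact this
  have hzT' : z ∈ (T' : Subgroup X) := hUT' hzU
  have hwT' : g * z * g⁻¹ ∈ (T' : Subgroup X) := hN.le_sylow_of_normal T' hw
  obtain ⟨_, h2⟩ := hctl {z} (by
    intro y hy
    rw [Set.mem_singleton_iff] at hy
    rw [hy]; exact hzT')
  obtain ⟨x, hx, hxa⟩ := h2 g (by
    rintro y ⟨y', hy', rfl⟩
    rw [Set.mem_singleton_iff] at hy'
    rw [hy']; exact hwT')
  have h3 : g * z * g⁻¹ = x * z * x⁻¹ := hxa z rfl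
  have hxU : x * z * x⁻¹ ∈ Cfsg.centerThompsonAOf (T : Subgroup X) :=
    (Subgroup.mem_normalizer_iff.mp hx z).mp hzU
  rw [← h3] at hxU
  have h4 : g * z * g⁻¹ ∈ Subgroup.centralizer (Cfsg.thompsonSubgroupAOf (T : Subgroup X) : Set X) :=
    hxU.2
  rw [Subgroup.mem_centralizer_iff] at h4
  exact hne (h4 a (hB.le_thompsonAOf ha))

/-- the witness configuration -/
structure QdWitness (p : ℕ) (X : Type*) [Group X] where
  T : Sylow p X
  B : Subgroup X
  hB : IsMaxAbIn (T : Subgroup X) B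
  a : X
  z : X
  ha : a ∈ B
  hz : z ∈ B
  hzc : ∀ t ∈ (T : Subgroup X), z * t = t * z
  N : Subgroup X
  hNn : N.Normal
  hN : IsPGroup p N
  g : X
  hw : g * z * g⁻¹ ∈ N
  hne : a * (g * z * g⁻¹) ≠ (g * z * g⁻¹) * a

theorem QdWitness.not_controls [Finite X] (w : QdWitness p X) :
    ¬ Cfsg.ControlsStrongFusion p (Cfsg.centerThompsonAOf (w.T : Subgroup X)) := by
  have := w.hNn
  exact not_controls_of_witness w.T w.B w.hB w.a w.z w.ha w.hz w.hzc w.N w.hN w.g w.hw w.hne

/-- transport of a witness along an isomorphism -/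
noncomputable def QdWitness.comap {Y : Type*} [Group Y] [Finite X] (w : QdWitness p Y) (φ : X ≃* Y) :
    QdWitness p X where
  T := w.T.comapOfInjective φ.toMonoidHom (show Function.Injective φ.toMonoidHom from φ.injective) (by
    intro y _
    exact ⟨φ.symm y, by simp⟩)
  B := w.B.comap φ.toMonoidHom
  hB := by
    show IsMaxAbIn ((w.T : Subgroup Y).comap φ.toMonoidHom) (Subgroup.comap φ.toMonoidHom w.B)
    refine ⟨Subgroup.comap_mono w.hB.1, ?_, ?_⟩
    · intro x hx y hy
      apply φ.injective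
      rw [map_mul, map_mul]
      exact w.hB.2.1 _ hx _ hy
    · intro B' hB' hB'c
      have h1 : Nat.card (B'.map φ.toMonoidHom) ≤ Nat.card w.B := by
        apply w.hB.2.2
        · rintro y ⟨x, hx, rfl⟩
          exact hB' hx
        · rintro y ⟨x, hx, rfl⟩ y' ⟨x', hx', rfl⟩
          show φ x * φ x' = φ x' * φ x
          rw [← map_mul, ← map_mul, hB'c x hx x' hx']
      rw [Subgroup.card_map_of_injective φ.injective] at h1
      have h2 : Nat.card (w.B.comap φ.toMonoidHom) = Nat.card w.B := by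
        rw [Subgroup.comap_equiv_eq_map_symm']
        exact Subgroup.card_map_of_injective φ.symm.injective
      rw [h2]; exact h1
  a := φ.symm w.a
  z := φ.symm w.z
  ha := by show φ (φ.symm w.a) ∈ w.B; simpa using w.ha
  hz := by show φ (φ.symm w.z) ∈ w.B; simpa using w.hz
  hzc := by
    intro t ht
    have ht' : φ t ∈ (w.T : Subgroup Y) := ht
    apply φ.injective
    rw [map_mul, map_mul, MulEquiv.apply_symm_apply]
    exact w.hzc _ ht'
  N := w.N.comap φ.toMonoidHom
  hNn := by haveI := w.hNn; infer_instance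
  hN := w.hN.comap_of_injective φ.toMonoidHom φ.injective
  g := φ.symm w.g
  hw := by
    show φ (φ.symm w.g * φ.symm w.z * (φ.symm w.g)⁻¹) ∈ w.N
    simpa using w.hw
  hne := by
    intro h
    apply w.hne
    have := congrArg φ h
    simpa using this

end abstract

section concrete

open Matrix

variable (p : ℕ) [Fact p.Prime]

/-- the witness inside `Qd(p)` -/
theorem nonempty_qdWitness (hp : p ≠ 2) : Nonempty (QdWitness p ↥(Cfsg.qdOver (ZMod p))) := by
  classical
  obtain ⟨S⟩ : Nonempty (Sylow p ↥(Cfsg.qdOver (ZMod p))) := inferInstance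
  obtain ⟨u, hu, hS⟩ := sylow_eq_qstab S
  obtain ⟨B₀, hB₀⟩ := exists_sl2_smul_e0_eq u hu
  -- the unipotent element
  obtain ⟨α, hα⟩ : ∃ α : Matrix.SpecialLinearGroup (Fin 2) (ZMod p), α = B₀ * utr 1 * B₀⁻¹ := ⟨_, rfl⟩
  have hα1 : α ≠ 1 := by rw [hα]; exact utr_one_conj_ne_one B₀ one_ne_zero
  have hαu : α • u = u := by
    have h1 : B₀⁻¹ • u = (e0 : Fin 2 → ZMod p) := by rw [inv_smul_eq_iff]; exact hB₀.symm
    have h2 : utr (1 : ZMod p) • (e0 : Fin 2 → ZMod p) = e0 := by
      rw [utr_smul]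
      ext i
      fin_cases i <;> simp [e0]
    rw [hα, mul_smul, mul_smul, h1, h2, hB₀]
  obtain ⟨u', hu'⟩ : ∃ u' : Fin 2 → ZMod p, α • u' ≠ u' := by
    by_contra hcon
    push Not at hcon
    exact hα1 (sl2_eq_one_of_smul α hcon)
  have hu'0 : u' ≠ 0 := by
    rintro rfl
    exact hu' (smul_zero α)
  obtain ⟨A₁, hA₁⟩ := exists_sl2_smul_e0_eq u' hu'0
  obtain ⟨A', hA'⟩ : ∃ A' : Matrix.SpecialLinearGroup (Fin 2) (ZMod p), A' • u = u' := by
    refine ⟨A₁ * B₀⁻¹, ?_⟩
    have h1 : B₀⁻¹ • u = (e0 : Fin 2 → ZMod p) := by rw [inv_smul_eq_iff]; exact hB₀.symm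
    rw [mul_smul, h1, hA₁]
  -- elements
  obtain ⟨a, ha⟩ : ∃ a : ↥(Cfsg.qdOver (ZMod p)), a = qemb α := ⟨_, rfl⟩
  obtain ⟨z, hz⟩ : ∃ z : ↥(Cfsg.qdOver (ZMod p)), z = qtr u := ⟨_, rfl⟩
  obtain ⟨g, hg⟩ : ∃ g : ↥(Cfsg.qdOver (ZMod p)), g = qemb A' := ⟨_, rfl⟩
  have haS : a ∈ (S : Subgroup ↥(Cfsg.qdOver (ZMod p))) := by
    rw [hS, ha, qemb_mem_qstab_iff]; exact hαu
  have hzS : z ∈ (S : Subgroup ↥(Cfsg.qdOver (ZMod p))) := by
    rw [hS, hz]; exact qtr_mem_qstab u u
  have hzc : ∀ t ∈ (S : Subgroup ↥(Cfsg.qdOver (ZMod p))), z * t = t * z := by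
    intro t ht
    rw [hS, mem_qstab_iff] at ht
    have h1 : t * z * t⁻¹ = z := by rw [hz, conj_qtr, ht]
    calc z * t = (t * z * t⁻¹) * t := by rw [h1]
      _ = t * z := by group
  have hgz : g * z * g⁻¹ = qtr u' := by rw [hg, hz, qemb_conj_qtr, hA']
  have hne : a * (g * z * g⁻¹) ≠ (g * z * g⁻¹) * a := by
    rw [hgz]
    intro h
    have h1 : a * qtr u' * a⁻¹ = qtr u' := by rw [h]; group
    rw [conj_qtr, ha, qlin_qemb] at h1
    exact hu' (qtr_injective h1)
  have hu'S : qtr u' ∈ (S : Subgroup ↥(Cfsg.qdOver (ZMod p))) := by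
    rw [hS]; exact qtr_mem_qstab u u'
  -- the abelian subgroup
  obtain ⟨B, hBdef⟩ : ∃ B : Subgroup ↥(Cfsg.qdOver (ZMod p)), B = Subgroup.closure {a, z} := ⟨_, rfl⟩
  have haB : a ∈ B := by rw [hBdef]; exact Subgroup.subset_closure (by simp)
  have hzB : z ∈ B := by rw [hBdef]; exact Subgroup.subset_closure (by simp)
  have hBS : B ≤ (S : Subgroup ↥(Cfsg.qdOver (ZMod p))) := by
    rw [hBdef, Subgroup.closure_le]
    intro y hy
    rcases hy with rfl | rfl
    · exact haS
    · exact hzS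
  have haz : a * z = z * a := (hzc a haS).symm
  have hBc : ∀ x ∈ B, ∀ y ∈ B, x * y = y * x := by
    have h1 : B ≤ Subgroup.centralizer ({a, z} : Set ↥(Cfsg.qdOver (ZMod p))) := by
      rw [hBdef, Subgroup.closure_le]
      intro y hy
      rw [SetLike.mem_coe, Subgroup.mem_centralizer_iff]
      intro h hh
      rcases hy with rfl | rfl <;> rcases hh with rfl | rfl
      · rfl
      · exact haz.symm
      · exact haz
      · rfl
    intro x hx y hy
    have h2 : B ≤ Subgroup.centralizer ({x} : Set ↥(Cfsg.qdOver (ZMod p))) := by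
      rw [hBdef, Subgroup.closure_le]
      intro w hw
      rw [SetLike.mem_coe, Subgroup.mem_centralizer_iff]
      intro h hh
      rw [Set.mem_singleton_iff] at hh
      subst hh
      have := Subgroup.mem_centralizer_iff.mp (h1 hx) w hw
      exact this.symm
    have := Subgroup.mem_centralizer_iff.mp (h2 hy) x rfl
    exact this
  have hcardS : Nat.card ↥(S : Subgroup ↥(Cfsg.qdOver (ZMod p))) = p ^ 3 :=
    (sylow_qd_extraspecial p hp S).2.1
  have hpp : p.Prime := Fact.out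
  -- lower bound for `B`
  have hz1 : z ≠ 1 := by
    rw [hz, ← qtr_zero]
    intro h
    exact hu (qtr_injective h)
  have hzp : z ^ p = 1 := by
    rw [hz, ← qtr_nsmul]
    have : (p • u : Fin 2 → ZMod p) = 0 := by
      ext i
      simp
    rw [this, qtr_zero]
  have hoz : orderOf z = p := orderOf_eq_prime hzp hz1
  have hlt : Subgroup.zpowers z < B := by
    refine lt_of_le_of_ne ((Subgroup.zpowers_le).mpr hzB) ?_
    intro h
    have : a ∈ Subgroup.zpowers z := by rw [h]; exact haB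
    obtain ⟨k, hk⟩ := Subgroup.mem_zpowers_iff.mp this
    have h1 : qlin a = 1 := by
      rw [← hk, map_zpow, hz, qlin_qtr, _root_.one_zpow]
    rw [ha, qlin_qemb] at h1
    exact hα1 h1
  have hcardB : p ^ 2 ≤ Nat.card B := by
    have h1 : Nat.card (Subgroup.zpowers z) < Nat.card B := by
      have : Nat.card (Subgroup.zpowers z) ≤ Nat.card B := Subgroup.card_le_of_le hlt.le
      refine lt_of_le_of_ne this ?_
      intro h
      exact hlt.ne (Subgroup.eq_of_le_of_card_ge hlt.le h.ge)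
    rw [Nat.card_zpowers, hoz] at h1
    have h2 : Nat.card B ∣ p ^ 3 := by
      rw [← hcardS]
      exact Subgroup.card_dvd_of_le hBS
    obtain ⟨k, hk, hk'⟩ := (Nat.dvd_prime_pow hpp).mp h2
    rw [hk'] at h1 ⊢
    have : 1 < k := by
      by_contra hcon
      push Not at hcon
      have : p ^ k ≤ p ^ 1 := Nat.pow_le_pow_right hpp.pos hcon
      rw [pow_one] at this
      omega
    exact Nat.pow_le_pow_right hpp.pos this
  have hmax : ∀ B' : Subgroup ↥(Cfsg.qdOver (ZMod p)), B' ≤ (S : Subgroup ↥(Cfsg.qdOver (ZMod p))) →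
      (∀ x ∈ B', ∀ y ∈ B', x * y = y * x) → Nat.card B' ≤ Nat.card B := by
    intro B' hB'S hB'c
    refine le_trans ?_ hcardB
    have h2 : Nat.card B' ∣ p ^ 3 := by
      rw [← hcardS]
      exact Subgroup.card_dvd_of_le hB'S
    obtain ⟨k, hk, hk'⟩ := (Nat.dvd_prime_pow hpp).mp h2
    rw [hk']
    apply Nat.pow_le_pow_right hpp.pos
    by_contra hcon
    have hk3 : k = 3 := by omega
    have : B' = (S : Subgroup ↥(Cfsg.qdOver (ZMod p))) := by
      apply Subgroup.eq_of_le_of_card_ge hB'S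
      rw [hcardS, hk', hk3]
    have h3 := hB'c a (by rw [this]; exact haS) (qtr u') (by rw [this]; exact hu'S)
    rw [← hgz] at h3
    exact hne h3
  exact ⟨{ T := S, B := B, hB := ⟨hBS, hBc, hmax⟩, a := a, z := z, ha := haB, hz := hzB, hzc := hzc,
           N := (qlin (F := ZMod p)).ker, hNn := inferInstance, hN := ker_qlin_isPGroup, g := g,
           hw := by
             rw [hgz, MonoidHom.mem_ker, qlin_qtr]
           hne := hne }⟩

/-- in a group isomorphic to `Qd(p)`, some Sylow `p`-subgroup `T` has `Z(J(T))` not controlling strong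
fusion -/
theorem exists_sylow_not_controls {X : Type*} [Group X] [Finite X] (hp : p ≠ 2)
    (φ : X ≃* ↥(Cfsg.qd p)) :
    ∃ T : Sylow p X, ¬ Cfsg.ControlsStrongFusion p (Cfsg.centerThompsonAOf (T : Subgroup X)) := by
  obtain ⟨w⟩ := nonempty_qdWitness p hp
  have φ' : X ≃* ↥(Cfsg.qdOver (ZMod p)) := φ
  exact ⟨(w.comap φ').T, (w.comap φ').not_controls⟩

end concrete

end Cfsg.Agent.Lib.Helper54
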