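import Cfsg.Agent.Lib.Helper48.RSpDefs

/-!
# K-RSp pack (S2281), leaf P3 `sym_base_even`: the base of the induction in characteristic `2`, `n ≥ 3`.
PURE linear algebra: an additive group `X` of `n × n` matrices closed under `S ↦ U S Uᵀ` and (for symmetric `S` with
last row zero) `S ↦ L S Lᵀ`, containing `l E₀₀`, `l ≠ 0`, contains all symmetric matrices supported on `{0, 1}`.
-/

set_option autoImplicit false
set_option linter.unusedSectionVars false
set_option linter.unusedVariables false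

namespace Cfsg.Agent.Lib.Helper54.RSp

open Matrix Cfsg.Agent.Lib.Helper48.RSp

variable {m : ℕ} {F : Type*} [Field F]

/-- standard basis vector -/
def p3e (a : Fin (m + 2)) : Fin (m + 2) → F := Pi.single a 1

/-- matrix unit as an outer product -/
def p3E (a b : Fin (m + 2)) : SM m F := vecMulVec (p3e a) (p3e b)

/-- `E_ab + E_ba` -/
def p3B (a b : Fin (m + 2)) : SM m F := p3E a b + p3E b a

theorem p3_conj (A : SM m F) (v w : Fin (m + 2) → F) :
    A * (vecMulVec v w * Aᵀ) = vecMulVec (A *ᵥ v) (A *ᵥ w) := by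
  rw [vecMulVec_mul, mul_vecMulVec, vecMul_transpose]

theorem p3_U_e0 : Uup m F *ᵥ p3e 0 = p3e 0 := by
  ext i
  unfold p3e
  rw [mulVec_single_one]
  simp only [Matrix.col_apply, Uup, Nup, Matrix.add_apply, Matrix.one_apply, Pi.single_apply]
  simp

theorem p3_U_e (a b : Fin (m + 2)) (hab : b.val + 1 = a.val) :
    Uup m F *ᵥ p3e a = p3e a + p3e b := by
  ext i
  unfold p3e
  rw [mulVec_single_one]
  simp only [Matrix.col_apply, Uup, Nup, Matrix.add_apply, Matrix.one_apply, Pi.add_apply,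
    Pi.single_apply]
  congr 1
  have : (i.val + 1 = a.val) ↔ i = b := by rw [Fin.ext_iff]; omega
  simp only [this]

theorem p3_L_e (δ : Fin (m + 2) → F) (a c : Fin (m + 2)) (hac : a.val + 1 = c.val) :
    Lbi m δ *ᵥ p3e a = p3e a + δ a • p3e c := by
  ext i
  unfold p3e
  rw [mulVec_single_one]
  simp only [Matrix.col_apply, Lbi, Pi.add_apply, Pi.smul_apply, Pi.single_apply, smul_eq_mul]
  by_cases h1 : i = a
  · subst h1
    have : ¬ (i = c) := by rw [Fin.ext_iff]; omega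
    simp [this]
  · have : (a.val + 1 = i.val) ↔ i = c := by rw [Fin.ext_iff]; omega
    simp [h1, this]

/-- `S ↦ U S Uᵀ - S` -/
noncomputable def p3opU : SM m F →ₗ[F] SM m F :=
  (LinearMap.mulLeft F (Uup m F)).comp (LinearMap.mulRight F (Uup m F)ᵀ) - LinearMap.id

/-- `S ↦ L S Lᵀ - S` -/
noncomputable def p3opL (δ : Fin (m + 2) → F) : SM m F →ₗ[F] SM m F :=
  (LinearMap.mulLeft F (Lbi m δ)).comp (LinearMap.mulRight F (Lbi m δ)ᵀ) - LinearMap.id

theorem p3opU_apply (S : SM m F) : p3opU S = Uup m F * (S * (Uup m F)ᵀ) - S := rfl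

theorem p3opL_apply (δ : Fin (m + 2) → F) (S : SM m F) :
    p3opL δ S = Lbi m δ * (S * (Lbi m δ)ᵀ) - S := rfl

theorem p3opU_E (a b : Fin (m + 2)) :
    p3opU (p3E a b : SM m F) = vecMulVec (Uup m F *ᵥ p3e a) (Uup m F *ᵥ p3e b) - p3E a b := by
  rw [p3opU_apply, p3E, p3_conj]

theorem p3opL_E (δ : Fin (m + 2) → F) (a b : Fin (m + 2)) :
    p3opL δ (p3E a b : SM m F) = vecMulVec (Lbi m δ *ᵥ p3e a) (Lbi m δ *ᵥ p3e b) - p3E a b := by
  rw [p3opL_apply, p3E, p3_conj]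

section atoms

theorem p3E_def (a b : Fin (m + 2)) : vecMulVec (p3e a) (p3e b) = (p3E a b : SM m F) := rfl

/-- the index `2` -/
def p3i2 (hm : 1 ≤ m) : Fin (m + 2) := ⟨2, by omega⟩

theorem p3_U_e1 : Uup m F *ᵥ p3e 1 = p3e 1 + p3e 0 :=
  p3_U_e 1 0 (by simp)

theorem p3_U_e2 (hm : 1 ≤ m) : Uup m F *ᵥ p3e (p3i2 hm) = p3e (p3i2 hm) + p3e 1 :=
  p3_U_e (p3i2 hm) 1 (by simp [p3i2])

theorem p3_L_e0 (δ : Fin (m + 2) → F) : Lbi m δ *ᵥ p3e 0 = p3e 0 + δ 0 • p3e 1 :=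
  p3_L_e δ 0 1 (by simp)

theorem p3_L_e1 (hm : 1 ≤ m) (δ : Fin (m + 2) → F) : Lbi m δ *ᵥ p3e 1 = p3e 1 + δ 1 • p3e (p3i2 hm) :=
  p3_L_e δ 1 (p3i2 hm) (by simp [p3i2])

theorem p3_A1 : p3opU (p3E 0 0 : SM m F) = 0 := by
  rw [p3opU_E, p3_U_e0]; exact sub_self _

theorem p3_A2 (h2 : (2 : F) = 0) : p3opU (p3B 0 1 : SM m F) = 0 := by
  have key : p3opU (p3B 0 1 : SM m F) = (2 : F) • p3E 0 0 := by
    rw [p3B, map_add, p3opU_E, p3opU_E, p3_U_e0, p3_U_e1]
    simp only [add_vecMulVec, vecMulVec_add]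
    simp only [p3E_def]
    module
  rw [key, h2, zero_smul]

theorem p3_A3 : p3opU (p3E 1 1 : SM m F) = p3B 0 1 + p3E 0 0 := by
  rw [p3opU_E, p3_U_e1]
  simp only [add_vecMulVec, vecMulVec_add]
  simp only [p3E_def, p3B]
  module

theorem p3_A4 (hm : 1 ≤ m) : p3opU (p3B 0 (p3i2 hm) : SM m F) = p3B 0 1 := by
  rw [p3B, map_add, p3opU_E, p3opU_E, p3_U_e0, p3_U_e2 hm]
  simp only [add_vecMulVec, vecMulVec_add]
  simp only [p3E_def, p3B]
  module

theorem p3_A5 (hm : 1 ≤ m) (h2 : (2 : F) = 0) :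
    p3opU (p3B 1 (p3i2 hm) : SM m F) = p3B 0 (p3i2 hm) + p3B 0 1 := by
  have key : p3opU (p3B 1 (p3i2 hm) : SM m F) = p3B 0 (p3i2 hm) + p3B 0 1 + (2 : F) • p3E 1 1 := by
    rw [p3B, map_add, p3opU_E, p3opU_E, p3_U_e1, p3_U_e2 hm]
    simp only [add_vecMulVec, vecMulVec_add]
    simp only [p3E_def, p3B]
    module
  rw [key, h2, zero_smul, add_zero]

theorem p3_A6 (δ : Fin (m + 2) → F) :
    p3opL δ (p3E 0 0 : SM m F) = δ 0 • p3B 0 1 + (δ 0 ^ 2) • p3E 1 1 := by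
  rw [p3opL_E, p3_L_e0]
  simp only [add_vecMulVec, vecMulVec_add, smul_vecMulVec, vecMulVec_smul]
  simp only [p3E_def, p3B]
  module

theorem p3_A7 (hm : 1 ≤ m) (δ : Fin (m + 2) → F) (h2 : (2 : F) = 0) :
    p3opL δ (p3B 0 1 : SM m F) = δ 1 • p3B 0 (p3i2 hm) + (δ 0 * δ 1) • p3B 1 (p3i2 hm) := by
  have key : p3opL δ (p3B 0 1 : SM m F) =
      δ 1 • p3B 0 (p3i2 hm) + (δ 0 * δ 1) • p3B 1 (p3i2 hm) + (2 : F) • (δ 0 • p3E 1 1) := by
    rw [p3B, map_add, p3opL_E, p3opL_E, p3_L_e0, p3_L_e1 hm]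
    simp only [add_vecMulVec, vecMulVec_add, smul_vecMulVec, vecMulVec_smul]
    simp only [p3E_def, p3B]
    module
  rw [key, h2, zero_smul, add_zero]

end atoms

/-! ### symmetric with last row zero -/

/-- the side condition of `hL` -/
def p3Low (S : SM m F) : Prop := Sᵀ = S ∧ ∀ j, S (Fin.last (m + 1)) j = 0

theorem p3Low_add {S T : SM m F} (hS : p3Low S) (hT : p3Low T) : p3Low (S + T) := by
  refine ⟨by rw [transpose_add, hS.1, hT.1], fun j => ?_⟩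
  rw [Matrix.add_apply, hS.2, hT.2, add_zero]

theorem p3Low_smul (c : F) {S : SM m F} (hS : p3Low S) : p3Low (c • S) := by
  refine ⟨by rw [transpose_smul, hS.1], fun j => ?_⟩
  rw [Matrix.smul_apply, hS.2, smul_zero]

theorem p3E_apply (a b i j : Fin (m + 2)) :
    (p3E a b : SM m F) i j = (if i = a then 1 else 0) * (if j = b then 1 else 0) := by
  simp only [p3E, p3e, vecMulVec_apply, Pi.single_apply]

theorem p3E_transpose (a b : Fin (m + 2)) : (p3E a b : SM m F)ᵀ = p3E b a := by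
  rw [p3E, transpose_vecMulVec]; rfl

theorem p3Low_E00 (hm : 1 ≤ m) : p3Low (p3E 0 0 : SM m F) := by
  refine ⟨p3E_transpose 0 0, fun j => ?_⟩
  rw [p3E_apply]
  have : ¬ (Fin.last (m + 1) = (0 : Fin (m + 2))) := by
    rw [Fin.ext_iff]; simp
  simp [this]

theorem p3Low_B01 (hm : 1 ≤ m) : p3Low (p3B 0 1 : SM m F) := by
  refine ⟨?_, fun j => ?_⟩
  · rw [p3B, transpose_add, p3E_transpose, p3E_transpose]
    exact add_comm _ _
  · rw [p3B, Matrix.add_apply, p3E_apply, p3E_apply]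
    have h0 : ¬ (Fin.last (m + 1) = (0 : Fin (m + 2))) := by
      rw [Fin.ext_iff]; simp
    have h1 : ¬ (Fin.last (m + 1) = (1 : Fin (m + 2))) := by
      rw [Fin.ext_iff]; simp; omega
    simp [h0, h1]

/-! ### the leaf -/

/-- **LEAF P3**: the base of the induction, characteristic `2`, `n ≥ 3`. -/
theorem sym_base_even {m : ℕ} (hm : 1 ≤ m) {F : Type*} [Field F] (X : AddSubgroup (SM m F))
    (δ : Fin (m + 2) → F) (hδ : ∀ j, δ j ≠ 0)
    (hU : ∀ S ∈ X, Uup m F * S * (Uup m F)ᵀ ∈ X)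
    (hL : ∀ S ∈ X, Sᵀ = S → (∀ j, S (Fin.last (m + 1)) j = 0) → Lbi m δ * S * (Lbi m δ)ᵀ ∈ X)
    (h2 : (2 : F) = 0) (l : F) (hl0 : l ≠ 0) (hl : l • E00 m F ∈ X)
    (hgenM : ∀ x : F, x ≠ 0 → ∃ k : ℕ, x = (δ 0 * δ 1) ^ k)
    (hgenL : ∀ x : F, x ≠ 0 → ∃ k : ℕ, x = (δ 0 ^ 2) ^ k) :
    SymLE m 1 ⊆ (X : Set (SM m F)) := by
  have hE00 : E00 m F = p3E 0 0 := by
    rw [E00, p3E, p3e, single_eq_single_vecMulVec_single]
  rw [hE00] at hl
  -- the two operators preserve `X`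
  have opU : ∀ S ∈ X, p3opU S ∈ X := by
    intro S hS
    rw [p3opU_apply, ← Matrix.mul_assoc]
    exact X.sub_mem (hU S hS) hS
  have opL : ∀ S ∈ X, p3Low S → p3opL δ S ∈ X := by
    intro S hS hlow
    rw [p3opL_apply, ← Matrix.mul_assoc]
    exact X.sub_mem (hL S hS hlow.1 hlow.2) hS
  have hd0 : δ 0 ≠ 0 := hδ 0
  have hd1 : δ 1 ≠ 0 := hδ 1
  -- (F2) `M` is closed under multiplication by `δ₀ δ₁`
  have F2 : ∀ μ : F, μ • (p3B 0 1 : SM m F) ∈ X → (μ * (δ 0 * δ 1)) • (p3B 0 1 : SM m F) ∈ X := by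
    intro μ hμ
    have h1 := opL _ hμ (p3Low_smul μ (p3Low_B01 hm))
    have h2' := opU _ (opU _ h1)
    have e : p3opU (p3opU (p3opL δ (μ • (p3B 0 1 : SM m F)))) = (μ * (δ 0 * δ 1)) • (p3B 0 1 : SM m F) := by
      simp only [map_smul, map_add, p3_A7 hm δ h2, p3_A4 hm, p3_A5 hm h2, p3_A2 h2]
      module
    rwa [e] at h2'
  -- (F3) `y₃`
  have F3 : ∀ lam : F, lam • (p3E 0 0 : SM m F) ∈ X →
      (lam * δ 0 ^ 2) • ((p3B 0 1 : SM m F) + p3E 0 0) ∈ X := by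
    intro lam hlam
    have h1 := opU _ (opL _ hlam (p3Low_smul lam (p3Low_E00 hm)))
    have e : p3opU (p3opL δ (lam • (p3E 0 0 : SM m F))) =
        (lam * δ 0 ^ 2) • ((p3B 0 1 : SM m F) + p3E 0 0) := by
      simp only [map_smul, map_add, p3_A6 δ, p3_A2 h2, p3_A3]
      module
    rwa [e] at h1
  -- (F4) `y₁`
  have F4 : ∀ lam : F, lam • (p3E 0 0 : SM m F) ∈ X →
      (lam * δ 0) • (p3B 0 1 : SM m F) + (lam * δ 0 ^ 2) • (p3E 1 1 : SM m F) ∈ X := by
    intro lam hlam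
    have h1 := opL _ hlam (p3Low_smul lam (p3Low_E00 hm))
    have e : p3opL δ (lam • (p3E 0 0 : SM m F)) =
        (lam * δ 0) • (p3B 0 1 : SM m F) + (lam * δ 0 ^ 2) • (p3E 1 1 : SM m F) := by
      simp only [map_smul, p3_A6 δ]
      module
    rwa [e] at h1
  -- (F1) from `λ E₀₀` to a multiple of `B₀₁`
  have F1 : ∀ lam : F, lam • (p3E 0 0 : SM m F) ∈ X →
      (lam * (δ 0 ^ 3 * δ 1)) • (p3B 0 1 : SM m F) ∈ X := by
    intro lam hlam
    have h3 := F3 lam hlam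
    have hlow : p3Low ((lam * δ 0 ^ 2) • ((p3B 0 1 : SM m F) + p3E 0 0)) :=
      p3Low_smul _ (p3Low_add (p3Low_B01 hm) (p3Low_E00 hm))
    have h4 := opU _ (opU _ (opL _ h3 hlow))
    have e : p3opU (p3opU (p3opL δ ((lam * δ 0 ^ 2) • ((p3B 0 1 : SM m F) + p3E 0 0)))) =
        (lam * (δ 0 ^ 3 * δ 1)) • (p3B 0 1 : SM m F) := by
      simp only [map_smul, map_add, p3_A7 hm δ h2, p3_A6 δ, p3_A4 hm, p3_A5 hm h2, p3_A2 h2, p3_A3,
        p3_A1, smul_zero, add_zero, zero_add]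
      module
    rwa [e] at h4
  -- `M = F`
  have hM : ∀ μ : F, μ • (p3B 0 1 : SM m F) ∈ X := by
    have hpow : ∀ k : ℕ, ((l * (δ 0 ^ 3 * δ 1)) * (δ 0 * δ 1) ^ k) • (p3B 0 1 : SM m F) ∈ X := by
      intro k
      induction k with
      | zero => rw [pow_zero, mul_one]; exact F1 l hl
      | succ k ih =>
        have := F2 _ ih
        rwa [mul_assoc, ← pow_succ] at this
    intro μ
    by_cases hμ : μ = 0
    · rw [hμ, zero_smul]; exact X.zero_mem
    · have hμ0 : l * (δ 0 ^ 3 * δ 1) ≠ 0 := mul_ne_zero hl0 (mul_ne_zero (pow_ne_zero _ hd0) hd1)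
      obtain ⟨k, hk⟩ := hgenM (μ / (l * (δ 0 ^ 3 * δ 1))) (div_ne_zero hμ hμ0)
      have := hpow k
      rwa [← hk, mul_div_cancel₀ μ hμ0] at this
  -- `Λ = F`
  have hΛstep : ∀ lam : F, lam • (p3E 0 0 : SM m F) ∈ X → (lam * δ 0 ^ 2) • (p3E 0 0 : SM m F) ∈ X := by
    intro lam hlam
    have h3 := F3 lam hlam
    have h5 := X.sub_mem h3 (hM (lam * δ 0 ^ 2))
    have e : (lam * δ 0 ^ 2) • ((p3B 0 1 : SM m F) + p3E 0 0) - (lam * δ 0 ^ 2) • (p3B 0 1 : SM m F) =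
        (lam * δ 0 ^ 2) • (p3E 0 0 : SM m F) := by module
    rwa [e] at h5
  have hΛ : ∀ lam : F, lam • (p3E 0 0 : SM m F) ∈ X := by
    have hpow : ∀ k : ℕ, (l * (δ 0 ^ 2) ^ k) • (p3E 0 0 : SM m F) ∈ X := by
      intro k
      induction k with
      | zero => rw [pow_zero, mul_one]; exact hl
      | succ k ih =>
        have := hΛstep _ ih
        rwa [mul_assoc, ← pow_succ] at this
    intro lam
    by_cases hlam : lam = 0
    · rw [hlam, zero_smul]; exact X.zero_mem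
    · obtain ⟨k, hk⟩ := hgenL (lam / l) (div_ne_zero hlam hl0)
      have := hpow k
      rwa [← hk, mul_div_cancel₀ lam hl0] at this
  -- `F E₁₁ ⊆ X`
  have hE11 : ∀ c : F, c • (p3E 1 1 : SM m F) ∈ X := by
    intro c
    have h4 := F4 (c / δ 0 ^ 2) (hΛ _)
    have h5 := X.sub_mem h4 (hM (c / δ 0 ^ 2 * δ 0))
    have e : (c / δ 0 ^ 2 * δ 0) • (p3B 0 1 : SM m F) + (c / δ 0 ^ 2 * δ 0 ^ 2) • (p3E 1 1 : SM m F) -
        (c / δ 0 ^ 2 * δ 0) • (p3B 0 1 : SM m F) = c • (p3E 1 1 : SM m F) := by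
      rw [div_mul_cancel₀ c (pow_ne_zero 2 hd0)]
      module
    rwa [e] at h5
  -- conclusion
  intro S hS
  obtain ⟨hsym, hsupp⟩ := hS
  have hdec : S = S 0 0 • (p3E 0 0 : SM m F) + S 0 1 • (p3B 0 1 : SM m F) + S 1 1 • (p3E 1 1 : SM m F) := by
    ext i j
    simp only [Matrix.add_apply, Matrix.smul_apply, p3B, p3E_apply, smul_eq_mul]
    have v0 : ((0 : Fin (m + 2)) : ℕ) = 0 := rfl
    have v1 : ((1 : Fin (m + 2)) : ℕ) = 1 := by simp
    by_cases hi : 1 < i.val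
    · rw [hsupp i j (Or.inl hi)]
      have hi0 : ¬ (i = 0) := by rw [Fin.ext_iff, v0]; omega
      have hi1 : ¬ (i = 1) := by rw [Fin.ext_iff, v1]; omega
      simp [hi0, hi1]
    · by_cases hj : 1 < j.val
      · rw [hsupp i j (Or.inr hj)]
        have hj0 : ¬ (j = 0) := by rw [Fin.ext_iff, v0]; omega
        have hj1 : ¬ (j = 1) := by rw [Fin.ext_iff, v1]; omega
        simp [hj0, hj1]
      · have h10 : S 1 0 = S 0 1 := by
          have := congrFun (congrFun hsym 0) 1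
          simpa [Matrix.transpose_apply] using this
        have h01ne : ¬ ((0 : Fin (m + 2)) = 1) := by rw [Fin.ext_iff, v0, v1]; omega
        have h10ne : ¬ ((1 : Fin (m + 2)) = 0) := by rw [Fin.ext_iff, v0, v1]; omega
        have hi' : i = 0 ∨ i = 1 := by
          rcases Nat.lt_or_ge i.val 1 with h | h
          · left; rw [Fin.ext_iff, v0]; omega
          · right; rw [Fin.ext_iff, v1]; omega
        have hj' : j = 0 ∨ j = 1 := by
          rcases Nat.lt_or_ge j.val 1 with h | h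
          · left; rw [Fin.ext_iff, v0]; omega
          · right; rw [Fin.ext_iff, v1]; omega
        rcases hi' with rfl | rfl <;> rcases hj' with rfl | rfl <;> simp [h01ne, h10ne, h10]
  show S ∈ X
  rw [hdec]
  exact X.add_mem (X.add_mem (hΛ _) (hM _)) (hE11 _)

end Cfsg.Agent.Lib.Helper54.RSp
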