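import Mathlib
import Cfsg.Agent.Lib.Helper89.GL2Essential

/-!
# K-S5289-A: a torus element of `SL₂(p)` normalizing but not centralizing a given `p`-element

(keystone for S5289, architect helper89)
-/

set_option autoImplicit false

namespace Cfsg.Agent.Lib.Helper54

open Matrix Cfsg.Agent.Lib.Helper89 Cfsg.Agent.Lib.Helper07

open scoped Pointwise

section mat

variable {F : Type*} [Field F]

/-- the diagonal matrix `diag(2, 1/2)`. -/
def dgT : Matrix (Fin 2) (Fin 2) F := !![2, 0; 0, 2⁻¹]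

lemma dgT_det (h2 : (2 : F) ≠ 0) : (dgT : Matrix (Fin 2) (Fin 2) F).det = 1 := by
  simp [dgT, det_fin_two, h2]

lemma dgT_mul_upT (h2 : (2 : F) ≠ 0) (b : F) :
    (dgT : Matrix (Fin 2) (Fin 2) F) * upT b = upT (4 * b) * dgT := by
  ext i j; fin_cases i <;> fin_cases j <;>
    simp [dgT, upT, Matrix.mul_apply, Fin.sum_univ_two]
  field_simp
  ring

end mat

section gl

variable {F : Type*} [Field F]

/-- `diag(2, 1/2)` as an element of `GL₂`. -/
noncomputable def dgGL (h2 : (2 : F) ≠ 0) : GL (Fin 2) F :=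
  GeneralLinearGroup.mkOfDetNeZero dgT (by rw [dgT_det h2]; exact one_ne_zero)

lemma dgGL_val (h2 : (2 : F) ≠ 0) : (dgGL h2).val = (dgT : Matrix (Fin 2) (Fin 2) F) := rfl

lemma dgGL_det (h2 : (2 : F) ≠ 0) : Matrix.GeneralLinearGroup.det (dgGL h2) = 1 := by
  apply Units.ext
  show (dgT : Matrix (Fin 2) (Fin 2) F).det = 1
  exact dgT_det h2

lemma dgGL_mul_upGL (h2 : (2 : F) ≠ 0) (b : F) :
    dgGL h2 * upGL b = upGL (4 * b) * dgGL h2 := by
  apply Units.ext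
  show (dgT : Matrix (Fin 2) (Fin 2) F) * upT b = upT (4 * b) * dgT
  exact dgT_mul_upT h2 b

lemma upGL_pow (b : F) (k : ℕ) : upGL b ^ k = upGL ((k : F) * b) := by
  have h : upGLHom (F := F) (Multiplicative.ofAdd b) = upGL b := rfl
  rw [← h, ← map_pow]
  show upGL (Multiplicative.toAdd ((Multiplicative.ofAdd b) ^ k)) = _
  congr 1
  simp [toAdd_pow, nsmul_eq_mul]

end gl

/-- In `GL₂(p)`, `p ≥ 5`, for every `p`-element `a ≠ 1` there is `h` of determinant one with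
`h a h⁻¹ = a ^ 4`. -/
theorem exists_det_one_conj_pow_four (p : ℕ) [Fact p.Prime] (hp5 : 5 ≤ p)
    (a : GL (Fin 2) (ZMod p)) (hap : a ^ p = 1) :
    ∃ h : GL (Fin 2) (ZMod p), Matrix.GeneralLinearGroup.det h = 1 ∧ h * a * h⁻¹ = a ^ 4 := by
  have hp : p.Prime := Fact.out
  have h2 : (2 : ZMod p) ≠ 0 := by
    intro h
    have : ((2 : ℕ) : ZMod p) = 0 := by exact_mod_cast h
    rw [ZMod.natCast_eq_zero_iff] at this
    have := Nat.le_of_dvd (by norm_num) this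
    omega
  -- `zpowers a` is a `p`-group, inside a Sylow subgroup, conjugate to `UGL`
  have hpg : IsPGroup p (Subgroup.zpowers a) := by
    intro g
    obtain ⟨k, hk⟩ := Subgroup.mem_zpowers_iff.mp g.2
    refine ⟨1, Subtype.ext ?_⟩
    simp only [pow_one, Subgroup.coe_pow, Subgroup.coe_one]
    rw [← hk, ← zpow_natCast, ← _root_.zpow_mul, mul_comm, _root_.zpow_mul, zpow_natCast, hap, _root_.one_zpow]
  obtain ⟨R, hR⟩ := hpg.exists_le_sylow
  obtain ⟨g, hg⟩ := MulAction.exists_smul_eq (GL (Fin 2) (ZMod p)) (sylUGL (F := ZMod p) p) R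
  have haR : a ∈ (R : Subgroup (GL (Fin 2) (ZMod p))) := hR (Subgroup.mem_zpowers a)
  rw [← hg] at haR
  have haR' : a ∈ (MulAut.conj g • ((sylUGL (F := ZMod p) p : Sylow p (GL (Fin 2) (ZMod p))) :
      Subgroup (GL (Fin 2) (ZMod p)))) := haR
  rw [Subgroup.mem_pointwise_smul_iff_inv_smul_mem] at haR'
  obtain ⟨u, hu, hua⟩ : ∃ u, u ∈ ((sylUGL (F := ZMod p) p : Sylow p (GL (Fin 2) (ZMod p))) :
      Subgroup (GL (Fin 2) (ZMod p))) ∧ g * u * g⁻¹ = a := by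
    refine ⟨_, haR', ?_⟩
    simp [MulAut.smul_def, MulAut.conj_apply, mul_assoc]
  rw [sylUGL_coe] at hu
  obtain ⟨b, rfl⟩ := mem_UGL.mp hu
  have hua' : a = g * upGL b * g⁻¹ := hua.symm
  refine ⟨g * dgGL h2 * g⁻¹, ?_, ?_⟩
  · rw [map_mul, map_mul, map_inv, dgGL_det]
    simp
  · rw [hua']
    have e1 : g * dgGL h2 * g⁻¹ * (g * upGL b * g⁻¹) * (g * dgGL h2 * g⁻¹)⁻¹ =
        g * (dgGL h2 * upGL b * (dgGL h2)⁻¹) * g⁻¹ := by group
    rw [e1, dgGL_mul_upGL h2 b, mul_inv_cancel_right]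
    have e2 : (g * upGL b * g⁻¹) ^ 4 = g * upGL b ^ 4 * g⁻¹ := by
      rw [conj_pow]
    rw [e2, upGL_pow]
    norm_num

/-- K-S5289-A. -/
theorem exists_normalizing_not_centralizing {X V : Type*} [Group X] [Group V] [Finite V]
    {p : ℕ} [Fact p.Prime] (hp5 : 5 ≤ p)
    (hcomm : ∀ a b : V, a * b = b * a) (hexp : ∀ a : V, a ^ p = 1) (hcard : Nat.card V = p ^ 2)
    (ρ : X →* MulAut V) (τ σ : X) (hτ1 : ρ τ ≠ 1) (hτp : ρ τ ^ p = 1) (hσp : ρ σ ^ p = 1)
    (hne : ρ σ ∉ Subgroup.zpowers (ρ τ)) :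
    ∃ φ : X, φ ∈ Subgroup.closure {g : X | ρ g ^ p = 1} ∧
      ρ φ * ρ τ * (ρ φ)⁻¹ ∈ Subgroup.zpowers (ρ τ) ∧ ρ φ * ρ τ * (ρ φ)⁻¹ ≠ ρ τ := by
  have hp : p.Prime := Fact.out
  obtain ⟨e⟩ := exists_mulAut_equiv_GL (p := p) (r := 2) hcomm hexp hcard
  set Y : Subgroup X := Subgroup.closure {g : X | ρ g ^ p = 1} with hY
  set a : GL (Fin 2) (ZMod p) := e (ρ τ) with ha
  set s : GL (Fin 2) (ZMod p) := e (ρ σ) with hs
  have hap : a ^ p = 1 := by rw [ha, ← map_pow, hτp, map_one]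
  have hsp : s ^ p = 1 := by rw [hs, ← map_pow, hσp, map_one]
  have ha1 : a ≠ 1 := by
    intro h
    apply hτ1
    apply e.injective
    rw [map_one]; exact h
  have hs_notin : s ∉ Subgroup.zpowers a := by
    intro h
    obtain ⟨k, hk⟩ := Subgroup.mem_zpowers_iff.mp h
    apply hne
    rw [Subgroup.mem_zpowers_iff]
    refine ⟨k, e.injective ?_⟩
    rw [map_zpow]; exact hk
  set G' : Subgroup (GL (Fin 2) (ZMod p)) := (Y.map ρ).map e.toMonoidHom with hG'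
  have hmemG' : ∀ x : X, x ∈ Y → e (ρ x) ∈ G' := by
    intro x hx
    exact ⟨ρ x, ⟨x, hx, rfl⟩, rfl⟩
  have hτY : τ ∈ Y := Subgroup.subset_closure hτp
  have hσY : σ ∈ Y := Subgroup.subset_closure hσp
  have hpg : ∀ c : GL (Fin 2) (ZMod p), c ^ p = 1 → IsPGroup p (Subgroup.zpowers c) := by
    intro c hc g
    obtain ⟨k, hk⟩ := Subgroup.mem_zpowers_iff.mp g.2
    refine ⟨1, Subtype.ext ?_⟩
    simp only [pow_one, Subgroup.coe_pow, Subgroup.coe_one]
    rw [← hk, ← zpow_natCast, ← _root_.zpow_mul, mul_comm, _root_.zpow_mul, zpow_natCast, hc, _root_.one_zpow]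
  have hle := toGL_range_le_of_two_pSubgroups p G' (Subgroup.zpowers a) (Subgroup.zpowers s)
    (by rw [Subgroup.zpowers_le]; exact hmemG' τ hτY)
    (by rw [Subgroup.zpowers_le]; exact hmemG' σ hσY)
    (hpg a hap) (hpg s hsp)
    (by rw [Ne, Subgroup.zpowers_eq_bot]; exact ha1)
    (by
      rw [Ne, Subgroup.zpowers_eq_bot]
      intro h
      apply hs_notin
      rw [h]; exact one_mem _)
    (by
      intro h
      apply hs_notin
      rw [h]; exact Subgroup.mem_zpowers s)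
  obtain ⟨h, hdet, hconj⟩ := exists_det_one_conj_pow_four p hp5 a hap
  have hhG' : h ∈ G' := hle ((mem_range_toGL_iff h).mpr hdet)
  obtain ⟨m, ⟨φ, hφY, rfl⟩, hφh⟩ := hhG'
  have hφh' : e (ρ φ) = h := hφh
  refine ⟨φ, hφY, ?_⟩
  have key : ρ φ * ρ τ * (ρ φ)⁻¹ = ρ τ ^ 4 := by
    apply e.injective
    rw [map_mul, map_mul, map_inv, map_pow, hφh']
    exact hconj
  rw [key]
  refine ⟨Subgroup.pow_mem _ (Subgroup.mem_zpowers _) 4, ?_⟩
  intro h4
  apply hτ1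
  -- (ρ τ)^3 = 1 and (ρ τ)^p = 1 with gcd(3,p) = 1
  have h3 : ρ τ ^ 3 = 1 := by
    have : ρ τ ^ 4 = ρ τ ^ 3 * ρ τ := by rw [← pow_succ]
    rw [this] at h4
    exact mul_eq_right.mp h4
  have hd1 : orderOf (ρ τ) ∣ 3 := orderOf_dvd_of_pow_eq_one h3
  have hd2 : orderOf (ρ τ) ∣ p := orderOf_dvd_of_pow_eq_one hτp
  have hcop : Nat.Coprime 3 p := by
    rw [Nat.coprime_comm]
    apply (Nat.Prime.coprime_iff_not_dvd hp).mpr
    intro h
    have := Nat.le_of_dvd (by norm_num) h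
    omega
  have := Nat.dvd_gcd hd1 hd2
  rw [hcop.gcd_eq_one, Nat.dvd_one] at this
  exact orderOf_eq_one_iff.mp this

end Cfsg.Agent.Lib.Helper54
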