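import Mathlib
import Cfsg.Prelude.Def_FusionSystem
import Cfsg.Agent.Lib.Helper87.FusionSaturated
import Cfsg.Agent.Lib.Helper87.FusionAut
import Cfsg.Agent.Lib.Helper89.Alperin
import Cfsg.Agent.Lib.Helper89.FusionAut
import Cfsg.Agent.Lib.Helper88.FusionOP4
import Cfsg.Agent.Lib.Helper91.FusionCentricExt
import Cfsg.Agent.Lib.Helper54.Conj

/-!
# Small abelian subgroups control fusion: the main lemma

`E ≤ F` saturated fusion systems on `S`, `Q` an `F`-centric subgroup such that all `F`-maps with a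
larger source are `E`-maps.  If `A ⊴ Q` is fully `F`-normalized, every `F`-map out of `A` is an
`E`-map and every `F`-automorphism of `Q` fixing `A` pointwise is induced by `S`, then every
`F`-automorphism of `Q` is an `E`-map.
-/

set_option autoImplicit false

namespace Cfsg.Agent.Lib.Helper54.SmallAb

open Cfsg Cfsg.FusionSystem
open Cfsg.Agent.Lib.Helper87 (finite_of_le restrict_mem hom_congr comp_mem' inv_mem' hom_le hom_mem
  mem_normalizerIn mem_centralizerIn mem_normalizer_of_conj_mem)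
open Cfsg.Agent.Lib.Helper89 (AlpIH)

variable {Ω : Type*} [Group Ω] {S : Subgroup Ω}

/-- in a finite `p`-group a subgroup `C` normalized by `Q'` and not contained in it contains an
element normalizing `Q'` outside `Q'` -/
lemma exists_mem_normalizer_not_mem [Finite S] {p : ℕ} [Fact p.Prime] (hS : IsPGroup p S)
    {Q' C : Subgroup Ω} (hQ'S : Q' ≤ S) (hCS : C ≤ S)
    (hn : Q' ≤ Subgroup.normalizer (C : Set Ω)) (hC : ¬ C ≤ Q') :
    ∃ s ∈ C, s ∈ Subgroup.normalizer (Q' : Set Ω) ∧ s ∉ Q' := by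
  have hMS : C ⊔ Q' ≤ S := sup_le hCS hQ'S
  haveI : Finite (C ⊔ Q' : Subgroup Ω) := finite_of_le hMS
  have hM : IsPGroup p (C ⊔ Q' : Subgroup Ω) := hS.to_le hMS
  have hne : Q' ≠ C ⊔ Q' := by
    intro h
    apply hC
    rw [h]
    exact le_sup_left
  obtain ⟨g, hgN, hgQ⟩ := Cfsg.Agent.Lib.Helper89.exists_mem_normalizerIn_not_mem hM le_sup_right hne
  obtain ⟨hgM, hgn⟩ := hgN
  obtain ⟨c, hc, q, hq, rfl⟩ := Cfsg.Agent.Lib.Helper54.exists_mul_of_mem_sup_of_le_normalizer hn hgM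
  refine ⟨c, hc, ?_, ?_⟩
  · have hqn : q ∈ Subgroup.normalizer (Q' : Set Ω) := Subgroup.le_normalizer hq
    have := (Subgroup.normalizer (Q' : Set Ω)).mul_mem hgn
      ((Subgroup.normalizer (Q' : Set Ω)).inv_mem hqn)
    simpa using this
  · intro hcQ
    exact hgQ (Q'.mul_mem hcQ hq)

/-- **Main lemma.** -/
theorem hom_mem_of_small [Finite S] (p : ℕ) [Fact p.Prime] (hS : IsPGroup p S)
    (E F : FusionSystem S) (hE : E.IsSaturated p) (hF : F.IsSaturated p)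
    (hEF : E.IsSubsystemOf F)
    {Q : Subgroup Ω} (hQc : F.IsCentric Q) (hIH : AlpIH F E Q)
    {A : Subgroup Ω} (hAQ : A ≤ Q) (hAn : Q ≤ Subgroup.normalizer (A : Set Ω))
    (hAfn : F.IsFullyNormalized A)
    (hAE : ∀ φ ∈ F.Hom A, φ ∈ E.Hom A)
    (hC : ∀ α ∈ F.autGroup Q, (∀ x : Q, (x : Ω) ∈ A → α x = x) → α ∈ autInducedBy S Q)
    {φ : Q →* Ω} (hφ : φ ∈ F.Hom Q) (hφr : φ.range = Q) : φ ∈ E.Hom Q := by
  have hQS : Q ≤ S := hQc.1
  have hAS : A ≤ S := hAQ.trans hQS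
  have : Finite Q := finite_of_le hQS
  have : Finite A := finite_of_le hAS
  have hφQ : ∀ x : Q, φ x ∈ Q := by
    intro x
    have h1 : φ x ∈ φ.range := ⟨x, rfl⟩
    rwa [hφr] at h1
  have hAconj : ∀ (x : Q) (a : Ω), a ∈ A → (x : Ω) * a * (x : Ω)⁻¹ ∈ A := fun x a ha =>
    (Subgroup.mem_normalizer_iff.mp (hAn x.2) a).mp ha
  -- the image `B` of `A`
  set φA : A →* Ω := φ.comp (Subgroup.inclusion hAQ) with hφA
  have hφAF : φA ∈ F.Hom A := restrict_mem F hAQ hφ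
  have hφAE : φA ∈ E.Hom A := hAE _ hφAF
  set B : Subgroup Ω := φA.range with hB
  have hBQ : B ≤ Q := by
    rintro _ ⟨a, rfl⟩
    exact hφQ _
  have : Finite B := finite_of_le (hBQ.trans hQS)
  have hEconj : E.IsConj B A := Cfsg.Agent.Lib.Helper87.isConj_symm E ⟨φA, hφAE, rfl⟩
  -- `A` is fully normalized in `E`
  have hAEfn : E.IsFullyNormalized A :=
    ⟨hAS, fun X hX => hAfn.2 X (by obtain ⟨χ, hχ, hχr⟩ := hX; exact ⟨χ, hEF _ hχ, hχr⟩)⟩
  obtain ⟨hEfc, hEfa⟩ := Cfsg.Agent.Lib.Helper87.fullyNormalized_props p hS E hE A hAEfn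
  have hErec := Cfsg.Agent.Lib.Helper87.isReceptive_of_isFullyCentralized p hS E hE A hEfc
  obtain ⟨ψ, hψE, hψN, hψmap, hψmem⟩ :=
    Cfsg.Agent.Lib.Helper87.exists_normalizer_hom p hS E A B hEfa hErec hEconj
  -- `Q` normalizes `B`
  have hQNB : Q ≤ normalizerIn S B := by
    intro q hq
    refine ⟨hQS hq, mem_normalizer_of_conj_mem ?_⟩
    rintro _ ⟨a, rfl⟩
    have hq' : q ∈ φ.range := by rw [hφr]; exact hq
    obtain ⟨q0, rfl⟩ := hq'
    refine ⟨⟨_, hAconj q0 a a.2⟩, ?_⟩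
    show φ (Subgroup.inclusion hAQ ⟨_, hAconj q0 a a.2⟩) = φ q0 * φ (Subgroup.inclusion hAQ a) * (φ q0)⁻¹
    rw [← map_inv, ← map_mul, ← map_mul]
    congr 1
  set ψQ : Q →* Ω := ψ.comp (Subgroup.inclusion hQNB) with hψQdef
  have hψQE : ψQ ∈ E.Hom Q := restrict_mem E hQNB hψE
  set θ : Q →* Ω := ψQ.comp (φ.codRestrict Q hφQ) with hθdef
  have hθF : θ ∈ F.Hom Q := F.comp_mem hφ (hEF _ hψQE) hφQ
  set Q' : Subgroup Ω := ψQ.range with hQ'
  have hθQ' : ∀ x : Q, θ x ∈ Q' := fun x => ⟨_, rfl⟩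
  -- reduction to `θ`
  suffices hθE : θ ∈ E.Hom Q by
    obtain ⟨ψ', hψ', hψ'x, -⟩ := inv_mem' E hψQE (rfl : ψQ.range = Q')
    refine comp_mem' E hθE hψ' hθQ' (fun x => ?_)
    exact (hψ'x ⟨φ x, hφQ x⟩ ⟨θ x, hθQ' x⟩ rfl).symm
  -- basic facts on `θ`
  have hθr : θ.range = Q' := by
    ext y
    constructor
    · rintro ⟨x, rfl⟩
      exact hθQ' x
    · rintro ⟨x, rfl⟩
      have hx : (x : Ω) ∈ φ.range := by rw [hφr]; exact x.2
      obtain ⟨x0, hx0⟩ := hx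
      refine ⟨x0, ?_⟩
      show ψQ ⟨φ x0, hφQ x0⟩ = ψQ x
      congr 1
      exact Subtype.ext hx0
  have hθA : ∀ a : Q, (a : Ω) ∈ A → θ a ∈ A := by
    intro a ha
    apply hψmem
    exact ⟨⟨a, ha⟩, rfl⟩
  have hθA' : ∀ y ∈ A, ∃ a : Q, (a : Ω) ∈ A ∧ θ a = y := by
    intro y hy
    rw [← hψmap] at hy
    obtain ⟨b, hb, rfl⟩ := hy
    have hb' : (b : Ω) ∈ B := hb
    obtain ⟨a0, ha0⟩ := hb'
    refine ⟨Subgroup.inclusion hAQ a0, a0.2, ?_⟩
    show ψ (Subgroup.inclusion hQNB ⟨φ (Subgroup.inclusion hAQ a0), hφQ _⟩) = ψ b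
    congr 1
    exact Subtype.ext ha0
  have hQ'S : Q' ≤ S := by
    rintro _ ⟨x, rfl⟩
    exact hom_mem E hψQE x
  have hθconj : ∀ (x a : Q), θ x * θ a * (θ x)⁻¹ = θ (x * a * x⁻¹) := by
    intro x a
    rw [map_mul, map_mul, map_inv]
  have hQ'n : Q' ≤ Subgroup.normalizer (A : Set Ω) := by
    intro y hy
    rw [← hθr] at hy
    obtain ⟨x, rfl⟩ := hy
    apply mem_normalizer_of_conj_mem
    intro a' ha'
    obtain ⟨a, ha, rfl⟩ := hθA' a' ha'
    rw [hθconj]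
    exact hθA _ (hAconj x a ha)
  have hconj : F.IsConj Q Q' := ⟨θ, hθF, hθr⟩
  have hQ'c : F.IsCentric Q' := Cfsg.Agent.Lib.Helper91.isCentric_of_isConj F hQc hconj
  have hCQ' : centralizerIn S Q' ≤ Q' := hQ'c.2 Q' (Cfsg.Agent.Lib.Helper87.isConj_refl F hQ'S)
  set eθ : Q ≃* Q' := Cfsg.Agent.Lib.Helper87.homEquiv F hθF hθr with heθ
  have heθF : Cfsg.Agent.Lib.Helper87.IsFIso F eθ := Cfsg.Agent.Lib.Helper87.isFIso_homEquiv F hθF hθr
  have heθx : ∀ x : Q, ((eθ x : Q') : Ω) = θ x := fun x => rfl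
  by_cases hCQ : centralizerIn S A ≤ Q'
  · -- Case (I): `C_S(A) ≤ Q'`
    set χ : A →* Ω := θ.comp (Subgroup.inclusion hAQ) with hχ
    have hχF : χ ∈ F.Hom A := restrict_mem F hAQ hθF
    have hχE : χ ∈ E.Hom A := hAE _ hχF
    have hχr : χ.range = A := by
      ext y
      constructor
      · rintro ⟨a, rfl⟩
        exact hθA _ a.2
      · intro hy
        obtain ⟨a, ha, rfl⟩ := hθA' y hy
        exact ⟨⟨a, ha⟩, rfl⟩
    obtain ⟨χ', hχ', hχ'x⟩ := hErec.2 A χ hχE hχr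
    have hQext : Q ≤ extender S A χ := by
      intro x hx
      rw [Cfsg.Agent.Lib.Helper87.mem_extender_iff]
      refine ⟨hQS hx, hAn hx, θ ⟨x, hx⟩, hom_mem F hθF _, fun a ha => ?_⟩
      show θ (Subgroup.inclusion hAQ ⟨x * a * x⁻¹, ha⟩) =
        θ ⟨x, hx⟩ * θ (Subgroup.inclusion hAQ a) * (θ ⟨x, hx⟩)⁻¹
      rw [← map_inv, ← map_mul, ← map_mul]
      congr 1
    set κ : Q →* Ω := χ'.comp (Subgroup.inclusion hQext) with hκ
    have hκE : κ ∈ E.Hom Q := restrict_mem E hQext hχ'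
    have hκA : ∀ a : Q, (a : Ω) ∈ A → κ a = θ a := by
      intro a ha
      exact hχ'x (a : Ω) ha (hQext a.2)
    have hκQ' : ∀ x : Q, κ x ∈ Q' := by
      intro x
      have hz : (κ x)⁻¹ * θ x ∈ centralizerIn S A := by
        rw [mem_centralizerIn]
        refine ⟨S.mul_mem (S.inv_mem (hom_mem E hκE x)) (hom_mem F hθF x), fun a ha => ?_⟩
        obtain ⟨a0, ha0, rfl⟩ := hθA' a ha
        have h1 : ((x * a0 * x⁻¹ : Q) : Ω) ∈ A := hAconj x a0 ha0
        have h2 := hκA (x * a0 * x⁻¹) h1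
        rw [map_mul, map_mul, map_inv, map_mul, map_mul, map_inv, hκA a0 ha0] at h2
        calc θ a0 * ((κ x)⁻¹ * θ x) = (κ x)⁻¹ * (κ x * θ a0 * (κ x)⁻¹) * θ x := by group
          _ = (κ x)⁻¹ * (θ x * θ a0 * (θ x)⁻¹) * θ x := by rw [h2]
          _ = (κ x)⁻¹ * θ x * θ a0 := by group
      have h3 := hCQ hz
      have h4 : κ x = θ x * ((κ x)⁻¹ * θ x)⁻¹ := by group
      rw [h4]
      exact Q'.mul_mem (hθQ' x) (Q'.inv_mem h3)
    have hκr : κ.range = Q' := by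
      have hle : κ.range ≤ Q' := by
        rintro _ ⟨x, rfl⟩
        exact hκQ' x
      have : Finite Q' := finite_of_le hQ'S
      apply Subgroup.eq_of_le_of_card_ge hle
      have h1 : Nat.card Q' = Nat.card Q := (Nat.card_congr eθ.toEquiv).symm
      have h2 : Nat.card κ.range = Nat.card Q :=
        (Nat.card_congr (Cfsg.Agent.Lib.Helper87.homEquiv E hκE rfl).toEquiv).symm
      rw [h1, h2]
    set eκ : Q ≃* Q' := Cfsg.Agent.Lib.Helper87.homEquiv E hκE hκr with heκ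
    have heκE : Cfsg.Agent.Lib.Helper87.IsFIso E eκ :=
      Cfsg.Agent.Lib.Helper87.isFIso_homEquiv E hκE hκr
    have heκF : Cfsg.Agent.Lib.Helper87.IsFIso F eκ := hEF _ heκE
    set α : MulAut Q := eθ.trans eκ.symm with hα
    have hαF : α ∈ F.autGroup Q :=
      (Cfsg.Agent.Lib.Helper87.isFIso_iff_mem_autGroup F hQS).mp
        (Cfsg.Agent.Lib.Helper87.IsFIso.trans F heθF (Cfsg.Agent.Lib.Helper87.IsFIso.symm F heκF))
    have hαfix : ∀ x : Q, (x : Ω) ∈ A → α x = x := by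
      intro x hx
      show eκ.symm (eθ x) = x
      rw [MulEquiv.symm_apply_eq]
      apply Subtype.ext
      show θ x = κ x
      exact (hκA x hx).symm
    have hαS := hC α hαF hαfix
    have hαE : Cfsg.Agent.Lib.Helper87.IsFIso E (α : Q ≃* Q) :=
      (Cfsg.Agent.Lib.Helper87.isFIso_iff_mem_autGroup E hQS).mpr
        (Cfsg.Agent.Lib.Helper87.autInducedBy_le_autGroup E hQS hαS)
    have h5 : Cfsg.Agent.Lib.Helper87.IsFIso E ((α : Q ≃* Q).trans eκ) :=
      Cfsg.Agent.Lib.Helper87.IsFIso.trans E hαE heκE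
    refine hom_congr E h5 (fun x => ?_)
    show θ x = ((eκ (eκ.symm (eθ x)) : Q') : Ω)
    rw [MulEquiv.apply_symm_apply]
    rfl
  · -- Case (II): some element of `C_S(A)` normalizes `Q'` without lying in it
    have hCS : centralizerIn S A ≤ S := Cfsg.Agent.Lib.Helper87.centralizerIn_le S A
    have hQ'nC : Q' ≤ Subgroup.normalizer ((centralizerIn S A : Subgroup Ω) : Set Ω) := by
      intro y hy
      have : Finite (centralizerIn S A) := finite_of_le hCS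
      apply mem_normalizer_of_conj_mem
      intro c hc
      rw [mem_centralizerIn] at hc ⊢
      refine ⟨S.mul_mem (S.mul_mem (hQ'S hy) hc.1) (S.inv_mem (hQ'S hy)), fun a ha => ?_⟩
      have hy' : y⁻¹ ∈ Subgroup.normalizer (A : Set Ω) := Subgroup.inv_mem _ (hQ'n hy)
      have h1 : y⁻¹ * a * y⁻¹⁻¹ ∈ A := (Subgroup.mem_normalizer_iff.mp hy' a).mp ha
      have h2 := hc.2 _ h1
      calc a * (y * c * y⁻¹) = y * ((y⁻¹ * a * y⁻¹⁻¹) * c) * y⁻¹ := by group
        _ = y * (c * (y⁻¹ * a * y⁻¹⁻¹)) * y⁻¹ := by rw [h2]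
        _ = y * c * y⁻¹ * a := by group
    obtain ⟨s, hsC, hsN, hsQ'⟩ := exists_mem_normalizer_not_mem hS hQ'S hCS hQ'nC hCQ
    have hsS : s ∈ S := hCS hsC
    have hsA : ∀ a ∈ A, a * s = s * a := (mem_centralizerIn.mp hsC).2
    set cs : MulAut Q' := Cfsg.Agent.Lib.Helper87.conjAut Q' s hsN with hcs
    have hcsF : cs ∈ F.autGroup Q' := Cfsg.Agent.Lib.Helper87.autInducedBy_le_autGroup F hQ'S
      (Cfsg.Agent.Lib.Helper87.conjAut_mem_autInducedBy hsS hsN)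
    set α : MulAut Q := MulAut.congr eθ.symm cs with hα
    have hαF : α ∈ F.autGroup Q :=
      (Cfsg.Agent.Lib.Helper87.congr_mem_autGroup_iff F
        (Cfsg.Agent.Lib.Helper87.IsFIso.symm F heθF) cs).mpr hcsF
    have hαx : ∀ x : Q, eθ (α x) = cs (eθ x) := by
      intro x
      simp [hα, MulAut.congr]
    have hkey : ∀ x : Q, θ (α x) = s * θ x * s⁻¹ := by
      intro x
      have h1 := congrArg Subtype.val (hαx x)
      rwa [Cfsg.Agent.Lib.Helper87.conjAut_apply] at h1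
    have hαfix : ∀ x : Q, (x : Ω) ∈ A → α x = x := by
      intro x hx
      apply F.injective_of_mem hθF
      rw [hkey]
      have h1 := hsA _ (hθA x hx)
      calc s * θ x * s⁻¹ = (θ x * s) * s⁻¹ := by rw [h1]
        _ = θ x := by group
    have hαS := hC α hαF hαfix
    obtain ⟨g, hgS, hgx⟩ := Cfsg.Agent.Lib.Helper87.mem_autInducedBy_iff.mp hαS
    have hgN : g ∈ Subgroup.normalizer (Q : Set Ω) := by
      apply mem_normalizer_of_conj_mem
      intro y hy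
      have h1 := hgx ⟨y, hy⟩
      rw [← h1]
      exact (α ⟨y, hy⟩).2
    have hgQ : g ∉ Q := by
      intro hgQ
      apply hsQ'
      have hz : (θ ⟨g, hgQ⟩)⁻¹ * s ∈ centralizerIn S Q' := by
        rw [mem_centralizerIn]
        refine ⟨S.mul_mem (S.inv_mem (hQ'S (hθQ' _))) hsS, ?_⟩
        intro y hy
        rw [← hθr] at hy
        obtain ⟨x, rfl⟩ := hy
        have h1 := hkey x
        have h2 : α x = ⟨g, hgQ⟩ * x * ⟨g, hgQ⟩⁻¹ := Subtype.ext (by rw [hgx]; rfl)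
        rw [h2, map_mul, map_mul, map_inv] at h1
        calc θ x * ((θ ⟨g, hgQ⟩)⁻¹ * s)
            = (θ ⟨g, hgQ⟩)⁻¹ * (θ ⟨g, hgQ⟩ * θ x * (θ ⟨g, hgQ⟩)⁻¹) * s := by group
          _ = (θ ⟨g, hgQ⟩)⁻¹ * (s * θ x * s⁻¹) * s := by rw [h1]
          _ = (θ ⟨g, hgQ⟩)⁻¹ * s * θ x := by group
      have h4 := hCQ' hz
      have h3 : s = θ ⟨g, hgQ⟩ * ((θ ⟨g, hgQ⟩)⁻¹ * s) := by group
      rw [h3]
      exact Q'.mul_mem (hθQ' _) h4
    have hgext : g ∈ extender S Q θ := by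
      rw [Cfsg.Agent.Lib.Helper87.mem_extender_iff]
      refine ⟨hgS, hgN, s, hsS, fun x hx => ?_⟩
      have h2 : (⟨g * x * g⁻¹, hx⟩ : Q) = α x := Subtype.ext (hgx x).symm
      rw [h2]
      exact hkey x
    have hQ'fc : F.IsFullyCentralized Q' :=
      Cfsg.Agent.Lib.Helper88.isFullyCentralized_of_isCentric F hQ'c
    have hQ'rec : F.IsReceptive Q' :=
      Cfsg.Agent.Lib.Helper87.isReceptive_of_isFullyCentralized p hS F hF Q' hQ'fc
    obtain ⟨θ', hθ', hθ'x⟩ := hQ'rec.2 Q θ hθF hθr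
    have hQext : Q ≤ extender S Q θ :=
      Cfsg.Agent.Lib.Helper87.le_extender hQS (fun x => hom_mem F hθF x)
    exact hIH.mem_of_extends hQext hgext hgQ hθ' (fun x => hθ'x x.1 x.2 (hQext x.2))

end Cfsg.Agent.Lib.Helper54.SmallAb
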