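import Mathlib
import Cfsg.Prelude.Def_FusionSystem
import Cfsg.Agent.Lib.Helper54.SmallAb1
import Cfsg.Agent.Lib.Helper54.CritOmega
import Cfsg.Agent.Lib.Helper27.FusGenAlp
import Cfsg.Agent.Lib.Helper88.FusionHyp2

/-!
# Small abelian subgroups control fusion: assembly

Transport of the hypotheses of the main lemma along an `E`-isomorphism, and Alperin induction.
-/

set_option autoImplicit false

namespace Cfsg.Agent.Lib.Helper54.SmallAb

open Cfsg Cfsg.FusionSystem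
open Cfsg.Agent.Lib.Helper87 (finite_of_le restrict_mem hom_congr comp_mem' inv_mem' hom_le hom_mem
  mem_normalizerIn mem_centralizerIn mem_normalizer_of_conj_mem IsFIso homEquiv)
open Cfsg.Agent.Lib.Helper89 (AlpIH)
open Cfsg.Agent.Lib.Helper54.CritOmega (qexp)

variable {Ω : Type*} [Group Ω] {S : Subgroup Ω}

/-- the conclusion of the group theoretic keystone -/
def GoodAb (p : ℕ) (F : FusionSystem S) (Q A : Subgroup Ω) : Prop :=
  A ≤ Q ∧ A ≤ F.hyperfocalSubgroup p ∧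
    normalizerIn S Q ≤ Subgroup.normalizer (A : Set Ω) ∧ IsMulCommutative A ∧
    (∀ a ∈ A, a ^ qexp p = 1) ∧
    ∀ α ∈ F.autGroup Q, (∀ x : Q, (x : Ω) ∈ A → α x = x) → α ∈ autInducedBy S Q

/-- a subgroup normal in `S` is fully normalized -/
lemma isFullyNormalized_of_normal [Finite S] (F : FusionSystem S) {A : Subgroup Ω} (hAS : A ≤ S)
    (hn : S ≤ Subgroup.normalizer (A : Set Ω)) : F.IsFullyNormalized A := by
  refine ⟨hAS, fun X _ => ?_⟩
  have h1 : normalizerIn S A = S := by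
    apply le_antisymm (Cfsg.Agent.Lib.Helper87.normalizerIn_le S A)
    intro s hs
    exact ⟨hs, hn hs⟩
  rw [h1]
  exact Cfsg.Agent.Lib.Helper87.card_le_of_le (Cfsg.Agent.Lib.Helper87.normalizerIn_le S X)

/-- the inductive step of Alperin induction, from the group theoretic keystone -/
theorem hom_mem_of_goodAb [Finite S] (p : ℕ) [Fact p.Prime] (hS : IsPGroup p S)
    (E F : FusionSystem S) (hE : E.IsSaturated p) (hF : F.IsSaturated p)
    (hEF : E.IsSubsystemOf F)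
    (hsmall : ∀ A : Subgroup Ω, A ≤ F.hyperfocalSubgroup p → IsMulCommutative A →
      (∀ a ∈ A, a ^ qexp p = 1) → F.Hom A ⊆ E.Hom A)
    {Q : Subgroup Ω} (hQc : F.IsCentric Q) (hIH : AlpIH F E Q)
    {A : Subgroup Ω} (hA : GoodAb p F Q A)
    {φ : Q →* Ω} (hφ : φ ∈ F.Hom Q) (hφr : φ.range = Q) : φ ∈ E.Hom Q := by
  obtain ⟨hAQ, hAh, hAN, hAc, hAe, hC⟩ := hA
  have hQS : Q ≤ S := hQc.1
  have hAS : A ≤ S := hAQ.trans hQS
  have hQn : Q ≤ Subgroup.normalizer (A : Set Ω) :=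
    (Cfsg.Agent.Lib.Helper87.le_normalizerIn hQS).trans hAN
  by_cases hne : Q = S
  · have hAfn : F.IsFullyNormalized A := isFullyNormalized_of_normal F hAS (by
      intro s hs
      apply hAN
      rw [hne]
      exact ⟨hs, Subgroup.le_normalizer hs⟩)
    exact hom_mem_of_small p hS E F hE hF hEF hQc hIH hAQ hQn hAfn
      (fun χ hχ => hsmall A hAh hAc hAe hχ) hC hφ hφr
  · have : Finite Q := finite_of_le hQS
    have : Finite A := finite_of_le hAS
    obtain ⟨A1, hAA1, hA1fn⟩ := Cfsg.Agent.Lib.Helper87.exists_isFullyNormalized F hAS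
    obtain ⟨hA1fc, hA1fa⟩ := Cfsg.Agent.Lib.Helper87.fullyNormalized_props p hS F hF A1 hA1fn
    have hA1rec := Cfsg.Agent.Lib.Helper87.isReceptive_of_isFullyCentralized p hS F hF A1 hA1fc
    obtain ⟨β, hβF, hβN, hβmap, hβmem⟩ :=
      Cfsg.Agent.Lib.Helper87.exists_normalizer_hom p hS F A1 A hA1fa hA1rec hAA1
    have hNN : normalizerIn S Q ≤ normalizerIn S A := fun x hx => ⟨hx.1, hAN hx⟩
    have hQNA : Q ≤ normalizerIn S A := (Cfsg.Agent.Lib.Helper87.le_normalizerIn hQS).trans hNN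
    obtain ⟨g, hgN, hgQ⟩ := Cfsg.Agent.Lib.Helper89.exists_mem_normalizerIn_not_mem hS hQS hne
    set βQ : Q →* Ω := β.comp (Subgroup.inclusion hQNA) with hβQ
    have hβQF : βQ ∈ F.Hom Q := restrict_mem F hQNA hβF
    have hβQE : βQ ∈ E.Hom Q := hIH.mem_of_extends hQNA (hNN hgN) hgQ hβF (fun x => rfl)
    set Q1 : Subgroup Ω := βQ.range with hQ1
    set e : Q ≃* Q1 := homEquiv E hβQE rfl with he
    have heE : IsFIso E e := Cfsg.Agent.Lib.Helper87.isFIso_homEquiv E hβQE rfl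
    have heF : IsFIso F e := hEF _ heE
    have hex : ∀ x : Q, ((e x : Q1) : Ω) = βQ x := fun x => rfl
    have hQ1S : Q1 ≤ S := by
      rintro _ ⟨x, rfl⟩
      exact hom_mem F hβQF x
    have hconj : F.IsConj Q Q1 := ⟨βQ, hβQF, rfl⟩
    have hQ1c : F.IsCentric Q1 := Cfsg.Agent.Lib.Helper91.isCentric_of_isConj F hQc hconj
    have hcard : Nat.card Q1 = Nat.card Q := (Nat.card_congr e.toEquiv).symm
    have hIH1 : AlpIH F E Q1 := hIH.of_card_eq hcard
    have hA1β : ∀ y ∈ A1, ∃ a : Q, (a : Ω) ∈ A ∧ βQ a = y := by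
      intro y hy
      rw [← hβmap] at hy
      obtain ⟨b, hb, rfl⟩ := hy
      have hb' : (b : Ω) ∈ A := hb
      exact ⟨⟨b, hAQ hb'⟩, hb', rfl⟩
    have hβA : ∀ a : Q, (a : Ω) ∈ A → βQ a ∈ A1 := fun a ha => hβmem _ ha
    have hA1Q1 : A1 ≤ Q1 := by
      intro y hy
      obtain ⟨a, -, rfl⟩ := hA1β y hy
      exact ⟨a, rfl⟩
    have hA1S : A1 ≤ S := hA1Q1.trans hQ1S
    have : Finite A1 := finite_of_le hA1S
    have hQ1n : Q1 ≤ Subgroup.normalizer (A1 : Set Ω) := by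
      rintro _ ⟨x, rfl⟩
      apply mem_normalizer_of_conj_mem
      intro y hy
      obtain ⟨a, ha, rfl⟩ := hA1β y hy
      have h1 : βQ x * βQ a * (βQ x)⁻¹ = βQ (x * a * x⁻¹) := by rw [map_mul, map_mul, map_inv]
      rw [h1]
      exact hβA _ ((Subgroup.mem_normalizer_iff.mp (hQn x.2) a).mp ha)
    have hsc := Cfsg.Agent.Lib.Helper88.stronglyClosed_hyperfocalSubgroup p hS F hF
    have hA1h : A1 ≤ F.hyperfocalSubgroup p := by
      intro y hy
      obtain ⟨a, ha, rfl⟩ := hA1β y hy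
      exact hsc.2 A hAh _ (restrict_mem F hAQ hβQF) ⟨a, ha⟩
    have hA1c : IsMulCommutative A1 := by
      constructor
      constructor
      rintro ⟨y, hy⟩ ⟨z, hz⟩
      obtain ⟨a, ha, rfl⟩ := hA1β y hy
      obtain ⟨b, hb, rfl⟩ := hA1β z hz
      apply Subtype.ext
      show βQ a * βQ b = βQ b * βQ a
      rw [← map_mul, ← map_mul]
      congr 1
      apply Subtype.ext
      have h1 := hAc.is_comm.comm ⟨a, ha⟩ ⟨b, hb⟩
      exact congrArg (fun z : A => (z : Ω)) h1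
    have hA1e : ∀ y ∈ A1, y ^ qexp p = 1 := by
      intro y hy
      obtain ⟨a, ha, rfl⟩ := hA1β y hy
      rw [← map_pow]
      have h1 : a ^ qexp p = 1 := Subtype.ext (by simpa using hAe a ha)
      rw [h1, map_one]
    have hC1 : ∀ α1 ∈ F.autGroup Q1, (∀ x : Q1, (x : Ω) ∈ A1 → α1 x = x) →
        α1 ∈ autInducedBy S Q1 := by
      intro α1 hα1 hfix
      set α : MulAut Q := MulAut.congr e.symm α1 with hα
      have hαF : α ∈ F.autGroup Q :=
        (Cfsg.Agent.Lib.Helper87.congr_mem_autGroup_iff F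
          (Cfsg.Agent.Lib.Helper87.IsFIso.symm F heF) α1).mpr hα1
      have hαx : ∀ x : Q, e (α x) = α1 (e x) := by
        intro x
        simp [hα, MulAut.congr]
      have hαfix : ∀ x : Q, (x : Ω) ∈ A → α x = x := by
        intro x hx
        apply e.injective
        rw [hαx]
        exact hfix (e x) (hβA x hx)
      obtain ⟨g0, hg0S, hg0x⟩ :=
        Cfsg.Agent.Lib.Helper87.mem_autInducedBy_iff.mp (hC α hαF hαfix)
      have hg0N : g0 ∈ Subgroup.normalizer (Q : Set Ω) := by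
        apply mem_normalizer_of_conj_mem
        intro y hy
        rw [← hg0x ⟨y, hy⟩]
        exact (α ⟨y, hy⟩).2
      have hg0NA : g0 ∈ normalizerIn S A := hNN ⟨hg0S, hg0N⟩
      rw [Cfsg.Agent.Lib.Helper87.mem_autInducedBy_iff]
      refine ⟨β ⟨g0, hg0NA⟩, hom_mem F hβF _, fun y => ?_⟩
      obtain ⟨x, rfl⟩ := e.surjective y
      rw [← hαx, hex, hex]
      show β (Subgroup.inclusion hQNA (α x)) =
        β ⟨g0, hg0NA⟩ * β (Subgroup.inclusion hQNA x) * (β ⟨g0, hg0NA⟩)⁻¹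
      rw [← map_inv, ← map_mul, ← map_mul]
      congr 1
      apply Subtype.ext
      exact hg0x x
    have hML : ∀ φ1 : Q1 →* Ω, φ1 ∈ F.Hom Q1 → φ1.range = Q1 → φ1 ∈ E.Hom Q1 :=
      fun φ1 hφ1 hr => hom_mem_of_small p hS E F hE hF hEF hQ1c hIH1 hA1Q1 hQ1n hA1fn
        (fun χ hχ => hsmall A1 hA1h hA1c hA1e hχ) hC1 hφ1 hr
    set eφ : Q ≃* Q := homEquiv F hφ hφr with heφ
    have heφF : IsFIso F eφ := Cfsg.Agent.Lib.Helper87.isFIso_homEquiv F hφ hφr
    have h1 : IsFIso F (e.symm.trans (eφ.trans e)) :=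
      Cfsg.Agent.Lib.Helper87.IsFIso.trans F (Cfsg.Agent.Lib.Helper87.IsFIso.symm F heF)
        (Cfsg.Agent.Lib.Helper87.IsFIso.trans F heφF heF)
    have h2 : IsFIso E (e.symm.trans (eφ.trans e)) :=
      hML _ h1 (Cfsg.Agent.Lib.Helper87.IsFIso.range_eq _)
    have h3 : IsFIso E (e.trans ((e.symm.trans (eφ.trans e)).trans e.symm)) :=
      Cfsg.Agent.Lib.Helper87.IsFIso.trans E heE
        (Cfsg.Agent.Lib.Helper87.IsFIso.trans E h2 (Cfsg.Agent.Lib.Helper87.IsFIso.symm E heE))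
    refine hom_congr E h3 (fun x => ?_)
    show φ x = ((e.symm (e (eφ (e.symm (e x)))) : Q) : Ω)
    rw [MulEquiv.symm_apply_apply, MulEquiv.symm_apply_apply]
    rfl

/-- Alperin induction: the subsystem is everything, given the group theoretic keystone -/
theorem subsystem_eq_of_goodAb [Finite S] (p : ℕ) [Fact p.Prime] (hS : IsPGroup p S)
    (E F : FusionSystem S) (hE : E.IsSaturated p) (hF : F.IsSaturated p)
    (hEF : E.IsSubsystemOf F)
    (hGT : ∀ Q : Subgroup Ω, F.IsFullyNormalized Q → ∃ A : Subgroup Ω, GoodAb p F Q A)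
    (hsmall : ∀ A : Subgroup Ω, A ≤ F.hyperfocalSubgroup p → IsMulCommutative A →
      (∀ a ∈ A, a ^ qexp p = 1) → F.Hom A ⊆ E.Hom A) :
    ∀ P : Subgroup Ω, E.Hom P = F.Hom P := by
  intro P
  apply Set.Subset.antisymm (hEF P)
  have h := Cfsg.Agent.Lib.Helper27.FusGen.alp_ind p hS F hF E (fun U hUfn hUc hIH φ hφ hr => by
    obtain ⟨A, hA⟩ := hGT U hUfn
    exact hom_mem_of_goodAb p hS E F hE hF hEF hsmall hUc hIH hA hφ hr)
  exact h P

/-- the hypotheses of S5296 in uniform shape -/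
theorem hsmall_of_hyps [Finite S] (p : ℕ) [Fact p.Prime] (hS : IsPGroup p S)
    (E F : FusionSystem S) (hF : F.IsSaturated p)
    (hodd : p ≠ 2 → ∀ A B : Subgroup Ω, A ≤ (F.hyperfocalSubgroup p) →
      B ≤ (F.hyperfocalSubgroup p) → Cfsg.IsElementaryAbelian p A →
      Cfsg.IsElementaryAbelian p B → E.homSet A B = F.homSet A B)
    (htwo : p = 2 → ∀ A B : Subgroup Ω, A ≤ (F.hyperfocalSubgroup p) →
      B ≤ (F.hyperfocalSubgroup p) → IsMulCommutative ↥A → IsMulCommutative ↥B →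
      (∀ a ∈ A, a ^ 4 = 1) → (∀ b ∈ B, b ^ 4 = 1) → E.homSet A B = F.homSet A B) :
    ∀ A : Subgroup Ω, A ≤ F.hyperfocalSubgroup p → IsMulCommutative A →
      (∀ a ∈ A, a ^ qexp p = 1) → F.Hom A ⊆ E.Hom A := by
  intro A hAh hAc hAe φ hφ
  have hsc := Cfsg.Agent.Lib.Helper88.stronglyClosed_hyperfocalSubgroup p hS F hF
  set B : Subgroup Ω := φ.range with hB
  have hBh : B ≤ F.hyperfocalSubgroup p := by
    rintro _ ⟨a, rfl⟩
    exact hsc.2 A hAh φ hφ a
  have hBc : IsMulCommutative B := by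
    constructor
    constructor
    rintro ⟨_, ⟨a, rfl⟩⟩ ⟨_, ⟨b, rfl⟩⟩
    apply Subtype.ext
    show φ a * φ b = φ b * φ a
    rw [← map_mul, ← map_mul, hAc.is_comm.comm a b]
  have hBe : ∀ b ∈ B, b ^ qexp p = 1 := by
    rintro _ ⟨a, rfl⟩
    rw [← map_pow]
    have h1 : a ^ qexp p = 1 := Subtype.ext (by simpa using hAe a a.2)
    rw [h1, map_one]
  have hmem : φ ∈ F.homSet A B := ⟨hφ, fun x => ⟨x, rfl⟩⟩
  by_cases hp2 : p = 2
  · have hq : qexp p = 4 := by unfold qexp; rw [if_pos hp2]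
    rw [hq] at hAe hBe
    rw [← htwo hp2 A B hAh hBh hAc hBc hAe hBe] at hmem
    exact hmem.1
  · have hq : qexp p = p := by unfold qexp; rw [if_neg hp2]
    rw [hq] at hAe hBe
    rw [← hodd hp2 A B hAh hBh ⟨hAc, hAe⟩ ⟨hBc, hBe⟩] at hmem
    exact hmem.1

end Cfsg.Agent.Lib.Helper54.SmallAb
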