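import Mathlib
import Cfsg.Prelude.Def_FusionSystem
import Cfsg.Agent.Lib.Helper54.CritOmega
import Cfsg.Agent.Lib.Helper03.FusEss
import Cfsg.Agent.Lib.Helper88.FusionHyp2

/-!
# Control of fusion of small cyclic subgroups by `N_F(S)`

If every map of a saturated fusion system `F` between cyclic subgroups of order `p` or `4` of the
hyperfocal subgroup extends to an `F`-automorphism of `S`, then `F` has no essential subgroup
different from `S`.
-/

set_option autoImplicit false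

namespace Cfsg.Agent.Lib.Helper54.SmallNorm

open Cfsg Cfsg.FusionSystem
open Cfsg.Agent.Lib.Helper87 (finite_of_le restrict_mem)
open Cfsg.Agent.Lib.Helper89 (conjAut conjAut_apply conjAut_mem_autInducedBy)
open Cfsg.Agent.Lib.Helper90 (stabChain stab_chain_pow stabChain_conj_mem)

variable {Ω : Type*} [Group Ω] {S : Subgroup Ω}

/-- a surjective endomorphism preserves the upper central series -/
lemma map_mem_upperCentralSeries {G : Type*} [Group G] (f : G →* G) (hf : Function.Surjective f) :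
    ∀ i, ∀ x ∈ Subgroup.upperCentralSeries G i, f x ∈ Subgroup.upperCentralSeries G i := by
  intro i
  induction i with
  | zero =>
    intro x hx
    rw [Subgroup.upperCentralSeries_zero, Subgroup.mem_bot] at hx ⊢
    rw [hx, map_one]
  | succ i ih =>
    intro x hx
    rw [Subgroup.mem_upperCentralSeries_succ_iff] at hx ⊢
    intro y'
    obtain ⟨y, rfl⟩ := hf y'
    have h1 := ih _ (hx y)
    rw [map_commutatorElement] at h1
    exact h1

/-- Lemma R with a faithfulness hypothesis: the chain only has to reach a subgroup on which the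
automorphisms of order prime to `p` act faithfully. -/
theorem mem_of_stabChain_faithful [Finite S] {p : ℕ} [hp : Fact p.Prime] (hS : IsPGroup p S)
    (F : FusionSystem S) {P : Subgroup Ω} (hP : F.IsEssential p P)
    (c : ℕ → Subgroup P) (hmono : Monotone c) (hc0 : c 0 = ⊥) (n : ℕ)
    (hfaith : ∀ a ∈ F.autGroup P, (orderOf a).Coprime p → (∀ x ∈ c n, a x = x) → a = 1)
    (hinv : ∀ α ∈ F.autGroup P, ∀ i, ∀ x ∈ c i, α x ∈ c i)
    {g : Ω} (hgS : g ∈ S) (hgN : g ∈ Subgroup.normalizer (P : Set Ω))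
    (hg : conjAut P g hgN ∈ stabChain c hmono) : g ∈ P := by
  have hPS : P ≤ S := hP.1.1
  have : Finite P := finite_of_le hPS
  have hPp : IsPGroup p P := hS.to_le hPS
  obtain ⟨hcen, -, hnorm, E, hE⟩ := hP
  set Γ := F.autGroup P with hΓ
  set N : Subgroup Γ := (stabChain c hmono).subgroupOf Γ with hNdef
  have hNn : N.Normal := by
    constructor
    intro β hβ a
    rw [hNdef, Subgroup.mem_subgroupOf] at hβ ⊢
    have h1 := stabChain_conj_mem c hmono (a : MulAut P) (fun j x hx => hinv a a.2 j x hx)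
      (fun j x hx => hinv _ (Γ.inv_mem a.2) j x hx) hβ
    simpa using h1
  have hNp : IsPGroup p N := by
    obtain ⟨e, he⟩ := hPp.exists_card_eq
    have hm : ∀ x : P, x ^ (p ^ e) = 1 := fun x => by rw [← he]; exact pow_card_eq_one'
    rintro ⟨⟨b, hbΓ⟩, hbN⟩
    rw [hNdef, Subgroup.mem_subgroupOf] at hbN
    have hbN' : b ∈ stabChain c hmono := hbN
    have ho : orderOf b ≠ 0 := (orderOf_pos b).ne'
    obtain ⟨k, m, hpm, hkm⟩ := Nat.exists_eq_pow_mul_and_not_dvd ho p hp.out.ne_one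
    refine ⟨k, ?_⟩
    apply Subtype.ext
    apply Subtype.ext
    show b ^ p ^ k = 1
    set ψ : MulAut P := b ^ p ^ k with hψ
    have hψm : ψ ^ m = 1 := by
      rw [hψ, ← pow_mul, ← hkm, pow_orderOf_eq_one]
    have hmcop : m.Coprime p := (Nat.Coprime.symm ((Nat.Prime.coprime_iff_not_dvd hp.out).mpr hpm))
    have hψΓ : ψ ∈ Γ := Γ.pow_mem hbΓ _
    have hψst : ψ ∈ stabChain c hmono := (stabChain c hmono).pow_mem hbN' _
    -- `χ = ψ ^ (M ^ n)` fixes `c n` pointwise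
    set χ : MulAut P := ψ ^ ((p ^ e) ^ n) with hχ
    have hχfix : ∀ x ∈ c n, χ x = x :=
      stab_chain_pow hm c hc0 hmono ψ (fun i x hx => (hψst i x hx).1) n
    have hχm : χ ^ m = 1 := by
      rw [hχ, ← pow_mul, mul_comm, pow_mul, hψm, one_pow]
    have hχcop : (orderOf χ).Coprime p :=
      Nat.Coprime.coprime_dvd_left (orderOf_dvd_of_pow_eq_one hχm) hmcop
    have hχ1 : χ = 1 := hfaith χ (Γ.pow_mem hψΓ _) hχcop hχfix
    -- so the order of `ψ` divides a power of `p` and `m`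
    have h1 : orderOf ψ ∣ (p ^ e) ^ n := orderOf_dvd_of_pow_eq_one hχ1
    have h2 : orderOf ψ ∣ m := orderOf_dvd_of_pow_eq_one hψm
    have h3 : ((p ^ e) ^ n).Coprime m := by
      apply Nat.Coprime.pow_left
      apply Nat.Coprime.pow_left
      exact hmcop.symm
    have h4 : orderOf ψ = 1 := Nat.eq_one_of_dvd_coprimes h3 h1 h2
    exact orderOf_eq_one_iff.mp h4
  have hsurj := QuotientGroup.mk'_surjective ((Inn P).subgroupOf Γ)
  have hbar : N.map (QuotientGroup.mk' ((Inn P).subgroupOf Γ)) = ⊥ :=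
    Cfsg.Agent.Lib.Helper03.FusEss.normal_pSubgroup_eq_bot E hE _ (hNn.map _ hsurj) (hNp.map _)
  have hgΓ : conjAut P g hgN ∈ Γ :=
    Cfsg.Agent.Lib.Helper89.autInducedBy_le_autGroup F hPS (conjAut_mem_autInducedBy hgS hgN)
  have hmem : (⟨conjAut P g hgN, hgΓ⟩ : Γ) ∈ N := by
    rw [hNdef, Subgroup.mem_subgroupOf]; exact hg
  have h1 : QuotientGroup.mk' ((Inn P).subgroupOf Γ) ⟨conjAut P g hgN, hgΓ⟩ ∈
      N.map (QuotientGroup.mk' ((Inn P).subgroupOf Γ)) := Subgroup.mem_map_of_mem _ hmem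
  rw [hbar, Subgroup.mem_bot, QuotientGroup.mk'_apply, QuotientGroup.eq_one_iff,
    Subgroup.mem_subgroupOf] at h1
  obtain ⟨u, hu⟩ := h1
  have hcent : (u : Ω)⁻¹ * g ∈ centralizerIn S P := by
    rw [Cfsg.Agent.Lib.Helper87.mem_centralizerIn]
    refine ⟨S.mul_mem (S.inv_mem (hPS u.2)) hgS, fun x hx => ?_⟩
    have h2 := congrArg (fun α : MulAut P => ((α ⟨x, hx⟩ : P) : Ω)) hu
    simp only [MulAut.conj_apply, conjAut_apply, Subgroup.coe_mul, Subgroup.coe_inv] at h2
    have h3 : (u : Ω)⁻¹ * g * x = (u : Ω)⁻¹ * (g * x * g⁻¹) * g := by group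
    rw [h3, ← h2]; group
  have h4 := hcen.2 P (Cfsg.Agent.Lib.Helper87.isConj_refl F hPS) hcent
  have h5 : g = (u : Ω) * ((u : Ω)⁻¹ * g) := by group
  rw [h5]
  exact P.mul_mem u.2 h4

/-- the hypothesis of S5297 -/
def SmallCtl (p : ℕ) (F : FusionSystem S) : Prop :=
  ∀ A B : Subgroup Ω, A ≤ F.hyperfocalSubgroup p → B ≤ F.hyperfocalSubgroup p → IsCyclic ↥A →
    (Nat.card ↥A = p ∨ Nat.card ↥A = 4) → IsCyclic ↥B → (Nat.card ↥B = p ∨ Nat.card ↥B = 4) →
    F.homSet A B ⊆ F.normalizerHom S A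

/-- `Aut_F(Q)` preserves the hyperfocal subgroup -/
lemma aut_mem_hyperfocal [Finite S] (p : ℕ) [Fact p.Prime] (hS : IsPGroup p S)
    (F : FusionSystem S) (hF : F.IsSaturated p) {Q : Subgroup Ω} (hQS : Q ≤ S)
    {α : MulAut Q} (hα : α ∈ F.autGroup Q) {y : Q} (hy : (y : Ω) ∈ F.hyperfocalSubgroup p) :
    ((α y : Q) : Ω) ∈ F.hyperfocalSubgroup p := by
  have hsc := Cfsg.Agent.Lib.Helper88.stronglyClosed_hyperfocalSubgroup p hS F hF
  have hA : Subgroup.zpowers (y : Ω) ≤ F.hyperfocalSubgroup p := by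
    rw [Subgroup.zpowers_le]; exact hy
  have hAQ : Subgroup.zpowers (y : Ω) ≤ Q := by
    rw [Subgroup.zpowers_le]; exact y.2
  have hφ : (Q.subtype.comp α.toMonoidHom).comp (Subgroup.inclusion hAQ) ∈
      F.Hom (Subgroup.zpowers (y : Ω)) :=
    restrict_mem F hAQ ((Cfsg.Agent.Lib.Helper89.mem_autGroup_iff F hQS α).mp hα)
  have h1 := hsc.2 _ hA _ hφ ⟨(y : Ω), Subgroup.mem_zpowers _⟩
  have e : Subgroup.inclusion hAQ ⟨(y : Ω), Subgroup.mem_zpowers _⟩ = y := Subtype.ext rfl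
  simpa [e] using h1

/-- the key use of the hypothesis: `Aut_F(Q)` maps small elements of `Z_i(S)` inside the
hyperfocal subgroup into `Z_i(S)` -/
lemma aut_mem_upperCentralSeries [Finite S] (p : ℕ) [hp : Fact p.Prime]
    (F : FusionSystem S) (h : SmallCtl p F) {Q : Subgroup Ω} (hQS : Q ≤ S)
    {α : MulAut Q} (hα : α ∈ F.autGroup Q) {y : Q} (hy : (y : Ω) ∈ F.hyperfocalSubgroup p)
    (hαy : ((α y : Q) : Ω) ∈ F.hyperfocalSubgroup p)
    (hsmall : y ^ p = 1 ∨ (p = 2 ∧ y ^ 4 = 1)) (i : ℕ)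
    (hyZ : (y : Ω) ∈ (Subgroup.upperCentralSeries ↥S i).map S.subtype) :
    ((α y : Q) : Ω) ∈ (Subgroup.upperCentralSeries ↥S i).map S.subtype := by
  by_cases hy1 : y = 1
  · rw [hy1, map_one]
    exact Subgroup.one_mem _
  have hord : orderOf (y : Ω) = p ∨ orderOf (y : Ω) = 4 := by
    rw [Subgroup.orderOf_coe]
    rcases hsmall with h1 | ⟨h2, h4⟩
    · left; exact orderOf_eq_prime h1 hy1
    · subst h2
      by_cases hy2 : y ^ 2 = 1
      · left; exact orderOf_eq_prime hy2 hy1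
      · right
        have h3 := orderOf_eq_prime_pow (p := 2) (n := 1) (x := y) (by simpa using hy2)
          (by simpa using h4)
        simpa using h3
  have hordB : orderOf ((α y : Q) : Ω) = orderOf (y : Ω) := by
    rw [Subgroup.orderOf_coe, Subgroup.orderOf_coe, MulEquiv.orderOf_eq]
  have hA : Subgroup.zpowers (y : Ω) ≤ F.hyperfocalSubgroup p := by
    rw [Subgroup.zpowers_le]; exact hy
  have hB : Subgroup.zpowers ((α y : Q) : Ω) ≤ F.hyperfocalSubgroup p := by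
    rw [Subgroup.zpowers_le]; exact hαy
  have cardA : Nat.card (Subgroup.zpowers (y : Ω)) = p ∨ Nat.card (Subgroup.zpowers (y : Ω)) = 4 := by
    rw [Nat.card_zpowers]; exact hord
  have cardB : Nat.card (Subgroup.zpowers ((α y : Q) : Ω)) = p ∨
      Nat.card (Subgroup.zpowers ((α y : Q) : Ω)) = 4 := by
    rw [Nat.card_zpowers, hordB]; exact hord
  have hAQ : Subgroup.zpowers (y : Ω) ≤ Q := by
    rw [Subgroup.zpowers_le]; exact y.2
  have hφ : (Q.subtype.comp α.toMonoidHom).comp (Subgroup.inclusion hAQ) ∈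
      F.Hom (Subgroup.zpowers (y : Ω)) :=
    restrict_mem F hAQ ((Cfsg.Agent.Lib.Helper89.mem_autGroup_iff F hQS α).mp hα)
  have hφB : ∀ x : Subgroup.zpowers (y : Ω),
      ((Q.subtype.comp α.toMonoidHom).comp (Subgroup.inclusion hAQ)) x ∈
        Subgroup.zpowers ((α y : Q) : Ω) := by
    intro x
    obtain ⟨k, hk⟩ := Subgroup.mem_zpowers_iff.mp x.2
    have e : Subgroup.inclusion hAQ x = y ^ k := by
      apply Subtype.ext
      simp [hk]
    show ((α (Subgroup.inclusion hAQ x) : Q) : Ω) ∈ Subgroup.zpowers ((α y : Q) : Ω)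
    rw [e, map_zpow]
    rw [Subgroup.coe_zpow]
    exact Subgroup.zpow_mem_zpowers _ k
  have hin := h _ _ hA hB inferInstance cardA inferInstance cardB ⟨hφ, hφB⟩
  obtain ⟨-, -, -, ψ, hψ, hext, hmap⟩ := hin
  -- the endomorphism of `S` induced by `ψ`
  have hψS : ∀ s : S, ψ (Subgroup.inclusion le_sup_right s) ∈ S := by
    intro s
    have h1 : ψ (Subgroup.inclusion le_sup_right s) ∈
        (S.subgroupOf (Subgroup.zpowers (y : Ω) ⊔ S)).map ψ := by
      refine Subgroup.mem_map_of_mem _ ?_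
      exact Subgroup.mem_subgroupOf.mpr s.2
    rwa [hmap] at h1
  let f : ↥S →* ↥S := (ψ.comp (Subgroup.inclusion le_sup_right)).codRestrict S hψS
  have hf : Function.Surjective f := by
    intro s'
    have h1 : (s' : Ω) ∈ (S.subgroupOf (Subgroup.zpowers (y : Ω) ⊔ S)).map ψ := by
      rw [hmap]; exact s'.2
    obtain ⟨z, hz, hzs⟩ := h1
    have hz : (z : Ω) ∈ S := Subgroup.mem_subgroupOf.mp hz
    refine ⟨⟨(z : Ω), hz⟩, ?_⟩
    apply Subtype.ext
    show ψ (Subgroup.inclusion le_sup_right ⟨(z : Ω), hz⟩) = s'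
    rw [← hzs]
    congr 1
  obtain ⟨y', hy'Z, hy'y⟩ := hyZ
  have h1 := map_mem_upperCentralSeries f hf i y' hy'Z
  refine ⟨f y', h1, ?_⟩
  show ψ (Subgroup.inclusion le_sup_right y') = ((α y : Q) : Ω)
  have e1 : (Subgroup.inclusion le_sup_right y' : ↥(Subgroup.zpowers (y : Ω) ⊔ S)) =
      Subgroup.inclusion le_sup_left ⟨(y : Ω), Subgroup.mem_zpowers _⟩ := by
    apply Subtype.ext
    exact hy'y
  rw [e1, hext]
  show ((α (Subgroup.inclusion hAQ ⟨(y : Ω), Subgroup.mem_zpowers _⟩) : Q) : Ω) = ((α y : Q) : Ω)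
  have e2 : Subgroup.inclusion hAQ ⟨(y : Ω), Subgroup.mem_zpowers _⟩ = y := Subtype.ext rfl
  rw [e2]

/-- under the hypothesis of S5297 every essential subgroup equals `S` -/
theorem eq_of_isEssential [Finite S] (p : ℕ) [hp : Fact p.Prime] (hS : IsPGroup p S)
    (F : FusionSystem S) (hF : F.IsSaturated p) (h : SmallCtl p F)
    {Q : Subgroup Ω} (hQ : F.IsEssential p Q) : Q = S := by
  by_contra hne
  have hQS : Q ≤ S := hQ.1.1
  haveI : Finite Q := finite_of_le hQS
  have hQp : IsPGroup p Q := hS.to_le hQS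
  obtain ⟨g, hgN, hgQ⟩ := Cfsg.Agent.Lib.Helper89.exists_mem_normalizerIn_not_mem hS hQS hne
  obtain ⟨H, cr⟩ := Cfsg.Agent.Lib.Helper40.Narrow.exists_crit hQp
  set Γ := F.autGroup Q with hΓ
  set V : Subgroup Q := CritOmega.omegaQ cr hQp with hV
  set W : Subgroup Q := V ⊓ (F.hyperfocalSubgroup p).subgroupOf Q with hW
  set c : ℕ → Subgroup Q :=
    fun i => W ⊓ ((Subgroup.upperCentralSeries ↥S i).map S.subtype).subgroupOf Q with hc
  have hmemW : ∀ x : Q, x ∈ W ↔ (x ∈ V ∧ (x : Ω) ∈ F.hyperfocalSubgroup p) := fun x => Iff.rfl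
  have hmemc : ∀ (i : ℕ) (x : Q), x ∈ c i ↔
      (x ∈ W ∧ (x : Ω) ∈ (Subgroup.upperCentralSeries ↥S i).map S.subtype) := fun i x => Iff.rfl
  have hmono : Monotone c := by
    intro i j hij x hx
    rw [hmemc] at hx ⊢
    exact ⟨hx.1, Subgroup.map_mono (Subgroup.upperCentralSeries_mono ↥S hij) hx.2⟩
  have hc0 : c 0 = ⊥ := by
    rw [eq_bot_iff]
    intro x hx
    rw [hmemc] at hx
    have h1 := hx.2
    rw [Subgroup.upperCentralSeries_zero, Subgroup.map_bot, Subgroup.mem_bot] at h1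
    rw [Subgroup.mem_bot]
    exact Subtype.ext h1
  have hnil : Group.IsNilpotent ↥S := hS.isNilpotent
  obtain ⟨n, hn⟩ := hnil.nilpotent'
  have hcn : c n = W := by
    apply le_antisymm
    · intro x hx
      exact ((hmemc n x).mp hx).1
    · intro x hx
      rw [hmemc]
      refine ⟨hx, ?_⟩
      rw [hn]
      exact ⟨⟨(x : Ω), hQS x.2⟩, Subgroup.mem_top _, rfl⟩
  -- small elements
  have hsmallV : ∀ x ∈ V, x ^ p = 1 ∨ (p = 2 ∧ x ^ 4 = 1) := fun x hx =>
    (CritOmega.small_iff p x).mpr ((CritOmega.mem_omegaQ cr hQp).mp hx).2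
  -- invariance of `W`
  have hinvW : ∀ α ∈ Γ, ∀ x ∈ W, α x ∈ W := by
    intro α hα x hx
    rw [hmemW] at hx ⊢
    exact ⟨CritOmega.map_mem_omegaQ cr hQp α hx.1, aut_mem_hyperfocal p hS F hF hQS hα hx.2⟩
  have hinv : ∀ α ∈ Γ, ∀ i, ∀ x ∈ c i, α x ∈ c i := by
    intro α hα i x hx
    rw [hmemc] at hx ⊢
    have hxW := hx.1
    have hαW := hinvW α hα x hxW
    refine ⟨hαW, ?_⟩
    exact aut_mem_upperCentralSeries p F h hQS hα ((hmemW x).mp hxW).2
      ((hmemW _).mp hαW).2 (hsmallV x ((hmemW x).mp hxW).1) i hx.2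
  -- faithfulness
  have hfaith : ∀ a ∈ Γ, (orderOf a).Coprime p → (∀ x ∈ c n, a x = x) → a = 1 := by
    intro a ha hcop hfix
    rw [hcn] at hfix
    apply CritOmega.faithful_omegaQ cr hQp a hcop
    intro x hx
    apply Cfsg.Agent.Lib.Helper04.aut_fix_of_fix_commutator hQp a hcop x
    apply hfix
    rw [hmemW]
    refine ⟨V.mul_mem (V.inv_mem hx) (CritOmega.map_mem_omegaQ cr hQp a hx), ?_⟩
    apply Subgroup.subset_closure
    refine ⟨Q, ⟨a, ha⟩, x, hQS, Subgroup.subset_closure ?_, ?_⟩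
    · show Nat.Coprime (orderOf (⟨a, ha⟩ : F.autGroup Q)) p
      rw [← Subgroup.orderOf_coe]
      exact hcop
    · simp
  -- conjugation by elements of `N_S(Q)` stabilizes the chain
  have hstab : ∀ (s : Ω) (hsS : s ∈ S) (hsN : s ∈ Subgroup.normalizer (Q : Set Ω)),
      ∀ i, ∀ x ∈ c (i + 1), x⁻¹ * conjAut Q s hsN x ∈ c i := by
    intro s hsS hsN i x hx
    have hβΓ : conjAut Q s hsN ∈ Γ :=
      Cfsg.Agent.Lib.Helper89.autInducedBy_le_autGroup F hQS (conjAut_mem_autInducedBy hsS hsN)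
    rw [hmemc] at hx ⊢
    refine ⟨W.mul_mem (W.inv_mem hx.1) (hinvW _ hβΓ x hx.1), ?_⟩
    obtain ⟨x', hx'Z, hx'x⟩ := hx.2
    have h1 : x'⁻¹ ∈ Subgroup.upperCentralSeries ↥S (i + 1) := Subgroup.inv_mem _ hx'Z
    rw [Subgroup.mem_upperCentralSeries_succ_iff] at h1
    have h2 := h1 ⟨s, hsS⟩
    refine ⟨_, h2, ?_⟩
    have hx'x' : (x' : Ω) = (x : Ω) := hx'x
    rw [commutatorElement_def]
    simp only [Subgroup.coe_mul, Subgroup.coe_inv, conjAut_apply, inv_inv, Subgroup.subtype_apply,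
      hx'x']
    group
  have hgS : g ∈ S := hgN.1
  have hgNQ : g ∈ Subgroup.normalizer (Q : Set Ω) := hgN.2
  have hinvAut : (conjAut Q g hgNQ)⁻¹ = conjAut Q g⁻¹ (Subgroup.inv_mem _ hgNQ) := by
    apply inv_eq_of_mul_eq_one_right
    refine MulEquiv.ext (fun x => ?_)
    apply Subtype.ext
    rw [MulAut.mul_apply, conjAut_apply, conjAut_apply, MulAut.one_apply]
    group
  have hg : conjAut Q g hgNQ ∈ stabChain c hmono := by
    intro i x hx
    refine ⟨hstab g hgS hgNQ i x hx, ?_⟩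
    rw [hinvAut]
    exact hstab g⁻¹ (S.inv_mem hgS) (Subgroup.inv_mem _ hgNQ) i x hx
  exact hgQ (mem_of_stabChain_faithful hS F hQ c hmono hc0 n hfaith hinv hgS hgNQ hg)

end Cfsg.Agent.Lib.Helper54.SmallNorm
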