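import Mathlib
import Cfsg.Prelude.Def_GeometricClasses
import Cfsg.Agent.Lib.Helper49.SpODefs
import Cfsg.Agent.Lib.Helper50.ElusiveOdd
import Cfsg.Agent.Lib.Helper50.SpTransvCent

/-!
# K-SpO-7 (keystone 598307, architect helper49, row S5983)

Minus type, `r` odd, `r ∣ q^d - 1`: an element of order `r` of `Sp_{2d}(q)` with no conjugate in the
similarity group of `Q`.
-/

set_option autoImplicit false

namespace Cfsg.Agent.Lib.Helper54.SpO

open Matrix Module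

variable {F : Type*} [Field F] [Fintype F] [CharP F 2]

/-- the embedding of `F^d` as the first summand of `F^d ⊕ F^d`. -/
def inlMap (d : ℕ) : (Fin d → F) →ₗ[F] (Fin d ⊕ Fin d → F) where
  toFun a := Sum.elim a 0
  map_add' a b := by
    funext i
    cases i <;> simp
  map_smul' c a := by
    funext i
    cases i <;> simp

theorem inlMap_apply (d : ℕ) (a : Fin d → F) : inlMap (F := F) d a = Sum.elim a 0 := rfl

theorem inlMap_injective (d : ℕ) : Function.Injective (inlMap (F := F) d) := by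
  intro a b h
  funext i
  have := congrFun h (Sum.inl i)
  simpa [inlMap_apply] using this

theorem sympForm_elim_zero (d : ℕ) (a b : Fin d → F) :
    Cfsg.sympForm d F (Sum.elim a 0) (Sum.elim b 0) = 0 := by
  unfold Cfsg.sympForm
  rw [Matrix.J, Matrix.fromBlocks_mulVec, sumElim_dotProduct_sumElim]
  simp

/-- **General criterion**: an element `x` of `Sp` acting on an invariant totally isotropic `d`-space `U` such
that `x - 1` is onto `U` has no `Sp`-conjugate in the similarity group of a non-plus-type form with polar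
form `sympForm`. -/
theorem no_conj_of_lagrangian (d : ℕ) (hd : 1 ≤ d)
    (Q : (Fin d ⊕ Fin d → F) → F)
    (hQf : ∀ u v, QuadraticMap.polar Q u v = Cfsg.sympForm d F u v)
    (hminus : ¬ Cfsg.Geo.IsPlusTypeOn Q ⊤)
    (x : GL (Fin d ⊕ Fin d) F) (hx : x ∈ Cfsg.spGL d F)
    (U : Submodule F (Fin d ⊕ Fin d → F)) (hUdim : finrank F U = d)
    (hUiso : ∀ u ∈ U, ∀ v ∈ U, Cfsg.sympForm d F u v = 0)
    (hUsurj : ∀ u ∈ U, ∃ w ∈ U,
      (x : Matrix (Fin d ⊕ Fin d) (Fin d ⊕ Fin d) F) *ᵥ w + w = u) :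
    ∀ g ∈ Cfsg.spGL d F, g⁻¹ * x * g ∉ Cfsg.Geo.quadSimilarityGroup Q := by
  classical
  intro g hg hmem
  obtain ⟨c, hc⟩ := hmem
  have hginv : g⁻¹ ∈ Cfsg.spGL d F := inv_mem hg
  have hy : g⁻¹ * x * g ∈ Cfsg.spGL d F := mul_mem (mul_mem hginv hx) hg
  -- the multiplier is one
  have hc1 : (c : F) = 1 := by
    obtain ⟨u, v, huv⟩ := Cfsg.Agent.Lib.Helper50.sf_ne_zero (F := F) d (by omega)
    have h1 : QuadraticMap.polar Q
        (((g⁻¹ * x * g : GL (Fin d ⊕ Fin d) F) : Matrix (Fin d ⊕ Fin d) (Fin d ⊕ Fin d) F) *ᵥ u)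
        (((g⁻¹ * x * g : GL (Fin d ⊕ Fin d) F) : Matrix (Fin d ⊕ Fin d) (Fin d ⊕ Fin d) F) *ᵥ v) =
        (c : F) * QuadraticMap.polar Q u v := by
      unfold QuadraticMap.polar
      rw [← Matrix.mulVec_add, hc, hc, hc]
      ring
    rw [hQf, hQf] at h1
    have h2 := hy u v
    change Cfsg.sympForm d F
        (((g⁻¹ * x * g : GL (Fin d ⊕ Fin d) F) : Matrix (Fin d ⊕ Fin d) (Fin d ⊕ Fin d) F) *ᵥ u)
        (((g⁻¹ * x * g : GL (Fin d ⊕ Fin d) F) : Matrix (Fin d ⊕ Fin d) (Fin d ⊕ Fin d) F) *ᵥ v) =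
        Cfsg.sympForm d F u v at h2
    rw [h2] at h1
    have h3 : ((c : F) - 1) * Cfsg.sympForm d F u v = 0 := by
      linear_combination -h1
    rcases mul_eq_zero.mp h3 with h | h
    · exact sub_eq_zero.mp h
    · exact absurd h huv
  have hQy : ∀ v, Q (((g⁻¹ * x * g : GL (Fin d ⊕ Fin d) F) :
      Matrix (Fin d ⊕ Fin d) (Fin d ⊕ Fin d) F) *ᵥ v) = Q v := by
    intro v
    rw [hc, hc1, one_mul]
  -- the subspace `g⁻¹ U`
  let T : (Fin d ⊕ Fin d → F) →ₗ[F] (Fin d ⊕ Fin d → F) :=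
    Matrix.mulVecLin ((g⁻¹ : GL (Fin d ⊕ Fin d) F) : Matrix (Fin d ⊕ Fin d) (Fin d ⊕ Fin d) F)
  have hTinj : Function.Injective T := by
    intro a b hab
    have h1 : ((g : GL (Fin d ⊕ Fin d) F) : Matrix (Fin d ⊕ Fin d) (Fin d ⊕ Fin d) F) *ᵥ (T a) =
        ((g : GL (Fin d ⊕ Fin d) F) : Matrix (Fin d ⊕ Fin d) (Fin d ⊕ Fin d) F) *ᵥ (T b) := by
      rw [hab]
    simp only [T, Matrix.mulVecLin_apply, Matrix.mulVec_mulVec, ← Units.val_mul, mul_inv_cancel,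
      Units.val_one, Matrix.one_mulVec] at h1
    exact h1
  apply hminus
  refine ⟨U.map T, le_top, ?_, ?_⟩
  · rintro w ⟨u, hu, rfl⟩
    obtain ⟨u', hu', hxu⟩ := hUsurj u hu
    have hxu' : (x : Matrix (Fin d ⊕ Fin d) (Fin d ⊕ Fin d) F) *ᵥ u' ∈ U := by
      have : (x : Matrix (Fin d ⊕ Fin d) (Fin d ⊕ Fin d) F) *ᵥ u' = u - u' := by
        rw [← hxu]; abel
      rw [this]
      exact U.sub_mem hu hu'
    -- `T u = y (T u') + T u'`
    have hTu : T u = ((g⁻¹ * x * g : GL (Fin d ⊕ Fin d) F) :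
        Matrix (Fin d ⊕ Fin d) (Fin d ⊕ Fin d) F) *ᵥ (T u') + T u' := by
      simp only [T, Matrix.mulVecLin_apply, Matrix.mulVec_mulVec, Units.val_mul]
      rw [mul_assoc, mul_assoc, ← Units.val_mul g, mul_inv_cancel, Units.val_one, mul_one,
        ← Matrix.mulVec_mulVec, ← Matrix.mulVec_add, hxu]
    have hpol : QuadraticMap.polar Q
        (((g⁻¹ * x * g : GL (Fin d ⊕ Fin d) F) :
          Matrix (Fin d ⊕ Fin d) (Fin d ⊕ Fin d) F) *ᵥ (T u')) (T u') = 0 := by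
      rw [hQf]
      have h1 : ((g⁻¹ * x * g : GL (Fin d ⊕ Fin d) F) :
          Matrix (Fin d ⊕ Fin d) (Fin d ⊕ Fin d) F) *ᵥ (T u') =
          T ((x : Matrix (Fin d ⊕ Fin d) (Fin d ⊕ Fin d) F) *ᵥ u') := by
        simp only [T, Matrix.mulVecLin_apply, Matrix.mulVec_mulVec, Units.val_mul]
        rw [mul_assoc, mul_assoc, ← Units.val_mul g, mul_inv_cancel, Units.val_one, mul_one]
      rw [h1]
      have h2 := hginv ((x : Matrix (Fin d ⊕ Fin d) (Fin d ⊕ Fin d) F) *ᵥ u') u'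
      change Cfsg.sympForm d F (T _) (T _) = _ at h2
      rw [h2]
      exact hUiso _ hxu' _ hu'
    show Q (T u) = 0
    rw [hTu]
    have h3 : Q (((g⁻¹ * x * g : GL (Fin d ⊕ Fin d) F) :
          Matrix (Fin d ⊕ Fin d) (Fin d ⊕ Fin d) F) *ᵥ (T u') + T u') =
        Q (((g⁻¹ * x * g : GL (Fin d ⊕ Fin d) F) :
          Matrix (Fin d ⊕ Fin d) (Fin d ⊕ Fin d) F) *ᵥ (T u')) + Q (T u') +
        QuadraticMap.polar Q (((g⁻¹ * x * g : GL (Fin d ⊕ Fin d) F) :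
          Matrix (Fin d ⊕ Fin d) (Fin d ⊕ Fin d) F) *ᵥ (T u')) (T u') := by
      unfold QuadraticMap.polar
      ring
    rw [h3, hpol, hQy, add_zero]
    exact CharTwo.add_self_eq_zero _
  · have hfr : finrank F (U.map T) = d := by
      rw [← (Submodule.equivMapOfInjective T hTinj U).finrank_eq]
      exact hUdim
    rw [finrank_top, Module.finrank_fintype_fun_eq_card, Fintype.card_sum, Fintype.card_fin, hfr]
    ring

/-- **K-SpO-7** (id 598307). -/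
theorem exists_bad_odd_minus {q : ℕ} (hq : Fintype.card F = q) (d : ℕ) (hd : 1 ≤ d)
    (Q : (Fin d ⊕ Fin d → F) → F) (hQ : Cfsg.Geo.IsNondegenerateQuadraticForm Q)
    (hQf : ∀ u v, QuadraticMap.polar Q u v = Cfsg.sympForm d F u v)
    (hminus : ¬ Cfsg.Geo.IsPlusTypeOn Q ⊤) (r : ℕ) (hr : r.Prime) (hr2 : r ≠ 2)
    (hdiv : r ∣ q ^ d - 1) :
    ∃ x ∈ Cfsg.spGL d F,
      ((x ^ r : GL (Fin d ⊕ Fin d) F) : Matrix (Fin d ⊕ Fin d) (Fin d ⊕ Fin d) F) = 1 ∧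
      (∀ z : F, (x : Matrix (Fin d ⊕ Fin d) (Fin d ⊕ Fin d) F) ≠
        z • (1 : Matrix (Fin d ⊕ Fin d) (Fin d ⊕ Fin d) F)) ∧
      ∀ g ∈ Cfsg.spGL d F, g⁻¹ * x * g ∉ Cfsg.Geo.quadSimilarityGroup Q := by
  classical
  subst hq
  have : NeZero d := ⟨by omega⟩
  have : Fact (Nat.Prime 2) := ⟨Nat.prime_two⟩
  have : Fact r.Prime := ⟨hr⟩
  have : Fintype (FiniteField.Extension F 2 d) := Fintype.ofFinite _
  have hKcard : Fintype.card (FiniteField.Extension F 2 d)ˣ = Fintype.card F ^ d - 1 := by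
    rw [Fintype.card_units, ← Nat.card_eq_fintype_card, FiniteField.natCard_extension,
      Nat.card_eq_fintype_card]
  obtain ⟨ζ, hζ⟩ := exists_prime_orderOf_dvd_card r (hKcard ▸ hdiv)
  obtain ⟨b⟩ : Nonempty (Basis (Fin d) F (FiniteField.Extension F 2 d)) :=
    ⟨Module.finBasisOfFinrankEq F _ (FiniteField.finrank_extension F 2 d)⟩
  obtain ⟨φ, hφ⟩ : ∃ φ : FiniteField.Extension F 2 d →ₐ[F] Matrix (Fin d) (Fin d) F,
      φ = Algebra.leftMulMatrix b := ⟨_, rfl⟩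
  obtain ⟨G, hG⟩ : ∃ G : GL (Fin d) F, G = Units.map (φ : _ →* Matrix (Fin d) (Fin d) F) ζ :=
    ⟨_, rfl⟩
  have hGval : (G : Matrix (Fin d) (Fin d) F) = φ (ζ : FiniteField.Extension F 2 d) := by
    rw [hG]; rfl
  have hGr : G ^ r = 1 := by
    rw [hG, ← map_pow, ← hζ, pow_orderOf_eq_one, map_one]
  -- `ζ - 1` is invertible
  have hζ1 : (ζ : FiniteField.Extension F 2 d) - 1 ≠ 0 := by
    intro h
    have h1 : ζ = 1 := Units.ext (sub_eq_zero.mp h)
    rw [h1, orderOf_one] at hζ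
    exact hr.one_lt.ne' hζ.symm
  have hsurj : ∀ a : Fin d → F, ∃ c : Fin d → F,
      (G : Matrix (Fin d) (Fin d) F) *ᵥ c + c = a := by
    intro a
    refine ⟨φ (((ζ : FiniteField.Extension F 2 d) - 1)⁻¹) *ᵥ a, ?_⟩
    have h1 : (G : Matrix (Fin d) (Fin d) F) - 1 = φ ((ζ : FiniteField.Extension F 2 d) - 1) := by
      rw [hGval, map_sub, map_one]
    have h2 : φ ((ζ : FiniteField.Extension F 2 d) - 1) *
        φ (((ζ : FiniteField.Extension F 2 d) - 1)⁻¹) = 1 := by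
      rw [← map_mul, mul_inv_cancel₀ hζ1, map_one]
    have h3 : ∀ c : Fin d → F, (G : Matrix (Fin d) (Fin d) F) *ᵥ c + c =
        ((G : Matrix (Fin d) (Fin d) F) - 1) *ᵥ c := by
      intro c
      rw [Matrix.sub_mulVec, Matrix.one_mulVec, sub_eq_add_neg, CharTwo.neg_eq]
    rw [h3, h1, Matrix.mulVec_mulVec, h2, Matrix.one_mulVec]
  let Dhom : GL (Fin d) F →* ↥(Cfsg.isometryGroup F (⇑(Cfsg.Agent.Lib.Helper50.QPlus d F))) :=
    MonoidHom.mk' Cfsg.Agent.Lib.Helper50.diagPlusO Cfsg.Agent.Lib.Helper50.diagPlusO_mul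
  have hxr : Dhom G ^ r = 1 := by rw [← map_pow, hGr, map_one]
  have hval : ((Dhom G : GL (Fin d ⊕ Fin d) F) : Matrix (Fin d ⊕ Fin d) (Fin d ⊕ Fin d) F) =
      Matrix.fromBlocks (G : Matrix (Fin d) (Fin d) F) 0 0
        ((G⁻¹ : GL (Fin d) F) : Matrix (Fin d) (Fin d) F)ᵀ :=
    Cfsg.Agent.Lib.Helper50.diagPlusO_val G
  have hGG : (G : Matrix (Fin d) (Fin d) F)ᵀ *ᵥ
      (((G⁻¹ : GL (Fin d) F) : Matrix (Fin d) (Fin d) F)ᵀ *ᵥ (0 : Fin d → F)) = 0 := by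
    simp
  -- membership in `Sp`
  have hxsp : (Dhom G : GL (Fin d ⊕ Fin d) F) ∈ Cfsg.spGL d F := by
    intro u v
    change Cfsg.sympForm d F
      (((Dhom G : GL (Fin d ⊕ Fin d) F) : Matrix (Fin d ⊕ Fin d) (Fin d ⊕ Fin d) F) *ᵥ u)
      (((Dhom G : GL (Fin d ⊕ Fin d) F) : Matrix (Fin d ⊕ Fin d) (Fin d ⊕ Fin d) F) *ᵥ v) = _
    rw [hval]
    obtain ⟨u₁, u₂, rfl⟩ : ∃ u₁ u₂, u = Sum.elim u₁ u₂ :=
      ⟨u ∘ Sum.inl, u ∘ Sum.inr, by funext i; cases i <;> rfl⟩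
    obtain ⟨v₁, v₂, rfl⟩ : ∃ v₁ v₂, v = Sum.elim v₁ v₂ :=
      ⟨v ∘ Sum.inl, v ∘ Sum.inr, by funext i; cases i <;> rfl⟩
    have key : ∀ a c : Fin d → F, ((G : Matrix (Fin d) (Fin d) F) *ᵥ a) ⬝ᵥ
        (((G⁻¹ : GL (Fin d) F) : Matrix (Fin d) (Fin d) F)ᵀ *ᵥ c) = a ⬝ᵥ c := by
      intro a c
      rw [← Matrix.vecMul_transpose, ← Matrix.dotProduct_mulVec, Matrix.mulVec_mulVec,
        ← Matrix.transpose_mul, ← Units.val_mul, inv_mul_cancel, Units.val_one,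
        Matrix.transpose_one, Matrix.one_mulVec]
    have key' : ∀ a c : Fin d → F,
        (((G⁻¹ : GL (Fin d) F) : Matrix (Fin d) (Fin d) F)ᵀ *ᵥ c) ⬝ᵥ
          ((G : Matrix (Fin d) (Fin d) F) *ᵥ a) = c ⬝ᵥ a := by
      intro a c
      rw [dotProduct_comm, key, dotProduct_comm]
    unfold Cfsg.sympForm
    simp only [Matrix.J, Matrix.fromBlocks_mulVec, sumElim_dotProduct_sumElim,
      Matrix.zero_mulVec, add_zero, zero_add, Matrix.neg_mulVec, Matrix.one_mulVec,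
      dotProduct_neg, Sum.elim_comp_inl, Sum.elim_comp_inr, key, key']
  refine ⟨(Dhom G : GL (Fin d ⊕ Fin d) F), hxsp, ?_, ?_, ?_⟩
  · rw [← Subgroup.coe_pow, hxr]
    rfl
  · intro z hz
    -- `z ^ 2 = 1` from the symplectic form
    obtain ⟨u, v, huv⟩ := Cfsg.Agent.Lib.Helper50.sf_ne_zero (F := F) d (by omega)
    have h1 := hxsp u v
    change Cfsg.sympForm d F
      (((Dhom G : GL (Fin d ⊕ Fin d) F) : Matrix (Fin d ⊕ Fin d) (Fin d ⊕ Fin d) F) *ᵥ u)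
      (((Dhom G : GL (Fin d ⊕ Fin d) F) : Matrix (Fin d ⊕ Fin d) (Fin d ⊕ Fin d) F) *ᵥ v) = _ at h1
    rw [hz, Matrix.smul_mulVec, Matrix.smul_mulVec, Matrix.one_mulVec, Matrix.one_mulVec,
      Cfsg.Agent.Lib.Helper50.sf_smul_smul] at h1
    have hzz : z * z = 1 := by
      have h2 : (z * z - 1) * Cfsg.sympForm d F u v = 0 := by linear_combination h1
      rcases mul_eq_zero.mp h2 with h | h
      · exact sub_eq_zero.mp h
      · exact absurd h huv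
    have hz1 : z = 1 := Cfsg.Agent.Lib.Helper50.sq_eq_one_char_two hzz
    rw [hz1, one_smul, hval] at hz
    -- so `G = 1`
    have hG1 : (G : Matrix (Fin d) (Fin d) F) = 1 := by
      have := congrArg Matrix.toBlocks₁₁ hz
      rw [Matrix.toBlocks_fromBlocks₁₁, ← Matrix.fromBlocks_one, Matrix.toBlocks_fromBlocks₁₁] at this
      exact this
    obtain ⟨c, hc⟩ := hsurj (fun _ => 1)
    rw [hG1, Matrix.one_mulVec, CharTwo.add_self_eq_zero] at hc
    have := congrFun hc ⟨0, by omega⟩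
    simp at this
  · apply no_conj_of_lagrangian d hd Q hQf hminus _ hxsp (LinearMap.range (inlMap (F := F) d))
    · rw [LinearMap.finrank_range_of_inj (inlMap_injective d), Module.finrank_fintype_fun_eq_card,
        Fintype.card_fin]
    · rintro _ ⟨a, rfl⟩ _ ⟨c, rfl⟩
      exact sympForm_elim_zero d a c
    · rintro _ ⟨a, rfl⟩
      obtain ⟨c, hc⟩ := hsurj a
      refine ⟨inlMap d c, ⟨c, rfl⟩, ?_⟩
      rw [hval, inlMap_apply, inlMap_apply, Matrix.fromBlocks_mulVec]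
      simp only [Matrix.zero_mulVec, add_zero]
      rw [← hc]
      funext i
      cases i <;> simp

end Cfsg.Agent.Lib.Helper54.SpO
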