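import Cfsg.Agent.Lib.Helper54.PReduced

set_option autoImplicit false
open Cfsg

namespace Cfsg.Agent.Lib.Helper54

variable {M : Type*} [Group M]

/-- trace of an element centralised by `S` of an abelian normal subgroup `Z` -/
theorem exists_trace [Finite M] (S : Subgroup M) (Z : Subgroup M) [hZn : Z.Normal]
    (hZ : ∀ a ∈ Z, ∀ b ∈ Z, a * b = b * a) (z : M) (hz : z ∈ Z)
    (hSz : ∀ s ∈ S, s * z = z * s) (W : Subgroup M)
    (hW : ∀ g : M, g * z * g⁻¹ * z⁻¹ ∈ W) :
    ∃ t ∈ Z, (∀ g : M, g * t = t * g) ∧ t * (z ^ S.index)⁻¹ ∈ W := by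
  classical
  have : Fintype (M ⧸ S) := Fintype.ofFinite _
  let _ : CommGroup ↥Z :=
    { (inferInstance : Group ↥Z) with mul_comm := fun a b => Subtype.ext (hZ a a.2 b b.2) }
  let F : M ⧸ S → ↥Z := fun q => ⟨q.out * z * q.out⁻¹, hZn.conj_mem z hz q.out⟩
  have hF : ∀ g : M, F (g : M ⧸ S) = ⟨g * z * g⁻¹, hZn.conj_mem z hz g⟩ := by
    intro g
    obtain ⟨s, hs⟩ := QuotientGroup.mk_out_eq_mul S g
    apply Subtype.ext
    show (g : M ⧸ S).out * z * (g : M ⧸ S).out⁻¹ = g * z * g⁻¹
    rw [hs]
    have := hSz s s.2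
    calc g * ↑s * z * (g * ↑s)⁻¹ = g * (↑s * z) * (↑s)⁻¹ * g⁻¹ := by group
      _ = g * (z * ↑s) * (↑s)⁻¹ * g⁻¹ := by rw [this]
      _ = g * z * g⁻¹ := by group
  let t : ↥Z := ∏ q, F q
  refine ⟨t, t.2, ?_, ?_⟩
  · intro g
    have h1 : (MulAut.conjNormal g : MulAut ↥Z) t = t := by
      show (MulAut.conjNormal g : MulAut ↥Z) (∏ q, F q) = ∏ q, F q
      rw [map_prod]
      rw [← Equiv.prod_comp (MulAction.toPerm g : Equiv.Perm (M ⧸ S)) F]
      apply Finset.prod_congr rfl
      intro q _
      induction q using QuotientGroup.induction_on with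
      | H x =>
        show _ = F (((g * x : M)) : M ⧸ S)
        rw [hF, hF]
        apply Subtype.ext
        rw [MulAut.conjNormal_apply]
        show g * (x * z * x⁻¹) * g⁻¹ = g * x * z * (g * x)⁻¹
        group
    have h2 := congrArg Subtype.val h1
    rw [MulAut.conjNormal_apply] at h2
    calc g * ↑t = g * ↑t * g⁻¹ * g := by group
      _ = ↑t * g := by rw [h2]
  · have h3 : ∀ q : M ⧸ S, ((F q : ↥Z) : M) * z⁻¹ ∈ W := by
      intro q
      exact hW q.out
    have h4 : ∀ s : Finset (M ⧸ S), ((∏ q ∈ s, F q : ↥Z) : M) * (z ^ s.card)⁻¹ ∈ W := by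
      intro s
      induction s using Finset.induction_on with
      | empty => simp
      | insert a s ha ih =>
        rw [Finset.prod_insert ha, Finset.card_insert_of_notMem ha]
        have h5 := W.mul_mem (h3 a) ih
        have hc : (z ^ s.card) * z = z * z ^ s.card := by
          rw [← pow_succ, ← pow_succ']
        have hzc : ∀ y : ↥Z, (y : M) * z⁻¹ = z⁻¹ * y := by
          intro y
          have := hZ y y.2 z hz
          calc (y : M) * z⁻¹ = z⁻¹ * (z * y) * z⁻¹ := by group
            _ = z⁻¹ * (y * z) * z⁻¹ := by rw [this]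
            _ = z⁻¹ * y := by group
        convert h5 using 1
        rw [Subgroup.coe_mul, pow_succ, mul_inv_rev]
        have := hzc (∏ q ∈ s, F q)
        calc (F a : M) * ↑(∏ q ∈ s, F q) * (z⁻¹ * (z ^ s.card)⁻¹)
            = (F a : M) * (↑(∏ q ∈ s, F q) * z⁻¹) * (z ^ s.card)⁻¹ := by group
          _ = (F a : M) * (z⁻¹ * ↑(∏ q ∈ s, F q)) * (z ^ s.card)⁻¹ := by rw [this]
          _ = _ := by group
    have h6 := h4 Finset.univ
    rw [Finset.card_univ, ← Nat.card_eq_fintype_card] at h6
    exact h6

open scoped commutatorElement in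
/-- elements of `Z_M` commute with `M` modulo `[Z_M, O^p(M)]` -/
theorem centerClosure_commutator_top [Finite M] {p : ℕ} [Fact p.Prime] :
    ⁅centerClosure p M, (⊤ : Subgroup M)⁆ = ⁅centerClosure p M, pResidual p M⁆ := by
  haveI hZn := centerClosure_normal p M
  haveI hRn := pResidual_normal p M
  apply le_antisymm _ (Subgroup.commutator_mono le_rfl le_top)
  have hWn : (⁅centerClosure p M, pResidual p M⁆).Normal := inferInstance
  -- the subgroup of elements central modulo W
  have key : centerClosure p M ≤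
      (Subgroup.center (M ⧸ ⁅centerClosure p M, pResidual p M⁆)).comap
        (QuotientGroup.mk' ⁅centerClosure p M, pResidual p M⁆) := by
    conv_lhs => unfold centerClosure
    apply iSup_le
    intro S
    unfold omegaOne
    rw [Subgroup.closure_le]
    rintro z ⟨hz', hzp⟩
    obtain ⟨hzS, hzC⟩ := Subgroup.mem_inf.1 hz'
    have hzZ : z ∈ centerClosure p M :=
      omegaOne_center_sylow_le_centerClosure S (mem_omegaOne hz' hzp)
    rw [SetLike.mem_coe, Subgroup.mem_comap, Subgroup.mem_center_iff]
    intro q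
    induction q using QuotientGroup.induction_on with
    | H g =>
      show ((g * z : M) : M ⧸ ⁅centerClosure p M, pResidual p M⁆) =
        ((z * g : M) : M ⧸ ⁅centerClosure p M, pResidual p M⁆)
      rw [QuotientGroup.eq]
      -- g = r * s
      have h1 : g ∈ pResidual p M ⊔ (S : Subgroup M) := by
        rw [pResidual_sup_sylow S]; exact Subgroup.mem_top _
      obtain ⟨r, hr, s, hs, rfl⟩ := exists_mul_of_mem_sup_of_le_normalizer
        (by rw [Subgroup.normalizer_eq_top]; exact le_top) h1
      have h2 : s * z = z * s := ((Subgroup.mem_centralizer_iff.1 hzC) s hs)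
      have h3 : (r * s * z)⁻¹ * (z * (r * s)) = s⁻¹ * ⁅z⁻¹, r⁻¹⁆ * s⁻¹⁻¹ := by
        rw [commutatorElement_def]
        calc (r * s * z)⁻¹ * (z * (r * s)) = (r * (s * z))⁻¹ * (z * (r * s)) := by group
          _ = (r * (z * s))⁻¹ * (z * (r * s)) := by rw [h2]
          _ = _ := by group
      rw [h3]
      exact hWn.conj_mem _ (Subgroup.commutator_mem_commutator ((centerClosure p M).inv_mem hzZ)
        ((pResidual p M).inv_mem hr)) _
  rw [Subgroup.commutator_le]
  intro z hz g _
  have h1 := key ((centerClosure p M).inv_mem hz)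
  rw [Subgroup.mem_comap, Subgroup.mem_center_iff] at h1
  have h2 := h1 ((g⁻¹ : M) : M ⧸ _)
  have h3 : ((g⁻¹ * z⁻¹ : M) : M ⧸ ⁅centerClosure p M, pResidual p M⁆) =
      ((z⁻¹ * g⁻¹ : M) : M ⧸ ⁅centerClosure p M, pResidual p M⁆) := h2
  rw [QuotientGroup.eq] at h3
  convert h3 using 1
  rw [commutatorElement_def]; group

/-- `Z_M = Ω₁(Z(M)) [Z_M, O^p(M)]` under characteristic `p` -/
theorem centerClosure_eq_sup [Finite M] {p : ℕ} [Fact p.Prime]
    (hchar : Subgroup.centralizer (pCore p M : Set M) ≤ pCore p M) :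
    centerClosure p M =
      omegaOne p ((⊤ : Subgroup M) ⊓ Subgroup.centralizer (((⊤ : Subgroup M)) : Set M)) ⊔
        ⁅centerClosure p M, pResidual p M⁆ := by
  haveI hZn := centerClosure_normal p M
  haveI hRn := pResidual_normal p M
  have hZe := (isPReducedNormal_centerClosure (p := p) hchar).2.1
  have hZc : ∀ a ∈ centerClosure p M, ∀ b ∈ centerClosure p M, a * b = b * a := by
    intro a ha b hb
    haveI := hZe.1
    exact congrArg Subtype.val (mul_comm' (⟨a, ha⟩ : ↥(centerClosure p M)) ⟨b, hb⟩)
  apply le_antisymm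
  · -- generators
    have key : ∀ (S : Sylow p M) (z : M),
        z ∈ (S : Subgroup M) ⊓ Subgroup.centralizer ((S : Subgroup M) : Set M) → z ^ p = 1 →
        z ∈ omegaOne p ((⊤ : Subgroup M) ⊓ Subgroup.centralizer (((⊤ : Subgroup M)) : Set M)) ⊔
          ⁅centerClosure p M, pResidual p M⁆ := by
      intro S z hz' hzp
      obtain ⟨hzS, hzC⟩ := Subgroup.mem_inf.1 hz'
      have hzZ : z ∈ centerClosure p M :=
        omegaOne_center_sylow_le_centerClosure S (mem_omegaOne hz' hzp)
      have hW : ∀ g : M, g * z * g⁻¹ * z⁻¹ ∈ ⁅centerClosure p M, pResidual p M⁆ := by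
        intro g
        rw [← centerClosure_commutator_top]
        have := Subgroup.commutator_mem_commutator hzZ (Subgroup.mem_top g)
        have h2 := (⁅centerClosure p M, (⊤ : Subgroup M)⁆).inv_mem this
        convert h2 using 1
        rw [commutatorElement_def]; group
      obtain ⟨t, htZ, htc, htW⟩ := exists_trace (S : Subgroup M) (centerClosure p M) hZc z hzZ
        (fun s hs => (Subgroup.mem_centralizer_iff.1 hzC) s hs) _ hW
      have ht : t ∈ omegaOne p ((⊤ : Subgroup M) ⊓
          Subgroup.centralizer (((⊤ : Subgroup M)) : Set M)) := by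
        apply mem_omegaOne
        · refine Subgroup.mem_inf.2 ⟨Subgroup.mem_top _, ?_⟩
          rw [Subgroup.mem_centralizer_iff]
          intro g _
          exact htc g
        · exact hZe.2 t htZ
      have h1 : z ^ (S : Subgroup M).index ∈
          omegaOne p ((⊤ : Subgroup M) ⊓ Subgroup.centralizer (((⊤ : Subgroup M)) : Set M)) ⊔
          ⁅centerClosure p M, pResidual p M⁆ := by
        have h2 := Subgroup.mul_mem _
          (Subgroup.mem_sup_right (Subgroup.inv_mem _ htW) :
            (t * (z ^ (S : Subgroup M).index)⁻¹)⁻¹ ∈ omegaOne p ((⊤ : Subgroup M) ⊓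
              Subgroup.centralizer (((⊤ : Subgroup M)) : Set M)) ⊔
              ⁅centerClosure p M, pResidual p M⁆)
          (Subgroup.mem_sup_left ht :
            t ∈ omegaOne p ((⊤ : Subgroup M) ⊓
              Subgroup.centralizer (((⊤ : Subgroup M)) : Set M)) ⊔
              ⁅centerClosure p M, pResidual p M⁆)
        convert h2 using 1
        group
      have hcop : (orderOf z).Coprime (S : Subgroup M).index := by
        have h3 : orderOf z ∣ p := orderOf_dvd_of_pow_eq_one hzp
        have h4 : (p).Coprime (S : Subgroup M).index :=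
          (Nat.Prime.coprime_iff_not_dvd Fact.out).2 S.not_dvd_index
        exact Nat.Coprime.coprime_dvd_left h3 h4
      obtain ⟨k, hk⟩ := exists_pow_eq_self_of_coprime hcop.symm
      rw [← hk]
      exact Subgroup.pow_mem _ h1 k
    conv_lhs => unfold centerClosure
    apply iSup_le
    intro S
    unfold omegaOne
    rw [Subgroup.closure_le]
    rintro z ⟨hz', hzp⟩
    exact key S z hz' hzp
  · apply sup_le
    · obtain ⟨S⟩ : Nonempty (Sylow p M) := inferInstance
      refine le_trans ?_ (omegaOne_center_sylow_le_centerClosure S)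
      apply omegaOne_mono
      intro x hx
      obtain ⟨_, hxC⟩ := Subgroup.mem_inf.1 hx
      have h1 : x ∈ Subgroup.centralizer (pCore p M : Set M) :=
        Subgroup.centralizer_le (by intro y _; exact Subgroup.mem_top y) hxC
      refine Subgroup.mem_inf.2 ⟨pCore_le_sylow S (hchar h1), ?_⟩
      exact Subgroup.centralizer_le (by intro y _; exact Subgroup.mem_top y) hxC
    · exact Subgroup.commutator_le_left _ _

end Cfsg.Agent.Lib.Helper54
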