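import Cfsg.Agent.Lib.Helper54.Conj

set_option autoImplicit false

namespace Cfsg.Agent.Lib.Helper54

variable {G : Type*} [Group G]

/-- conjugation by `s ∈ N(C) ∩ N(P)` permutes the cosets of `P` in `C` -/
theorem exists_conj_quotient_equiv (C P : Subgroup G) (s : G)
    (hsC : s ∈ Subgroup.normalizer (C : Set G)) (hsP : s ∈ Subgroup.normalizer (P : Set G)) :
    ∃ e : (↥C ⧸ P.subgroupOf C) ≃ (↥C ⧸ P.subgroupOf C),
      ∀ g : ↥C, e (g : ↥C ⧸ P.subgroupOf C) =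
        ((⟨s * g * s⁻¹, (Subgroup.mem_normalizer_iff.1 hsC g).1 g.2⟩ : ↥C) :
          ↥C ⧸ P.subgroupOf C) := by
  have key : ∀ (t : G) (htC : t ∈ Subgroup.normalizer (C : Set G))
      (htP : t ∈ Subgroup.normalizer (P : Set G)) (a b : ↥C),
      QuotientGroup.leftRel (P.subgroupOf C) a b →
      QuotientGroup.leftRel (P.subgroupOf C)
        (⟨t * a * t⁻¹, (Subgroup.mem_normalizer_iff.1 htC a).1 a.2⟩ : ↥C)
        (⟨t * b * t⁻¹, (Subgroup.mem_normalizer_iff.1 htC b).1 b.2⟩ : ↥C) := by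
    intro t htC htP a b hab
    rw [QuotientGroup.leftRel_apply] at hab ⊢
    rw [Subgroup.mem_subgroupOf] at hab ⊢
    have h1 := (Subgroup.mem_normalizer_iff.1 htP _).1 hab
    have e : ((⟨t * a * t⁻¹, (Subgroup.mem_normalizer_iff.1 htC a).1 a.2⟩ : ↥C)⁻¹ *
        (⟨t * b * t⁻¹, (Subgroup.mem_normalizer_iff.1 htC b).1 b.2⟩ : ↥C) : ↥C).1 =
        t * ((a⁻¹ * b : ↥C) : G) * t⁻¹ := by
      show (t * (a : G) * t⁻¹)⁻¹ * (t * (b : G) * t⁻¹) = t * ((a : G)⁻¹ * (b : G)) * t⁻¹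
      group
    rw [e]
    exact h1
  have hsC' := Subgroup.inv_mem _ hsC
  have hsP' := Subgroup.inv_mem _ hsP
  let f : (↥C ⧸ P.subgroupOf C) → (↥C ⧸ P.subgroupOf C) :=
    Quotient.map' (fun g : ↥C => (⟨s * g * s⁻¹, (Subgroup.mem_normalizer_iff.1 hsC g).1 g.2⟩ : ↥C))
      (fun a b hab => key s hsC hsP a b hab)
  let f' : (↥C ⧸ P.subgroupOf C) → (↥C ⧸ P.subgroupOf C) :=
    Quotient.map' (fun g : ↥C =>
      (⟨s⁻¹ * g * s⁻¹⁻¹, (Subgroup.mem_normalizer_iff.1 hsC' g).1 g.2⟩ : ↥C))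
      (fun a b hab => key s⁻¹ hsC' hsP' a b hab)
  refine ⟨⟨f, f', ?_, ?_⟩, ?_⟩
  · intro q
    induction q using Quotient.inductionOn' with
    | h g =>
      show f' (f (Quotient.mk'' g)) = Quotient.mk'' g
      simp only [f, f', Quotient.map'_mk'']
      congr 1
      apply Subtype.ext
      show s⁻¹ * (s * (g : G) * s⁻¹) * s⁻¹⁻¹ = g
      group
  · intro q
    induction q using Quotient.inductionOn' with
    | h g =>
      show f (f' (Quotient.mk'' g)) = Quotient.mk'' g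
      simp only [f, f', Quotient.map'_mk'']
      congr 1
      apply Subtype.ext
      show s * (s⁻¹ * (g : G) * s⁻¹⁻¹) * s⁻¹ = g
      group
  · intro g
    rfl


/-- the trace map `x ↦ ∏_{q ∈ C/P} q x q⁻¹` on an abelian subgroup `V` normalised by `C` -/
theorem exists_traceMap [Finite G] (C P V : Subgroup G) (hPC : P ≤ C)
    (hCV : C ≤ Subgroup.normalizer (V : Set G)) (hV : ∀ a ∈ V, ∀ b ∈ V, a * b = b * a) :
    ∃ τ : G → G,
      (∀ x ∈ V, τ x ∈ V) ∧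
      (∀ x ∈ V, ∀ x' ∈ V, τ (x * x') = τ x * τ x') ∧
      (∀ c ∈ V, (∀ g ∈ C, g * c = c * g) → τ c = c ^ P.relIndex C) ∧
      (∀ x ∈ V, (∀ u ∈ P, u * x = x * u) → ∀ g ∈ C, g * τ x = τ x * g) ∧
      (∀ x ∈ V, (∀ u ∈ P, u * x = x * u) → ∀ s : G, s ∈ Subgroup.normalizer (C : Set G) →
        s ∈ Subgroup.normalizer (P : Set G) → s ∈ Subgroup.normalizer (V : Set G) →
        τ (s * x * s⁻¹) = s * τ x * s⁻¹) ∧
      (∀ x ∈ V, ∀ W : Subgroup G, (∀ g ∈ C, g * x * g⁻¹ * x⁻¹ ∈ W) →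
        τ x * (x ^ P.relIndex C)⁻¹ ∈ W) := by
  classical
  have : Fintype (↥C ⧸ P.subgroupOf C) := Fintype.ofFinite _
  let _ : CommGroup ↥V :=
    { (inferInstance : Group ↥V) with mul_comm := fun a b => Subtype.ext (hV a a.2 b b.2) }
  have hconj : ∀ (g : G), g ∈ C → ∀ x ∈ V, g * x * g⁻¹ ∈ V := fun g hg x hx =>
    (Subgroup.mem_normalizer_iff.1 (hCV hg) x).1 hx
  let F : ↥V → (↥C ⧸ P.subgroupOf C) → ↥V := fun x q =>
    ⟨(q.out : G) * x * (q.out : G)⁻¹, hconj _ q.out.2 x x.2⟩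
  let τ : G → G := fun x => if hx : x ∈ V then ((∏ q, F ⟨x, hx⟩ q : ↥V) : G) else 1
  have hτ : ∀ x (hx : x ∈ V), τ x = ((∏ q, F ⟨x, hx⟩ q : ↥V) : G) := by
    intro x hx
    simp only [τ, dif_pos hx]
  have hF : ∀ (x : ↥V), (∀ u ∈ P, u * (x : G) = x * u) → ∀ g : ↥C,
      F x (g : ↥C ⧸ P.subgroupOf C) = ⟨(g : G) * x * (g : G)⁻¹, hconj _ g.2 x x.2⟩ := by
    intro x hx g
    obtain ⟨u, hu⟩ := QuotientGroup.mk_out_eq_mul (P.subgroupOf C) g
    apply Subtype.ext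
    show ((g : ↥C ⧸ P.subgroupOf C).out : G) * x * ((g : ↥C ⧸ P.subgroupOf C).out : G)⁻¹ =
      (g : G) * x * (g : G)⁻¹
    rw [hu]
    have h1 := hx (u : ↥C) (Subgroup.mem_subgroupOf.1 u.2)
    show ((g : G) * ((u : ↥C) : G)) * x * ((g : G) * ((u : ↥C) : G))⁻¹ = (g : G) * x * (g : G)⁻¹
    calc ((g : G) * ((u : ↥C) : G)) * x * ((g : G) * ((u : ↥C) : G))⁻¹
        = (g : G) * (((u : ↥C) : G) * x) * ((u : ↥C) : G)⁻¹ * (g : G)⁻¹ := by group
      _ = (g : G) * ((x : G) * ((u : ↥C) : G)) * ((u : ↥C) : G)⁻¹ * (g : G)⁻¹ := by rw [h1]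
      _ = (g : G) * x * (g : G)⁻¹ := by group
  refine ⟨τ, ?_, ?_, ?_, ?_, ?_, ?_⟩
  · intro x hx
    rw [hτ x hx]
    exact (∏ q, F ⟨x, hx⟩ q : ↥V).2
  · intro x hx x' hx'
    rw [hτ x hx, hτ x' hx', hτ _ (V.mul_mem hx hx'), ← Subgroup.coe_mul, ← Finset.prod_mul_distrib]
    congr 1
    apply Finset.prod_congr rfl
    intro q _
    apply Subtype.ext
    show (q.out : G) * (x * x') * (q.out : G)⁻¹ =
      ((q.out : G) * x * (q.out : G)⁻¹) * ((q.out : G) * x' * (q.out : G)⁻¹)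
    group
  · intro c hc hcC
    rw [hτ c hc]
    have h1 : ∀ q : ↥C ⧸ P.subgroupOf C, F ⟨c, hc⟩ q = ⟨c, hc⟩ := by
      intro q
      apply Subtype.ext
      show (q.out : G) * c * (q.out : G)⁻¹ = c
      rw [hcC _ q.out.2]
      group
    rw [Finset.prod_congr rfl (fun q _ => h1 q), Finset.prod_const, Finset.card_univ,
      ← Nat.card_eq_fintype_card]
    rfl
  · intro x hx hxP g hg
    rw [hτ x hx]
    have h1 : (⟨g * ((∏ q, F ⟨x, hx⟩ q : ↥V) : G) * g⁻¹,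
        hconj g hg _ (∏ q, F ⟨x, hx⟩ q : ↥V).2⟩ : ↥V) = ∏ q, F ⟨x, hx⟩ q := by
      let φ : ↥V →* ↥V :=
        { toFun := fun v => ⟨g * (v : G) * g⁻¹, hconj g hg v v.2⟩
          map_one' := Subtype.ext (by simp)
          map_mul' := fun a b => Subtype.ext (by
            show g * ((a : G) * (b : G)) * g⁻¹ = (g * (a : G) * g⁻¹) * (g * (b : G) * g⁻¹)
            group) }
      show φ (∏ q, F ⟨x, hx⟩ q) = ∏ q, F ⟨x, hx⟩ q
      rw [map_prod]
      rw [← Equiv.prod_comp (MulAction.toPerm (⟨g, hg⟩ : ↥C) :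
        Equiv.Perm (↥C ⧸ P.subgroupOf C)) (F ⟨x, hx⟩)]
      apply Finset.prod_congr rfl
      intro q _
      induction q using QuotientGroup.induction_on with
      | H y =>
        show _ = F ⟨x, hx⟩ ((((⟨g, hg⟩ : ↥C) * y : ↥C)) : ↥C ⧸ P.subgroupOf C)
        rw [hF ⟨x, hx⟩ hxP, hF ⟨x, hx⟩ hxP]
        apply Subtype.ext
        show g * ((y : G) * x * (y : G)⁻¹) * g⁻¹ = (g * (y : G)) * x * (g * (y : G))⁻¹
        group
    have h2 := congrArg Subtype.val h1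
    simp only at h2
    calc g * ((∏ q, F ⟨x, hx⟩ q : ↥V) : G)
        = g * ((∏ q, F ⟨x, hx⟩ q : ↥V) : G) * g⁻¹ * g := by group
      _ = ((∏ q, F ⟨x, hx⟩ q : ↥V) : G) * g := by rw [h2]
  · intro x hx hxP s hsC hsP hsV
    have hx' : s * x * s⁻¹ ∈ V := (Subgroup.mem_normalizer_iff.1 hsV x).1 hx
    have hxP' : ∀ u ∈ P, u * (s * x * s⁻¹) = (s * x * s⁻¹) * u := by
      intro u hu
      have hu' : s⁻¹ * u * s⁻¹⁻¹ ∈ P :=
        (Subgroup.mem_normalizer_iff.1 (Subgroup.inv_mem _ hsP) u).1 hu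
      have h1 := hxP _ hu'
      calc u * (s * x * s⁻¹) = s * ((s⁻¹ * u * s⁻¹⁻¹) * x) * s⁻¹ := by group
        _ = s * (x * (s⁻¹ * u * s⁻¹⁻¹)) * s⁻¹ := by rw [h1]
        _ = (s * x * s⁻¹) * u := by group
    rw [hτ x hx, hτ _ hx']
    obtain ⟨e, he⟩ := exists_conj_quotient_equiv C P s hsC hsP
    let φ : ↥V →* ↥V :=
      { toFun := fun v => ⟨s * (v : G) * s⁻¹, (Subgroup.mem_normalizer_iff.1 hsV v).1 v.2⟩
        map_one' := Subtype.ext (by simp)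
        map_mul' := fun a b => Subtype.ext (by
          show s * ((a : G) * (b : G)) * s⁻¹ = (s * (a : G) * s⁻¹) * (s * (b : G) * s⁻¹)
          group) }
    have h1 : φ (∏ q, F ⟨x, hx⟩ q) = ∏ q, F ⟨s * x * s⁻¹, hx'⟩ q := by
      rw [map_prod, ← Equiv.prod_comp e (F ⟨s * x * s⁻¹, hx'⟩)]
      apply Finset.prod_congr rfl
      intro q _
      induction q using QuotientGroup.induction_on with
      | H y =>
        rw [he y, hF ⟨x, hx⟩ hxP, hF ⟨s * x * s⁻¹, hx'⟩ hxP']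
        apply Subtype.ext
        show s * ((y : G) * x * (y : G)⁻¹) * s⁻¹ =
          (s * (y : G) * s⁻¹) * (s * x * s⁻¹) * (s * (y : G) * s⁻¹)⁻¹
        group
    have h2 := congrArg Subtype.val h1
    exact h2.symm
  · intro x hx W hW
    rw [hτ x hx]
    have h3 : ∀ q : ↥C ⧸ P.subgroupOf C, ((F ⟨x, hx⟩ q : ↥V) : G) * x⁻¹ ∈ W := by
      intro q
      exact hW _ q.out.2
    have h4 : ∀ t : Finset (↥C ⧸ P.subgroupOf C),
        ((∏ q ∈ t, F ⟨x, hx⟩ q : ↥V) : G) * (x ^ t.card)⁻¹ ∈ W := by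
      intro t
      induction t using Finset.induction_on with
      | empty => simp
      | insert a t ha ih =>
        rw [Finset.prod_insert ha, Finset.card_insert_of_notMem ha]
        have h5 := W.mul_mem (h3 a) ih
        have hzc : ∀ y : ↥V, (y : G) * x⁻¹ = x⁻¹ * y := by
          intro y
          have := hV y y.2 x hx
          calc (y : G) * x⁻¹ = x⁻¹ * (x * y) * x⁻¹ := by group
            _ = x⁻¹ * (y * x) * x⁻¹ := by rw [this]
            _ = x⁻¹ * y := by group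
        convert h5 using 1
        rw [Subgroup.coe_mul, pow_succ, mul_inv_rev]
        have := hzc (∏ q ∈ t, F ⟨x, hx⟩ q)
        calc (F ⟨x, hx⟩ a : G) * ↑(∏ q ∈ t, F ⟨x, hx⟩ q) * (x⁻¹ * (x ^ t.card)⁻¹)
            = (F ⟨x, hx⟩ a : G) * (↑(∏ q ∈ t, F ⟨x, hx⟩ q) * x⁻¹) * (x ^ t.card)⁻¹ := by group
          _ = (F ⟨x, hx⟩ a : G) * (x⁻¹ * ↑(∏ q ∈ t, F ⟨x, hx⟩ q)) * (x ^ t.card)⁻¹ := by rw [this]
          _ = _ := by group
    have h6 := h4 Finset.univ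
    rw [Finset.card_univ, ← Nat.card_eq_fintype_card] at h6
    exact h6

end Cfsg.Agent.Lib.Helper54
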