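import Mathlib
import Cfsg.Agent.Lib.Helper29.VLBase
import Cfsg.Agent.Lib.Helper03.PGroupNormal
import Cfsg.Agent.Lib.Helper03.PGroupFrattini
import Cfsg.Agent.Lib.Helper54.VLReg

/-!
# Vaughan-Lee's theorem (S3777), leaf K-D3 with the exact statement of the specification
-/

set_option autoImplicit false

namespace Cfsg.Agent.Lib.Helper54.VLD3

open Subgroup Cfsg.Agent.Lib.Helper29.VL

variable {G : Type*} [Group G] [Finite G] {p : ℕ} [hp : Fact p.Prime]

/-- the Frattini subgroup lies in the intersection of the subgroups of index `p` -/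
theorem frattini_le_phi : frattini G ≤ phi p G := by
  unfold phi
  apply le_sInf
  intro M hM
  have hco : IsCoatom M := Cfsg.Agent.Lib.Helper03.isCoatom_of_index_eq_prime hp.out M hM
  intro x hx
  exact (Cfsg.Agent.Lib.Helper03.mem_frattini_iff x).mp hx M hco

theorem exists_regular_not_mem (hG : IsPGroup p G)
    (hmin : ∀ M : Subgroup G, M.index = p → ⁅M, M⁆ ≠ commutator G)
    {M₀ : Subgroup G} (hM₀ : M₀.index = p) :
    ∃ u : G, u ∉ M₀ ∧ Subgroup.centralizer ({u} : Set G) ≤ Subgroup.zpowers u ⊔ phi p G := by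
  have hmin' : ∀ M : Subgroup G, M.index = p → ⁅M, M⁆ < commutator G := by
    intro M hM
    refine lt_of_le_of_ne ?_ (hmin M hM)
    rw [commutator_def]
    exact Subgroup.commutator_mono le_top le_top
  obtain ⟨u, hu, hle⟩ := Cfsg.Agent.Lib.Helper54.VLReg.exists_regular_not_mem hG hmin' M₀ hM₀
  exact ⟨u, hu, hle.trans (sup_le_sup_left frattini_le_phi _)⟩

end Cfsg.Agent.Lib.Helper54.VLD3
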